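import Mathlib
import Cfsg.Agent.Aschbacher.Forms

/-!
Systems of matrix units inside a matrix algebra: every such system is a tensor factor after a change of basis.
Consequences: Skolem-Noether for a matrix algebra, semisimple subalgebras with trivial centre, and independence
of simultaneous eigenvectors.
-/

set_option autoImplicit false
set_option linter.unusedSectionVars false
set_option linter.style.haveILetI false

namespace Cfsg.Agent.MaxSub.Asch

open scoped MatrixGroups Matrix Kronecker
open Module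

variable {ι : Type} [Fintype ι] [DecidableEq ι] {F : Type*} [Field F]
variable {X : Type} [Fintype X] [DecidableEq X]

/-- A system of matrix units indexed by `X`. -/
structure IsUnits (E : X → X → Matrix ι ι F) : Prop where
  mul : ∀ x y z w, E x y * E z w = if y = z then E x w else 0
  sum : ∑ x, E x x = 1

/-- Transport of a matrix algebra along a bijection of indices and a change of basis. -/
noncomputable def tr {κ : Type} [Fintype κ] [DecidableEq κ] (e : ι ≃ κ) (P : GL ι F) :
    Matrix κ κ F ≃ₐ[F] Matrix ι ι F :=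
  (Matrix.reindexAlgEquiv F F e.symm).trans
    (AlgEquiv.ofAlgHom
      { toFun := fun M => (P : Matrix ι ι F) * M * ((P⁻¹ : GL ι F) : Matrix ι ι F)
        map_one' := by simp
        map_mul' := fun A B => by simp [mul_assoc]
        map_zero' := by simp
        map_add' := fun A B => by simp [mul_add, add_mul]
        commutes' := fun r => by simp [Algebra.algebraMap_eq_smul_one] }
      { toFun := fun M => ((P⁻¹ : GL ι F) : Matrix ι ι F) * M * (P : Matrix ι ι F)
        map_one' := by simp
        map_mul' := fun A B => by simp [mul_assoc]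
        map_zero' := by simp
        map_add' := fun A B => by simp [mul_add, add_mul]
        commutes' := fun r => by simp [Algebra.algebraMap_eq_smul_one] }
      (AlgHom.ext fun M => by simp [mul_assoc])
      (AlgHom.ext fun M => by simp [mul_assoc]))

theorem tr_apply {κ : Type} [Fintype κ] [DecidableEq κ] (e : ι ≃ κ) (P : GL ι F) (M : Matrix κ κ F) :
    tr e P M = (P : Matrix ι ι F) * Matrix.reindexAlgEquiv F F e.symm M * ((P⁻¹ : GL ι F) : Matrix ι ι F) := rfl

theorem tr_eq_conj_glReindex {κ : Type} [Fintype κ] [DecidableEq κ] (e : ι ≃ κ) (P : GL ι F) (h : GL κ F) :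
    ((MulAut.conj P (Geo.glReindex e.symm h) : GL ι F) : Matrix ι ι F) = tr e P (h : Matrix κ κ F) := by
  simp [tr_apply, Geo.glReindex]

/-- Membership in a transported subgroup. -/
theorem mem_transport {κ : Type} [Fintype κ] [DecidableEq κ] (e : ι ≃ κ) (P : GL ι F) {S : Subgroup (GL κ F)}
    {g : GL ι F} {h : GL κ F} (hh : h ∈ S) (hg : (g : Matrix ι ι F) = tr e P (h : Matrix κ κ F)) :
    g ∈ (S.map (Geo.glReindex e.symm).toMonoidHom).map (MulAut.conj P).toMonoidHom :=
  ⟨Geo.glReindex e.symm h, ⟨h, hh, rfl⟩, Units.ext (by rw [hg, ← tr_eq_conj_glReindex]; rfl)⟩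

theorem exists_tr_preimage {κ : Type} [Fintype κ] [DecidableEq κ] (e : ι ≃ κ) (P g : GL ι F) :
    ∃ h : GL κ F, (g : Matrix ι ι F) = tr e P (h : Matrix κ κ F) := by
  refine ⟨Units.map ((tr e P).symm.toAlgHom : Matrix ι ι F →* Matrix κ κ F) g, ?_⟩
  simp

/-- The tensor form of a system of matrix units. -/
theorem IsUnits.exists_tr [Nonempty X] {E : X → X → Matrix ι ι F} (hE : IsUnits E) :
    ∃ k, Fintype.card ι = Fintype.card X * k ∧ ∀ e : ι ≃ X × Fin k, ∃ P : GL ι F,
      ∀ x y, E x y = tr e P (Matrix.single x y (1 : F) ⊗ₖ (1 : Matrix (Fin k) (Fin k) F)) := by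
  obtain ⟨x₀⟩ := ‹Nonempty X›
  set V₀ := LinearMap.range (Matrix.toLin' (E x₀ x₀)) with hV₀
  set k := finrank F V₀
  let w : Basis (Fin k) F V₀ := Module.finBasis F V₀
  have hV : ∀ x (v : ι → F), E x₀ x *ᵥ v ∈ V₀ := fun x v =>
    ⟨E x₀ x *ᵥ v, by rw [Matrix.toLin'_apply, Matrix.mulVec_mulVec, hE.mul, if_pos rfl]⟩
  have hfix : ∀ u : V₀, E x₀ x₀ *ᵥ (u : ι → F) = u := by
    rintro ⟨u, v, rfl⟩
    simp [Matrix.mulVec_mulVec, hE.mul]
  let f : (ι → F) ≃ₗ[F] (X → V₀) :=
    { toFun := fun v x => ⟨E x₀ x *ᵥ v, hV x v⟩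
      map_add' := fun a b => by funext x; ext1; simp [Matrix.mulVec_add]
      map_smul' := fun c a => by funext x; ext1; simp [Matrix.mulVec_smul]
      invFun := fun u => ∑ x, E x x₀ *ᵥ (u x : ι → F)
      left_inv := fun v => by
        simp [Matrix.mulVec_mulVec, hE.mul, ← Matrix.sum_mulVec, hE.sum]
      right_inv := fun u => by
        funext x
        ext1
        simp only [Matrix.mulVec_sum, Matrix.mulVec_mulVec, hE.mul]
        rw [Finset.sum_eq_single x]
        · rw [if_pos rfl, hfix]
        · intro y _ hy; rw [if_neg (Ne.symm hy), Matrix.zero_mulVec]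
        · simp }
  let b : Basis (X × Fin k) F (ι → F) := Basis.ofEquivFun
    ((f.trans (LinearEquiv.piCongrRight fun _ => w.equivFun)).trans (LinearEquiv.curry F F X (Fin k)).symm)
  have hb : ∀ z l, b (z, l) = E z x₀ *ᵥ (w l : ι → F) := by
    intro z l
    simp only [b, Basis.coe_ofEquivFun]
    rw [LinearEquiv.symm_apply_eq]
    funext ⟨x, m⟩
    simp only [LinearEquiv.trans_apply, LinearEquiv.piCongrRight_apply, LinearEquiv.coe_curry_symm,
      Function.uncurry, f, LinearEquiv.coe_mk, LinearMap.coe_mk, AddHom.coe_mk, Matrix.mulVec_mulVec, hE.mul]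
    rcases eq_or_ne x z with rfl | hxz
    · simp [hfix, Pi.single_apply, Prod.ext_iff, Finsupp.single_apply, eq_comm]
    · simp only [if_neg hxz, Matrix.zero_mulVec]
      rw [show (⟨0, V₀.zero_mem⟩ : V₀) = 0 from rfl]
      simp [Pi.single_apply, Prod.ext_iff, hxz]
  have hcard : Fintype.card ι = Fintype.card X * k := by
    have h := Module.finrank_eq_card_basis b
    rwa [Module.finrank_pi, Fintype.card_prod, Fintype.card_fin] at h
  refine ⟨k, hcard, fun e => ?_⟩
  let b' : Basis ι F (ι → F) := b.reindex e.symm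
  refine ⟨(Aschbacher.coordGL b')⁻¹, fun x y => ?_⟩
  set B := Aschbacher.coordGL b' with hB
  have hBcol : ∀ i, ((B⁻¹ : GL ι F) : Matrix ι ι F) *ᵥ Pi.single i 1 = b (e i) := by
    intro i
    refine Aschbacher.mulVec_gl_inj B ?_
    show (B : Matrix ι ι F) *ᵥ _ = (B : Matrix ι ι F) *ᵥ _
    rw [Aschbacher.mulVec_inv_mulVec, hB, Aschbacher.coordGL_mulVec]
    ext j
    simp [b', Pi.single_apply, Finsupp.single_apply, eq_comm]
  rw [tr_apply, inv_inv]
  have key : E x y * ((B⁻¹ : GL ι F) : Matrix ι ι F) = ((B⁻¹ : GL ι F) : Matrix ι ι F) *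
      Matrix.reindexAlgEquiv F F e.symm (Matrix.single x y (1 : F) ⊗ₖ (1 : Matrix (Fin k) (Fin k) F)) := by
    refine Matrix.ext_of_mulVec_single fun i => ?_
    rw [← Matrix.mulVec_mulVec, ← Matrix.mulVec_mulVec, hBcol, ← Prod.mk.eta (p := e i), hb,
      Matrix.mulVec_mulVec, hE.mul]
    have hR : Matrix.reindexAlgEquiv F F e.symm (Matrix.single x y (1 : F) ⊗ₖ (1 : Matrix (Fin k) (Fin k) F)) *ᵥ
        Pi.single i 1 = if y = (e i).1 then Pi.single (e.symm (x, (e i).2)) 1 else 0 := by
      funext j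
      obtain ⟨⟨a, m⟩, rfl⟩ := e.symm.surjective j
      rw [Matrix.mulVec_single_one]
      by_cases hy : y = (e i).1
      · simp [hy, Matrix.single_apply, Matrix.one_apply, Pi.single_apply, eq_comm, ite_and]
        grind
      · simp [hy, Matrix.single_apply, Matrix.one_apply]
    rw [hR]
    split_ifs with hy
    · rw [hBcol, e.apply_symm_apply, hb]
    · simp
  rw [← key, mul_assoc, ← Units.val_mul, inv_mul_cancel, Units.val_one, mul_one]

/-- A matrix commuting with a system of matrix units acts on the second tensor factor only. -/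
theorem eq_one_kronecker {k : ℕ} [Nonempty X] {T : Matrix (X × Fin k) (X × Fin k) F}
    (h : ∀ x y, T * (Matrix.single x y (1 : F) ⊗ₖ (1 : Matrix (Fin k) (Fin k) F)) =
      (Matrix.single x y (1 : F) ⊗ₖ (1 : Matrix (Fin k) (Fin k) F)) * T) :
    ∃ N : Matrix (Fin k) (Fin k) F, T = (1 : Matrix X X F) ⊗ₖ N := by
  obtain ⟨x₀⟩ := ‹Nonempty X›
  refine ⟨fun l m => T (x₀, l) (x₀, m), ?_⟩
  ext ⟨a, l⟩ ⟨b, m⟩
  have h1 := congrFun (congrFun (h b x₀) (a, l)) (x₀, m)
  simp [Matrix.mul_apply, Fintype.sum_prod_type, Matrix.single_apply, Matrix.one_apply, ite_and, eq_comm] at h1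
  show T (a, l) (b, m) = (1 : Matrix X X F) a b * T (x₀, l) (x₀, m)
  rw [Matrix.one_apply, ← h1]
  split_ifs <;> simp

/-- Matrix units with scalar centraliser form a full matrix algebra. -/
theorem IsUnits.exists_tr_full [Nonempty X] [Nonempty ι] {E : X → X → Matrix ι ι F} (hE : IsUnits E)
    (hc : ∀ T : Matrix ι ι F, (∀ x y, T * E x y = E x y * T) → ∃ c : F, T = c • 1) :
    Fintype.card ι = Fintype.card X ∧
      ∀ e : ι ≃ X, ∃ P : GL ι F, ∀ x y, E x y = tr e P (Matrix.single x y (1 : F)) := by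
  obtain ⟨k, hk, hP⟩ := hE.exists_tr
  have hk0 : 0 < k := by
    rcases Nat.eq_zero_or_pos k with rfl | h
    · simp [Fintype.card_ne_zero] at hk
    · exact h
  have hk1 : k = 1 := by
    by_contra hne
    let e : ι ≃ X × Fin k := Fintype.equivOfCardEq (by simp [hk])
    obtain ⟨P, hP⟩ := hP e
    let a : Fin k := ⟨0, hk0⟩
    let b : Fin k := ⟨1, by omega⟩
    obtain ⟨c, hc⟩ := hc (tr e P ((1 : Matrix X X F) ⊗ₖ Matrix.single a a (1 : F))) fun x y => by
      rw [hP, ← map_mul, ← map_mul, ← Matrix.mul_kronecker_mul, ← Matrix.mul_kronecker_mul]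
      simp
    have h1 : (1 : Matrix X X F) ⊗ₖ Matrix.single a a (1 : F) = c • 1 := by
      apply (tr e P).injective
      rw [hc, map_smul, map_one]
    obtain ⟨x₀⟩ := ‹Nonempty X›
    have ha := congrFun (congrFun h1 (x₀, a)) (x₀, a)
    have hb := congrFun (congrFun h1 (x₀, b)) (x₀, b)
    have hab : a ≠ b := by simp [a, b, Fin.ext_iff]
    simp [hab] at ha hb
    rw [← ha] at hb
    exact one_ne_zero hb.symm
  subst hk1
  refine ⟨by simpa using hk, fun e => ?_⟩
  obtain ⟨P, hP⟩ := hP (e.trans (Equiv.prodUnique X (Fin 1)).symm)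
  refine ⟨P, fun x y => ?_⟩
  rw [hP, tr_apply, tr_apply]
  congr 2
  ext i j
  simp

/-- An algebra homomorphism out of a matrix algebra gives matrix units. -/
theorem IsUnits.of_algHom (φ : Matrix X X F →ₐ[F] Matrix ι ι F) :
    IsUnits fun x y => φ (Matrix.single x y 1) := by
  refine ⟨fun x y z w => ?_, ?_⟩
  · rw [← map_mul]
    split_ifs with h
    · subst h; rw [Matrix.single_mul_single_same, one_mul]
    · rw [Matrix.single_mul_single_of_ne (h := h), map_zero]
  · rw [← map_sum, Matrix.sum_single_one, map_one]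

theorem algHom_ext_single {A : Type*} [Semiring A] [Algebra F A] {φ ψ : Matrix X X F →ₐ[F] A}
    (h : ∀ x y, φ (Matrix.single x y 1) = ψ (Matrix.single x y 1)) : φ = ψ := by
  refine AlgHom.ext fun M => ?_
  conv_lhs => rw [Matrix.matrix_eq_sum_single M]
  conv_rhs => rw [Matrix.matrix_eq_sum_single M]
  simp only [map_sum]
  refine Finset.sum_congr rfl fun i _ => Finset.sum_congr rfl fun j _ => ?_
  rw [show Matrix.single i j (M i j) = M i j • Matrix.single i j (1 : F) by simp [Matrix.smul_single],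
    map_smul, map_smul, h]

/-- Skolem-Noether for a matrix algebra. -/
theorem exists_conj [Nonempty ι] (ψ : Matrix ι ι F →ₐ[F] Matrix ι ι F) :
    ∃ a : GL ι F, ∀ M, ψ M = (a : Matrix ι ι F) * M * ((a⁻¹ : GL ι F) : Matrix ι ι F) := by
  have hE := IsUnits.of_algHom ψ
  obtain ⟨k, hk, hP⟩ := hE.exists_tr
  have hk1 : k = 1 := (Nat.mul_eq_left Fintype.card_ne_zero).mp hk.symm
  subst hk1
  obtain ⟨a, ha⟩ := hP (Equiv.prodUnique ι (Fin 1)).symm
  refine ⟨a, fun M => ?_⟩
  have h : ψ = (tr (Equiv.refl ι) a).toAlgHom := algHom_ext_single fun x y => by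
    rw [ha]
    show _ = tr (Equiv.refl ι) a (Matrix.single x y 1)
    rw [tr_apply, tr_apply]
    congr 2
    ext i j
    simp
  rw [h]
  simp [tr_apply]

/-- A finite semisimple algebra with trivial centre is a matrix algebra. -/
theorem exists_matrix_equiv [Finite F] {A : Type*} [Ring A] [Algebra F A] [Nontrivial A] [Finite A]
    [IsSemisimpleRing A] (hc : ∀ z : A, (∀ a, z * a = a * z) → ∃ c : F, z = algebraMap F A c) :
    ∃ d, 0 < d ∧ Nonempty (Matrix (Fin d) (Fin d) F ≃ₐ[F] A) := by
  obtain ⟨m, D, d, hD, hDA, hd, ⟨e⟩⟩ := IsSemisimpleRing.exists_algEquiv_pi_matrix_divisionRing F A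
  have hpi : ∀ z : Π i, Matrix (Fin (d i)) (Fin (d i)) (D i), (∀ a, z * a = a * z) →
      ∃ c : F, z = algebraMap F _ c := fun z hz => by
    obtain ⟨c, hc⟩ := hc (e.symm z) fun a => e.injective (by simp [hz])
    exact ⟨c, e.symm.injective (by rw [hc, AlgEquiv.commutes])⟩
  have hne : ∀ i, Nonempty (Fin (d i)) := fun i => ⟨⟨0, Nat.pos_of_ne_zero (hd i).ne⟩⟩
  have huniq : ∀ i j : Fin m, i = j := by
    intro i j
    by_contra hij
    classical
    obtain ⟨c, hc⟩ := hpi (Pi.single i 1) fun a => funext fun l => by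
      rcases eq_or_ne l i with rfl | hl
      · simp
      · simp [hl]
    have h1 := congrFun hc i
    have h2 := congrFun hc j
    haveI := hne i
    haveI := hne j
    rw [Pi.single_eq_same, Pi.algebraMap_apply, Algebra.algebraMap_eq_smul_one] at h1
    rw [Pi.single_eq_of_ne (Ne.symm hij), Pi.algebraMap_apply, Algebra.algebraMap_eq_smul_one] at h2
    rcases smul_eq_zero.mp h2.symm with h2 | h2
    · rw [h2, zero_smul] at h1
      exact one_ne_zero h1
    · exact one_ne_zero h2
  have hm : m = 1 := by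
    rcases m with _ | _ | m
    · haveI : Nontrivial (Π i : Fin 0, Matrix (Fin (d i)) (Fin (d i)) (D i)) := e.injective.nontrivial
      obtain ⟨a, b, hab⟩ := exists_pair_ne (Π i : Fin 0, Matrix (Fin (d i)) (Fin (d i)) (D i))
      exact absurd (funext fun i => i.elim0) hab
    · rfl
    · simpa using huniq 0 1
  subst hm
  haveI := hne 0
  have hfin : Finite (D 0) := by
    haveI : Finite (Π i, Matrix (Fin (d i)) (Fin (d i)) (D i)) := Finite.of_equiv A e.toEquiv
    exact Finite.of_injective (fun x : D 0 => (Pi.single 0 (Matrix.scalar (Fin (d 0)) x) :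
        Π i, Matrix (Fin (d i)) (Fin (d i)) (D i)))
      (fun x y hxy => Matrix.scalar_inj.mp (Pi.single_injective (M := fun i => Matrix (Fin (d i)) (Fin (d i)) (D i)) 0 hxy))
  letI : Field (D 0) := littleWedderburn (D 0)
  have hsurj : Function.Surjective (algebraMap F (D 0)) := by
    intro x
    obtain ⟨c, hc⟩ := hpi (fun i => Matrix.scalar (Fin (d i)) (Fin.fin_one_eq_zero i ▸ x : D i)) fun a => by
      funext i
      obtain rfl := Fin.fin_one_eq_zero i
      exact Matrix.scalar_commute x (fun r => mul_comm x r) (a 0)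
    refine ⟨c, ?_⟩
    have := congrFun hc 0
    simp only [Pi.algebraMap_apply, Matrix.algebraMap_eq_diagonal, Matrix.scalar_apply, Matrix.diagonal_eq_diagonal_iff] at this
    exact (this ⟨0, Nat.pos_of_ne_zero (hd 0).ne⟩).symm
  let φ : F ≃ₐ[F] D 0 := AlgEquiv.ofBijective (Algebra.ofId F (D 0)) ⟨(algebraMap F (D 0)).injective, hsurj⟩
  let π : (Π i, Matrix (Fin (d i)) (Fin (d i)) (D i)) ≃ₐ[F] Matrix (Fin (d 0)) (Fin (d 0)) (D 0) :=
    AlgEquiv.ofBijective (Pi.evalAlgHom F _ 0)
      ⟨fun a b h => funext fun i => by obtain rfl := Fin.fin_one_eq_zero i; exact h,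
       fun x => ⟨fun i => Fin.fin_one_eq_zero i ▸ x, rfl⟩⟩
  exact ⟨d 0, Nat.pos_of_ne_zero (hd 0).ne, ⟨(φ.mapMatrix.trans π.symm).trans e.symm⟩⟩

/-- Simultaneous eigenvectors with distinct eigenvalue functions are linearly independent. -/
theorem linearIndependent_of_characters {V : Type*} [AddCommGroup V] [Module F V] {α κ : Type*} (T : α → V →ₗ[F] V)
    (v : κ → V) (χ : κ → α → F) (hv : ∀ j, v j ≠ 0) (hχ : ∀ j a, T a (v j) = χ j a • v j)
    (hinj : ∀ i j, (∀ a, χ i a = χ j a) → i = j) : LinearIndependent F v := by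
  classical
  rw [linearIndependent_iff']
  intro s
  induction s using Finset.induction with
  | empty => simp
  | insert i s his ih =>
    intro g hg
    have hi : ∀ j ∈ s, g j = 0 := by
      intro j hj
      obtain ⟨a, ha⟩ : ∃ a, χ i a ≠ χ j a := by
        by_contra hcon
        push Not at hcon
        exact his (hinj i j hcon ▸ hj)
      have h1 := congrArg (T a) hg
      rw [map_sum, map_zero, Finset.sum_congr rfl (fun l _ => by rw [map_smul, hχ, smul_smul])] at h1
      have h2 := congrArg (χ i a • ·) hg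
      simp only [Finset.smul_sum, smul_zero, smul_smul] at h2
      rw [Finset.sum_insert his] at h1 h2
      have h3 : ∑ l ∈ s, (g l * χ l a - χ i a * g l) • v l = 0 := by
        simp only [sub_smul, Finset.sum_sub_distrib]
        rw [mul_comm] at h2
        linear_combination (norm := module) h1 - h2
      have h4 := ih (fun l => g l * χ l a - χ i a * g l) h3 j hj
      rw [mul_comm (χ i a), ← mul_sub] at h4
      exact (mul_eq_zero.mp h4).resolve_right (sub_ne_zero.mpr (Ne.symm ha))
    intro j hj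
    rcases Finset.mem_insert.mp hj with rfl | hj
    · rw [Finset.sum_insert his, Finset.sum_eq_zero (fun l hl => by rw [hi l hl, zero_smul]), add_zero] at hg
      exact (smul_eq_zero.mp hg).resolve_right (hv j)
    · exact hi j hj

end Cfsg.Agent.MaxSub.Asch
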