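import Mathlib
import Cfsg.Agent.MaxSub.Asch.Units
import Cfsg.Agent.Aschbacher.Prime
import Cfsg.Agent.Aschbacher.Descent

/-!
Clifford theory for a normal subgroup of an irreducible matrix group over a finite field, in arbitrary dimension:
imprimitivity, a normalised field, a tensor decomposition, or absolute irreducibility.
-/

set_option autoImplicit false
set_option linter.unusedSectionVars false
set_option linter.style.haveILetI false

namespace Cfsg.Agent.MaxSub.Asch

open scoped MatrixGroups Matrix Kronecker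
open Module
open Cfsg.Agent.Aschbacher (NormalIn Inv Irr img mem_img mem_scalars_of_smul irr_iff)

variable {ι : Type} [Fintype ι] [DecidableEq ι] {F : Type*} [Field F]

/-- The algebra generated by a group. -/
abbrev alg (L : Subgroup (GL ι F)) : Subalgebra F (Matrix ι ι F) := Algebra.adjoin F (Geo.matrixSet L)

/-- Conjugation by an invertible matrix as an algebra homomorphism. -/
def conjHom (g : GL ι F) : Matrix ι ι F →ₐ[F] Matrix ι ι F where
  toFun M := (g : Matrix ι ι F) * M * ((g⁻¹ : GL ι F) : Matrix ι ι F)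
  map_one' := by simp
  map_mul' A B := by simp [mul_assoc]
  map_zero' := by simp
  map_add' A B := by simp [mul_add, add_mul]
  commutes' r := by simp [Algebra.algebraMap_eq_smul_one]

theorem conjHom_apply (g : GL ι F) (M : Matrix ι ι F) :
    conjHom g M = (g : Matrix ι ι F) * M * ((g⁻¹ : GL ι F) : Matrix ι ι F) := rfl

theorem conjHom_conjHom_inv (g : GL ι F) (M : Matrix ι ι F) : conjHom g (conjHom g⁻¹ M) = M := by
  simp [conjHom_apply, mul_assoc]

theorem coe_mem_alg {L : Subgroup (GL ι F)} {x : GL ι F} (hx : x ∈ L) : (x : Matrix ι ι F) ∈ alg L :=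
  Algebra.subset_adjoin ⟨x, hx, rfl⟩

theorem conj_mem_alg {L G : Subgroup (GL ι F)} (hL : NormalIn L G) {g : GL ι F} (hg : g ∈ G) {a : Matrix ι ι F}
    (ha : a ∈ alg L) : conjHom g a ∈ alg L := by
  have hle : alg L ≤ (alg L).comap (conjHom g) := by
    refine Algebra.adjoin_le ?_
    rintro _ ⟨x, hx, rfl⟩
    exact Algebra.subset_adjoin ⟨g * x * g⁻¹, hL g hg x hx, by simp [conjHom_apply]⟩
  exact hle ha

/-- The centre of the algebra generated by a group. -/
abbrev zalg (L : Subgroup (GL ι F)) : Subalgebra F (Matrix ι ι F) :=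
  alg L ⊓ Subalgebra.centralizer F (alg L : Set (Matrix ι ι F))

theorem mem_zalg {L : Subgroup (GL ι F)} {z : Matrix ι ι F} :
    z ∈ zalg L ↔ z ∈ alg L ∧ ∀ a ∈ alg L, a * z = z * a := by
  simp [zalg, Algebra.mem_inf, Subalgebra.mem_centralizer_iff]

theorem conj_mem_zalg {L G : Subgroup (GL ι F)} (hL : NormalIn L G) {g : GL ι F} (hg : g ∈ G) {z : Matrix ι ι F}
    (hz : z ∈ zalg L) : conjHom g z ∈ zalg L := by
  rw [mem_zalg] at hz ⊢
  refine ⟨conj_mem_alg hL hg hz.1, fun a ha => ?_⟩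
  rw [← conjHom_conjHom_inv g a, ← map_mul, ← map_mul, hz.2 _ (conj_mem_alg hL (inv_mem hg) ha)]

/-- An element all of whose left multiples in the algebra are nilpotent vanishes. -/
theorem eq_zero_of_nilpotent [Nonempty ι] {L G : Subgroup (GL ι F)} (hL : NormalIn L G) (hG : Irr G)
    {a : Matrix ι ι F} (ha : a ∈ alg L) (hn : ∀ b ∈ alg L, IsNilpotent (b * a)) : a = 0 := by
  obtain ⟨W, ⟨hWi, hW0⟩, hWmin⟩ := exists_minimal_of_wellFoundedLT
    (fun W : Submodule F (ι → F) => Inv L W ∧ W ≠ ⊥) ⟨⊤, fun _ _ _ _ => Submodule.mem_top, by simp⟩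
  set S : Set (Matrix ι ι F) := {a | a ∈ alg L ∧ ∀ b ∈ alg L, IsNilpotent (b * a)} with hS
  set K : Submodule F (ι → F) := ⨅ s ∈ S, LinearMap.ker (Matrix.toLin' s) with hK
  have hKmem : ∀ v, v ∈ K ↔ ∀ s ∈ S, s *ᵥ v = 0 := fun v => by simp [hK, Submodule.mem_iInf]
  have hAW : ∀ b ∈ alg L, ∀ w ∈ W, b *ᵥ w ∈ W := by
    intro b hb
    induction hb using Algebra.adjoin_induction with
    | mem y hy => obtain ⟨x, hx, rfl⟩ := hy; exact fun w hw => hWi x hx w hw
    | algebraMap r => intro w hw; simpa [Algebra.algebraMap_eq_smul_one, Matrix.smul_mulVec] using W.smul_mem r hw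
    | add a b _ _ ha hb => intro w hw; rw [Matrix.add_mulVec]; exact W.add_mem (ha w hw) (hb w hw)
    | mul a b _ _ ha hb => intro w hw; rw [← Matrix.mulVec_mulVec]; exact ha _ (hb w hw)
  have hWK : W ≤ K := by
    intro w hw
    rw [hKmem]
    rintro s ⟨hs, hsn⟩
    by_contra hne
    let U : Submodule F (ι → F) :=
      { carrier := {u | ∃ b ∈ alg L, b *ᵥ (s *ᵥ w) = u}
        add_mem' := by
          rintro _ _ ⟨b, hb, rfl⟩ ⟨c, hc, rfl⟩
          exact ⟨b + c, add_mem hb hc, Matrix.add_mulVec _ _ _⟩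
        zero_mem' := ⟨0, zero_mem _, Matrix.zero_mulVec _⟩
        smul_mem' := by
          rintro r _ ⟨b, hb, rfl⟩
          exact ⟨r • b, Subalgebra.smul_mem _ hb r, Matrix.smul_mulVec _ _ _⟩ }
    have hUi : Inv L U := by
      rintro x hx _ ⟨b, hb, rfl⟩
      exact ⟨(x : Matrix ι ι F) * b, mul_mem (coe_mem_alg hx) hb, (Matrix.mulVec_mulVec _ _ _).symm⟩
    have hU0 : U ≠ ⊥ := fun h => hne ((Submodule.eq_bot_iff U).mp h _ ⟨1, one_mem _, Matrix.one_mulVec _⟩)
    have hUW : U ≤ W := by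
      rintro _ ⟨b, hb, rfl⟩
      exact hAW b hb _ (hAW s hs w hw)
    obtain ⟨b, hb, hbw⟩ := hWmin ⟨hUi, hU0⟩ hUW hw
    rw [Matrix.mulVec_mulVec] at hbw
    obtain ⟨m, hm⟩ := hsn b hb
    have hfix : ∀ i : ℕ, (b * s) ^ i *ᵥ w = w := fun i => by
      induction i with
      | zero => simp
      | succ i ih => rw [pow_succ, ← Matrix.mulVec_mulVec, hbw, ih]
    have := hfix m
    rw [hm, Matrix.zero_mulVec] at this
    exact hne (by rw [← this, Matrix.mulVec_zero])
  have hKi : Inv G K := by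
    intro g hg v hv
    rw [hKmem] at hv ⊢
    rintro s ⟨hs, hsn⟩
    have hmem : conjHom g⁻¹ s ∈ S := by
      refine ⟨conj_mem_alg hL (inv_mem hg) hs, fun b hb => ?_⟩
      have h1 := (hsn _ (conj_mem_alg hL hg hb)).map (conjHom g⁻¹)
      rw [map_mul] at h1
      rwa [show conjHom g⁻¹ (conjHom g b) = b by simp [conjHom_apply, mul_assoc]] at h1
    have h2 := congrArg ((g : Matrix ι ι F) *ᵥ ·) (hv _ hmem)
    simpa [conjHom_apply, Matrix.mulVec_mulVec, mul_assoc] using h2
  have hKtop : K = ⊤ := (hG K hKi).resolve_left fun h => hW0 (le_bot_iff.mp (h ▸ hWK))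
  refine Matrix.ext_of_mulVec_single fun i => ?_
  rw [Matrix.zero_mulVec]
  exact (hKmem _).mp (hKtop ▸ Submodule.mem_top) a ⟨ha, hn⟩

/-- The centre of the algebra of a normal subgroup is reduced. -/
theorem zalg_reduced [Nonempty ι] {L G : Subgroup (GL ι F)} (hL : NormalIn L G) (hG : Irr G)
    {z : Matrix ι ι F} (hz : z ∈ zalg L) (hn : IsNilpotent z) : z = 0 :=
  eq_zero_of_nilpotent hL hG (mem_zalg.mp hz).1 fun b hb =>
    Commute.isNilpotent_mul_left ((mem_zalg.mp hz).2 b hb : Commute b z) hn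

/-- If the algebra of a normal subgroup has scalar centre it is a matrix algebra. -/
theorem exists_algHom [Finite F] [Nonempty ι] {L G : Subgroup (GL ι F)} (hL : NormalIn L G) (hG : Irr G)
    (hz : ∀ z ∈ zalg L, ∃ c : F, z = c • 1) :
    ∃ d, 0 < d ∧ ∃ φ : Matrix (Fin d) (Fin d) F →ₐ[F] Matrix ι ι F, Function.Injective φ ∧ φ.range = alg L := by
  haveI : Finite (Matrix ι ι F) := Pi.finite
  haveI : Finite (alg L) := Subtype.finite
  haveI : Nontrivial (alg L) := ⟨⟨0, 1, fun h => zero_ne_one (α := Matrix ι ι F) (congrArg Subtype.val h)⟩⟩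
  haveI : IsArtinianRing (alg L) := inferInstance
  haveI : IsSemisimpleRing (alg L) := by
    rw [IsArtinianRing.isSemisimpleRing_iff_jacobson, eq_bot_iff]
    intro a ha
    rw [Submodule.mem_bot]
    refine Subtype.ext (eq_zero_of_nilpotent hL hG a.2 fun b hb => ?_)
    rw [← Ideal.jacobson_bot] at ha
    obtain ⟨m, hm⟩ := IsArtinianRing.isNilpotent_jacobson_bot (R := alg L)
    refine ⟨m, ?_⟩
    have h1 : (⟨b, hb⟩ * a) ^ m ∈ (Ideal.jacobson (⊥ : Ideal (alg L))) ^ m :=
      Ideal.pow_mem_pow (Ideal.mul_mem_left _ _ ha) m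
    rw [hm] at h1
    simpa using congrArg Subtype.val (Submodule.mem_bot _ |>.mp h1)
  obtain ⟨d, hd, ⟨e⟩⟩ := exists_matrix_equiv (F := F) (A := alg L) (by
    intro z hz'
    obtain ⟨c, hc⟩ := hz z (mem_zalg.mpr ⟨z.2, fun a ha => (congrArg Subtype.val (hz' ⟨a, ha⟩)).symm⟩)
    exact ⟨c, Subtype.ext (by simp [hc, Algebra.algebraMap_eq_smul_one])⟩)
  refine ⟨d, hd, (alg L).val.comp e.toAlgHom, Subtype.val_injective.comp e.injective, ?_⟩
  ext a
  constructor
  · rintro ⟨M, rfl⟩; exact (e M).2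
  · intro ha; exact ⟨e.symm ⟨a, ha⟩, by simp⟩

/-- A matrix commuting with the generators commutes with the whole algebra. -/
theorem commute_alg {L : Subgroup (GL ι F)} {T : Matrix ι ι F}
    (h : ∀ x ∈ L, T * (x : Matrix ι ι F) = (x : Matrix ι ι F) * T) {a : Matrix ι ι F} (ha : a ∈ alg L) :
    T * a = a * T := by
  have hle : alg L ≤ Subalgebra.centralizer F {T} := by
    refine Algebra.adjoin_le ?_
    rintro _ ⟨x, hx, rfl⟩
    rw [SetLike.mem_coe, Subalgebra.mem_centralizer_iff]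
    intro g hg
    rw [Set.mem_singleton_iff.mp hg]
    exact h x hx
  exact (Subalgebra.mem_centralizer_iff F).mp (hle ha) T rfl

/-- An absolutely irreducible group spans the matrix algebra. -/
theorem alg_eq_top [Finite F] [Nonempty ι] {L : Subgroup (GL ι F)}
    (habs : Geo.ActsAbsolutelyIrreducibly (Geo.matrixSet L)) : alg L = ⊤ := by
  have hnorm : NormalIn L L := fun g hg x hx => mul_mem (mul_mem hg hx) (inv_mem hg)
  obtain ⟨d, hd, φ, hφi, hφr⟩ := exists_algHom hnorm (irr_iff.mpr habs.1) fun z hz => habs.2 z (by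
    rintro _ ⟨x, hx, rfl⟩
    exact ((mem_zalg.mp hz).2 _ (coe_mem_alg hx)).symm)
  haveI : Nonempty (Fin d) := ⟨⟨0, hd⟩⟩
  obtain ⟨hcard, hP⟩ := (IsUnits.of_algHom φ).exists_tr_full fun T hT => habs.2 T (by
    rintro _ ⟨x, hx, rfl⟩
    obtain ⟨M, hM⟩ : (x : Matrix ι ι F) ∈ φ.range := hφr ▸ coe_mem_alg hx
    show T * (x : Matrix ι ι F) = (x : Matrix ι ι F) * T
    rw [← hM]
    show T * φ M = φ M * T
    rw [Matrix.matrix_eq_sum_single M]
    simp only [map_sum, Finset.mul_sum, Finset.sum_mul]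
    refine Finset.sum_congr rfl fun i _ => Finset.sum_congr rfl fun j _ => ?_
    rw [show Matrix.single i j (M i j) = M i j • Matrix.single i j (1 : F) by simp [Matrix.smul_single], map_smul,
      Matrix.mul_smul, Matrix.smul_mul, hT i j])
  obtain ⟨P, hP⟩ := hP (Fintype.equivOfCardEq (by simpa using hcard))
  rw [eq_top_iff, ← hφr]
  intro a _
  refine ⟨(tr (Fintype.equivOfCardEq (by simpa using hcard)) P).symm a, ?_⟩
  have h : φ = (tr (Fintype.equivOfCardEq (by simpa using hcard)) P).toAlgHom := algHom_ext_single hP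
  show φ _ = a
  rw [h]
  exact (tr (Fintype.equivOfCardEq (by simpa using hcard)) P).apply_symm_apply a

/-- Full algebra gives absolute irreducibility. -/
theorem absIrred_of_alg_eq_top [Nonempty ι] {L : Subgroup (GL ι F)} (h : alg L = ⊤) :
    Geo.ActsAbsolutelyIrreducibly (Geo.matrixSet L) := by
  refine ⟨fun W hW => ?_, fun M hM => ?_⟩
  · have hAW : ∀ b ∈ alg L, ∀ w ∈ W, b *ᵥ w ∈ W := by
      intro b hb
      induction hb using Algebra.adjoin_induction with
      | mem y hy => exact fun w hw => hW y hy ⟨w, hw, Matrix.toLin'_apply _ _⟩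
      | algebraMap r => intro w hw; simpa [Algebra.algebraMap_eq_smul_one, Matrix.smul_mulVec] using W.smul_mem r hw
      | add a b _ _ ha hb => intro w hw; rw [Matrix.add_mulVec]; exact W.add_mem (ha w hw) (hb w hw)
      | mul a b _ _ ha hb => intro w hw; rw [← Matrix.mulVec_mulVec]; exact ha _ (hb w hw)
    refine or_iff_not_imp_left.mpr fun h0 => ?_
    obtain ⟨w, hw, hw0⟩ := (Submodule.ne_bot_iff W).mp h0
    obtain ⟨i, hi⟩ := Function.ne_iff.mp hw0
    refine Submodule.eq_top_iff'.mpr fun v => ?_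
    have h1 := hAW (Matrix.of fun a b => if b = i then v a * (w i)⁻¹ else 0) (h ▸ Algebra.mem_top) w hw
    convert h1 using 1
    funext a
    simp [Matrix.mulVec, dotProduct, mul_assoc, inv_mul_cancel₀ hi]
  · have h1 : ∀ a, M * a = a * M := fun a => by
      exact commute_alg (fun x hx => hM _ ⟨x, hx, rfl⟩) (h ▸ Algebra.mem_top)
    obtain ⟨c, hc⟩ := Matrix.mem_range_scalar_of_commute_single (M := M) fun i j _ => (h1 _).symm
    exact ⟨c, by rw [← hc, Matrix.smul_one_eq_diagonal]; rfl⟩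

/-- Multiplying on the right by an invertible matrix does not change the range. -/
theorem range_toLin'_mul_gl (A : Matrix ι ι F) (g : GL ι F) :
    LinearMap.range (Matrix.toLin' (A * (g : Matrix ι ι F))) = LinearMap.range (Matrix.toLin' A) := by
  rw [Matrix.toLin'_mul]
  exact LinearMap.range_comp_of_range_eq_top _ (LinearMap.range_eq_top.mpr (Aschbacher.glEquiv g).surjective)

/-- A normalised idempotent gives an imprimitivity decomposition. -/
theorem decomp_of_idempotent [Finite F] {Z : Subalgebra F (Matrix ι ι F)}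
    (hcomm : ∀ x ∈ Z, ∀ y ∈ Z, x * y = y * x) {G : Subgroup (GL ι F)} (hG : Irr G)
    (hZG : ∀ g ∈ G, ∀ z ∈ Z, conjHom g z ∈ Z) {e₀ : Matrix ι ι F} (he : e₀ ∈ Z) (hee : e₀ * e₀ = e₀)
    (h0 : e₀ ≠ 0) (h1 : e₀ ≠ 1) :
    ∃ (t m : ℕ) (D : Fin t → Submodule F (ι → F)), Geo.IsMDecomposition m D ∧
      G ≤ Geo.decompositionStabilizer D := by
  classical
  haveI : Finite (Matrix ι ι F) := Pi.finite
  let Idem : Set (Matrix ι ι F) := {e | e ∈ Z ∧ e * e = e ∧ e ≠ 0}
  let rk : Matrix ι ι F → ℕ := fun e => finrank F (LinearMap.range (Matrix.toLin' e))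
  obtain ⟨e₁, ⟨he1, he1min⟩⟩ : ∃ e, e ∈ Idem ∧ ∀ f ∈ Idem, rk e ≤ rk f := by
    obtain ⟨e, he', hmin⟩ := Set.exists_min_image Idem rk (Set.toFinite _) ⟨e₀, he, hee, h0⟩
    exact ⟨e, he', hmin⟩
  have hrk : ∀ {e}, e ∈ Idem → 0 < rk e := by
    intro e he'
    rw [Nat.pos_iff_ne_zero]
    intro hz
    rw [Submodule.finrank_eq_zero, LinearMap.range_eq_bot] at hz
    exact he'.2.2 (Matrix.toLin'.map_eq_zero_iff.mp hz)
  let O : Finset (Matrix ι ι F) := (Set.toFinite {e | ∃ g ∈ G, conjHom g e₁ = e}).toFinset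
  have hO : ∀ {e}, e ∈ O ↔ ∃ g ∈ G, conjHom g e₁ = e := fun {e} => by simp [O]
  have hOI : ∀ e ∈ O, e ∈ Idem ∧ rk e = rk e₁ := by
    intro e he'
    obtain ⟨g, hg, rfl⟩ := hO.mp he'
    refine ⟨⟨hZG g hg _ he1.1, by rw [← map_mul, he1.2.1], fun h => he1.2.2 ?_⟩, ?_⟩
    · have := congrArg (conjHom g⁻¹) h
      simpa [conjHom_apply, mul_assoc] using this
    · show finrank F _ = finrank F _
      rw [conjHom_apply, range_toLin'_mul_gl, Matrix.toLin'_mul, LinearMap.range_comp]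
      exact LinearEquiv.finrank_map_eq (Aschbacher.glEquiv g) _
  have horth : ∀ e ∈ O, ∀ f ∈ O, e ≠ f → e * f = 0 := by
    intro e he' f hf' hne
    by_contra hef
    obtain ⟨⟨heZ, hee', -⟩, hre⟩ := hOI e he'
    obtain ⟨⟨hfZ, hff', -⟩, hrf⟩ := hOI f hf'
    have hidem : e * f ∈ Idem := ⟨mul_mem heZ hfZ, by
      rw [show e * f * (e * f) = e * (f * e) * f by simp [mul_assoc], hcomm f hfZ e heZ,
        show e * (e * f) * f = (e * e) * (f * f) by simp [mul_assoc], hee', hff'], hef⟩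
    have hsub : ∀ {x : Matrix ι ι F} y, x * x = x → rk x = rk e₁ → e * f = x * y → x * y = y * x →
        e * f = x := by
      intro x y hxx hrx hxy hc
      have hle : LinearMap.range (Matrix.toLin' (x * y)) ≤ LinearMap.range (Matrix.toLin' x) := by
        rw [Matrix.toLin'_mul]
        exact LinearMap.range_comp_le_range _ _
      have heq := Submodule.eq_of_le_of_finrank_le hle (by
        show rk x ≤ rk (x * y)
        rw [hrx, ← hxy]
        exact he1min _ hidem)
      refine Matrix.ext_of_mulVec_single fun i => ?_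
      obtain ⟨w, hw⟩ : x *ᵥ Pi.single i 1 ∈ LinearMap.range (Matrix.toLin' (x * y)) :=
        heq ▸ ⟨_, Matrix.toLin'_apply _ _⟩
      rw [Matrix.toLin'_apply] at hw
      have hxyxy : (x * y) * (x * y) = x * y := by rw [← hxy]; exact hidem.2.1
      calc (e * f) *ᵥ Pi.single i 1 = (x * y * x) *ᵥ Pi.single i 1 := by
            rw [hxy, mul_assoc, ← hc, ← mul_assoc, hxx]
        _ = x *ᵥ Pi.single i 1 := by
            rw [← Matrix.mulVec_mulVec, ← hw, Matrix.mulVec_mulVec, hxyxy]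
    have e1 := hsub f hee' hre rfl (hcomm e heZ f hfZ)
    have e2 := hsub e hff' hrf (hcomm e heZ f hfZ) (hcomm f hfZ e heZ)
    exact hne (e1.symm.trans e2)
  let t := O.card
  let en : Fin t ≃ O := O.equivFin.symm
  let D : Fin t → Submodule F (ι → F) := fun i => LinearMap.range (Matrix.toLin' (en i : Matrix ι ι F))
  have hfix : ∀ (i : Fin t) (v : ι → F), v ∈ D i → (en i : Matrix ι ι F) *ᵥ v = v := by
    rintro i v ⟨u, rfl⟩
    rw [Matrix.toLin'_apply, Matrix.mulVec_mulVec, (hOI _ (en i).2).1.2.1]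
  have hkill : ∀ i j : Fin t, i ≠ j → ∀ v ∈ D j, (en i : Matrix ι ι F) *ᵥ v = 0 := by
    rintro i j hij v ⟨u, rfl⟩
    rw [Matrix.toLin'_apply, Matrix.mulVec_mulVec,
      horth _ (en i).2 _ (en j).2 (fun h => hij (en.injective (Subtype.ext h))), Matrix.zero_mulVec]
  have hperm : ∀ g ∈ G, ∀ i, ∃ j, (D i).map (Matrix.toLin' (g : Matrix ι ι F)) = D j := by
    intro g hg i
    obtain ⟨g', hg', he'⟩ := hO.mp (en i).2
    have hmem : conjHom g (en i : Matrix ι ι F) ∈ O := hO.mpr ⟨g * g', mul_mem hg hg', by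
      rw [← he']; simp [conjHom_apply, mul_assoc]⟩
    refine ⟨en.symm ⟨_, hmem⟩, ?_⟩
    simp only [D, Equiv.apply_symm_apply]
    rw [← LinearMap.range_comp, ← Matrix.toLin'_mul, conjHom_apply, range_toLin'_mul_gl]
  have htop : iSup D = ⊤ := by
    refine (hG _ fun g hg v hv => ?_).resolve_left fun h => ?_
    · have hle : iSup D ≤ (iSup D).comap (Matrix.toLin' (g : Matrix ι ι F)) := iSup_le fun i => by
        obtain ⟨j, hj⟩ := hperm g hg i
        rw [← Submodule.map_le_iff_le_comap, hj]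
        exact le_iSup D j
      exact hle hv
    · rw [iSup_eq_bot] at h
      have h2 := h (en.symm ⟨e₁, hO.mpr ⟨1, one_mem _, by simp [conjHom_apply]⟩⟩)
      simp only [D, Equiv.apply_symm_apply, LinearMap.range_eq_bot] at h2
      exact he1.2.2 (Matrix.toLin'.map_eq_zero_iff.mp h2)
  have hindep : iSupIndep D := by
    intro i
    rw [disjoint_iff, Submodule.eq_bot_iff]
    rintro v ⟨hv, hv'⟩
    rw [← hfix i v hv]
    have hle : (⨆ (j) (_ : j ≠ i), D j) ≤ LinearMap.ker (Matrix.toLin' (en i : Matrix ι ι F)) :=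
      iSup₂_le fun j hj u hu => by simpa using hkill i j (Ne.symm hj) u hu
    simpa using hle hv'
  have ht : 2 ≤ t := by
    rcases Nat.lt_or_ge t 2 with h | h
    · exfalso
      have he1O : e₁ ∈ O := hO.mpr ⟨1, one_mem _, by simp [conjHom_apply]⟩
      have hall : ∀ i, D i = D (en.symm ⟨e₁, he1O⟩) := fun i => by
        congr 1
        exact Fin.ext (by omega)
      have htop1 : D (en.symm ⟨e₁, he1O⟩) = ⊤ := top_le_iff.mp (htop ▸ iSup_le fun i => (hall i).le)
      have hone : e₁ = 1 := by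
        refine Matrix.ext_of_mulVec_single fun i => ?_
        have := hfix (en.symm ⟨e₁, he1O⟩) (Pi.single i 1) (htop1 ▸ Submodule.mem_top)
        rw [Equiv.apply_symm_apply] at this
        rw [Matrix.one_mulVec]
        exact this
      have hc : (1 - e₀ : Matrix ι ι F) ∈ Idem := ⟨sub_mem (one_mem Z) he, by simp [mul_sub, sub_mul, hee],
        fun h => h1 (sub_eq_zero.mp h).symm⟩
      have hlt := he1min e₀ ⟨he, hee, h0⟩
      have htop0 : LinearMap.range (Matrix.toLin' e₀) = ⊤ := by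
        refine Submodule.eq_top_of_finrank_eq (le_antisymm (Submodule.finrank_le _) ?_)
        rw [hone] at hlt
        have htopI : LinearMap.range (Matrix.toLin' (1 : Matrix ι ι F)) = ⊤ :=
          LinearMap.range_eq_top.mpr fun v => ⟨v, by simp⟩
        exact le_trans (le_of_eq (show finrank F (ι → F) = finrank F ↥(LinearMap.range (Matrix.toLin' (1 : Matrix ι ι F)))
          by rw [htopI, finrank_top])) hlt
      refine h1 (Matrix.ext_of_mulVec_single fun i => ?_)
      obtain ⟨u, hu⟩ : Pi.single i (1 : F) ∈ LinearMap.range (Matrix.toLin' e₀) := htop0 ▸ Submodule.mem_top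
      rw [Matrix.toLin'_apply] at hu
      rw [← hu, Matrix.mulVec_mulVec, hee, Matrix.one_mulVec]
    · exact h
  refine ⟨t, rk e₁, D, ⟨ht, hrk he1, fun i => (hOI _ (en i).2).2, hindep, htop⟩, fun g hg => ?_⟩
  choose σ hσ using hperm g hg
  have hinj : Function.Injective σ := by
    intro i j hij
    have h2 : D i = D j := Submodule.map_injective_of_injective
      (f := Matrix.toLin' (g : Matrix ι ι F)) (fun a b hab => Aschbacher.mulVec_gl_inj g (by simpa using hab))
      (by rw [hσ i, hσ j, hij])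
    by_contra hne
    obtain ⟨v, hv, hv0⟩ : ∃ v ∈ D i, v ≠ 0 := (Submodule.ne_bot_iff _).mp fun hb => by
      have := hrk (hOI _ (en i).2).1
      simp only [rk, D] at this hb
      rw [hb, finrank_bot] at this
      omega
    exact hv0 (by rw [← hfix i v hv]; exact hkill i j hne v (h2 ▸ hv))
  exact ⟨Equiv.ofBijective σ (Finite.injective_iff_bijective.mp hinj), hσ⟩

/-- A normalised field subalgebra other than the scalars gives one of prime degree, cut out by a Frobenius power. -/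
theorem exists_prime_field' [Finite F] [Nonempty ι] {Z : Subalgebra F (Matrix ι ι F)} {G : Subgroup (GL ι F)}
    (hcomm : ∀ x ∈ Z, ∀ y ∈ Z, x * y = y * x) (hinv : ∀ x ∈ Z, x ≠ 0 → ∃ y ∈ Z, x * y = 1)
    (hZG : ∀ g ∈ G, ∀ z ∈ Z, conjHom g z ∈ Z) (hne : finrank F Z ≠ 1) :
    ∃ (r : ℕ) (K : Subalgebra F (Matrix ι ι F)), r.Prime ∧ Geo.IsFieldSubalgebra r K ∧
      G ≤ Geo.subalgebraNormalizer K ∧ K ≤ Z ∧ ∀ k, k ∈ K ↔ k ∈ Z ∧ k ^ Nat.card F ^ r = k := by
  haveI : Fintype F := Fintype.ofFinite F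
  haveI : Nontrivial Z := ⟨⟨0, 1, fun h => zero_ne_one (α := Matrix ι ι F) (congrArg Subtype.val h)⟩⟩
  have hfld : IsField Z :=
    { exists_pair_ne := exists_pair_ne Z
      mul_comm := fun x y => Subtype.ext (hcomm x x.2 y y.2)
      mul_inv_cancel := fun {x} hx => by
        obtain ⟨y, hy, hxy⟩ := hinv x x.2 fun h => hx (Subtype.ext h)
        exact ⟨⟨y, hy⟩, Subtype.ext hxy⟩ }
  letI : Field Z := hfld.toField
  haveI : Finite (Matrix ι ι F) := Pi.finite
  haveI : Finite Z := Subtype.finite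
  haveI : Fintype Z := Fintype.ofFinite Z
  set d := finrank F Z with hd
  have hd0 : 0 < d := Module.finrank_pos
  have hr : d.minFac.Prime := Nat.minFac_prime hne
  set q := Fintype.card F
  have hcard : Fintype.card Z = q ^ d := Module.card_eq_pow_finrank
  obtain ⟨j, hj⟩ := Nat.minFac_dvd d
  set r := d.minFac
  obtain ⟨F₁, hF₁, hmem⟩ := Aschbacher.exists_subfield_card (F := Z) (q₁ := q ^ r) (r := j) (by
      rcases Nat.eq_zero_or_pos j with h | h
      · rw [h, mul_zero] at hj; omega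
      · exact h) (by rw [hcard, ← pow_mul, ← hj])
  have hscal : ∀ c : F, algebraMap F Z c ∈ F₁ := fun c => by
    rw [hmem, ← map_pow, show q ^ r = q ^ (r - 1 + 1) by congr 1; have := hr.pos; omega, pow_succ, mul_comm, pow_mul,
      FiniteField.pow_card]
    induction (r - 1) with
    | zero => simp
    | succ i ih => rw [pow_succ, pow_mul]; rw [show (c ^ q ^ i) = c from (algebraMap F Z).injective ih, FiniteField.pow_card]
  let K₀ : Subalgebra F Z := { F₁.toSubring.toSubsemiring with algebraMap_mem' := hscal }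
  let K : Subalgebra F (Matrix ι ι F) := K₀.map Z.val
  have hK : ∀ x : Matrix ι ι F, x ∈ K ↔ ∃ hx : x ∈ Z, (⟨x, hx⟩ : Z) ∈ F₁ := by
    intro x
    constructor
    · rintro ⟨y, hy, rfl⟩; exact ⟨y.2, hy⟩
    · rintro ⟨hx, hy⟩; exact ⟨⟨x, hx⟩, hy, rfl⟩
  refine ⟨r, K, hr, ⟨fun x hx y hy => hcomm x ((hK x).mp hx).1 y ((hK y).mp hy).1, fun x hx h0 => ?_, ?_⟩,
    fun g hg => ?_, fun x hx => ((hK x).mp hx).1, fun k => ?_⟩
  · obtain ⟨hxZ, hxF⟩ := (hK x).mp hx
    have hne0 : (⟨x, hxZ⟩ : Z) ≠ 0 := fun h => h0 (congrArg Subtype.val h)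
    refine ⟨((⟨x, hxZ⟩ : Z)⁻¹ : Z), (hK _).mpr ⟨((⟨x, hxZ⟩ : Z)⁻¹ : Z).2, inv_mem hxF⟩, ?_⟩
    exact congrArg Subtype.val (mul_inv_cancel₀ hne0)
  · have h1 : Nat.card K = q ^ r := by
      rw [← hF₁]
      exact Nat.card_congr ((K₀.equivMapOfInjective Z.val Subtype.val_injective).symm.toEquiv)
    haveI : Finite K := Subtype.finite
    rw [Module.natCard_eq_pow_finrank (K := F), Nat.card_eq_fintype_card] at h1
    exact Nat.pow_right_injective Fintype.one_lt_card h1
  · have key : ∀ g ∈ G, ∀ k ∈ K, conjHom g k ∈ K := by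
      intro g hg k hk
      obtain ⟨hkZ, hkF⟩ := (hK k).mp hk
      refine (hK _).mpr ⟨hZG g hg k hkZ, (hmem _).mpr (Subtype.ext ?_)⟩
      have h2 : k ^ q ^ r = k := congrArg Subtype.val ((hmem _).mp hkF)
      show (conjHom g k) ^ q ^ r = conjHom g k
      rw [← map_pow, h2]
    intro k
    refine ⟨fun hk => key g hg k hk, fun hk => ?_⟩
    have := key g⁻¹ (inv_mem hg) _ hk
    simpa [conjHom_apply, mul_assoc] using this
  · rw [Nat.card_eq_fintype_card, hK k]
    constructor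
    · rintro ⟨hkZ, hkF⟩
      exact ⟨hkZ, congrArg Subtype.val ((hmem _).mp hkF)⟩
    · rintro ⟨hkZ, hkp⟩
      exact ⟨hkZ, (hmem _).mpr (Subtype.ext hkp)⟩

/-- A normalised field subalgebra other than the scalars gives one of prime degree. -/
theorem exists_prime_field [Finite F] [Nonempty ι] {Z : Subalgebra F (Matrix ι ι F)} {G : Subgroup (GL ι F)}
    (hcomm : ∀ x ∈ Z, ∀ y ∈ Z, x * y = y * x) (hinv : ∀ x ∈ Z, x ≠ 0 → ∃ y ∈ Z, x * y = 1)
    (hZG : ∀ g ∈ G, ∀ z ∈ Z, conjHom g z ∈ Z) (hne : finrank F Z ≠ 1) :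
    ∃ (r : ℕ) (K : Subalgebra F (Matrix ι ι F)), r.Prime ∧ Geo.IsFieldSubalgebra r K ∧
      G ≤ Geo.subalgebraNormalizer K ∧ K ≤ Z := by
  obtain ⟨r, K, hr, hK, hle, hKZ, -⟩ := exists_prime_field' hcomm hinv hZG hne
  exact ⟨r, K, hr, hK, hle, hKZ⟩

/-- A normal subgroup with scalar centre which is not absolutely irreducible gives a tensor decomposition. -/
theorem exists_tensor [Finite F] [Nonempty ι] {L G : Subgroup (GL ι F)} (hL : NormalIn L G) (hG : Irr G)
    (hns : ¬ L ≤ Geo.scalars ι F) (habs : ¬ Geo.ActsAbsolutelyIrreducibly (Geo.matrixSet L))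
    (hdim : finrank F (zalg L) = 1) :
    ∃ (d k : ℕ) (e : ι ≃ Fin d × Fin k) (P : GL ι F) (φ : Matrix (Fin d) (Fin d) F →ₐ[F] Matrix ι ι F),
      2 ≤ d ∧ 2 ≤ k ∧ φ.range = alg L ∧
      (∀ M, φ M = tr e P (M ⊗ₖ (1 : Matrix (Fin k) (Fin k) F))) ∧ G ≤ Geo.tensorProductSubgroup d k e P := by
  obtain ⟨d, hd, φ, hφi, hφr⟩ := exists_algHom hL hG fun z hz => Aschbacher.eq_smul_of_finrank_one hdim hz
  haveI : Nonempty (Fin d) := ⟨⟨0, hd⟩⟩
  obtain ⟨k, hk, hP⟩ := (IsUnits.of_algHom φ).exists_tr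
  rw [Fintype.card_fin] at hk
  let e : ι ≃ Fin d × Fin k := Fintype.equivOfCardEq (by simp [hk])
  obtain ⟨P, hP⟩ := hP e
  have hφe : ∀ M, φ M = tr e P (M ⊗ₖ (1 : Matrix (Fin k) (Fin k) F)) := by
    intro M
    conv_lhs => rw [Matrix.matrix_eq_sum_single M]
    conv_rhs => rw [Matrix.matrix_eq_sum_single M]
    have hsum : ∀ (f : Fin d → Fin d → Matrix (Fin d) (Fin d) F),
        (∑ i, ∑ j, f i j) ⊗ₖ (1 : Matrix (Fin k) (Fin k) F) = ∑ i, ∑ j, f i j ⊗ₖ (1 : Matrix (Fin k) (Fin k) F) :=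
      fun f => by ext ⟨a, b⟩ ⟨a', b'⟩; simp [Matrix.sum_apply, Finset.sum_mul]
    rw [hsum]
    simp only [map_sum]
    refine Finset.sum_congr rfl fun i _ => Finset.sum_congr rfl fun j _ => ?_
    rw [show Matrix.single i j (M i j) = M i j • Matrix.single i j (1 : F) by simp [Matrix.smul_single],
      map_smul, hP, Matrix.smul_kronecker, map_smul]
  rcases Nat.lt_or_ge k 2 with hk1 | hk2
  · exfalso
    apply habs
    have hkeq : k = 1 := by
      rcases k with _ | _ | k
      · simp [Fintype.card_ne_zero] at hk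
      · rfl
      · omega
    subst hkeq
    refine absIrred_of_alg_eq_top ?_
    rw [eq_top_iff, ← hφr]
    intro a _
    refine ⟨Matrix.of fun i j => (tr e P).symm a (i, 0) (j, 0), ?_⟩
    show φ _ = a
    rw [hφe]
    conv_rhs => rw [← (tr e P).apply_symm_apply a]
    congr 1
    ext ⟨i, u⟩ ⟨j, v⟩
    simp [Fin.fin_one_eq_zero u, Fin.fin_one_eq_zero v]
  refine ⟨d, k, e, P, φ, ?_, hk2, hφr, hφe, fun g hg => ?_⟩
  · by_contra hd2
    have hd1 : d = 1 := by omega
    subst hd1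
    refine hns fun x hx => ?_
    obtain ⟨M, hM⟩ : (x : Matrix ι ι F) ∈ φ.range := hφr ▸ coe_mem_alg hx
    refine mem_scalars_of_smul (c := M 0 0) ?_
    rw [← hM]
    show φ M = _
    rw [show M = M 0 0 • (1 : Matrix (Fin 1) (Fin 1) F) by
      ext i j; simp [Fin.fin_one_eq_zero i, Fin.fin_one_eq_zero j], map_smul, map_one]
    simp
  have hmem : ∀ M, conjHom g (φ M) ∈ φ.range := fun M => by
    rw [hφr]
    exact conj_mem_alg hL hg (hφr ▸ ⟨M, rfl⟩)
  let φe := AlgEquiv.ofInjective φ hφi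
  let ψ : Matrix (Fin d) (Fin d) F →ₐ[F] Matrix (Fin d) (Fin d) F :=
    φe.symm.toAlgHom.comp (AlgHom.codRestrict ((conjHom g).comp φ) φ.range hmem)
  obtain ⟨a, ha⟩ := exists_conj ψ
  have hψ : ∀ M, conjHom g (φ M) = φ ((a : Matrix (Fin d) (Fin d) F) * M * ((a⁻¹ : GL (Fin d) F) :
      Matrix (Fin d) (Fin d) F)) := fun M => by
    rw [← ha]
    exact (congrArg Subtype.val (φe.apply_symm_apply ⟨conjHom g (φ M), hmem M⟩)).symm
  obtain ⟨h, hh⟩ := exists_tr_preimage e P g
  set A : Matrix (Fin d × Fin k) (Fin d × Fin k) F :=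
    ((a⁻¹ : GL (Fin d) F) : Matrix (Fin d) (Fin d) F) ⊗ₖ (1 : Matrix (Fin k) (Fin k) F) with hA
  obtain ⟨N, hN⟩ := eq_one_kronecker (T := A * (h : Matrix (Fin d × Fin k) (Fin d × Fin k) F)) (fun x y => by
    have h1 := hψ (Matrix.single x y 1)
    rw [conjHom_apply, hφe, hφe] at h1
    have h2 : (g : Matrix ι ι F) * tr e P (Matrix.single x y (1 : F) ⊗ₖ (1 : Matrix (Fin k) (Fin k) F)) =
        tr e P (((a : Matrix (Fin d) (Fin d) F) * Matrix.single x y 1 * ((a⁻¹ : GL (Fin d) F) :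
          Matrix (Fin d) (Fin d) F)) ⊗ₖ (1 : Matrix (Fin k) (Fin k) F)) * (g : Matrix ι ι F) := by
      rw [← h1, mul_assoc _ _ (g : Matrix ι ι F), Units.inv_mul, mul_one]
    rw [hh, ← map_mul, ← map_mul] at h2
    have h3 := congrArg (A * ·) ((tr e P).injective h2)
    simp only [← mul_assoc] at h3
    rw [h3, hA, ← Matrix.mul_kronecker_mul, ← mul_assoc, ← mul_assoc, Units.inv_mul, one_mul, one_mul,
      ← mul_assoc (Matrix.single x y (1 : F) ⊗ₖ (1 : Matrix (Fin k) (Fin k) F)), ← Matrix.mul_kronecker_mul, one_mul])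
  have hval : (h : Matrix (Fin d × Fin k) (Fin d × Fin k) F) = (a : Matrix (Fin d) (Fin d) F) ⊗ₖ N := by
    have h4 := congrArg (((a : Matrix (Fin d) (Fin d) F) ⊗ₖ (1 : Matrix (Fin k) (Fin k) F)) * ·) hN
    simp only [hA, ← mul_assoc, ← Matrix.mul_kronecker_mul, Units.mul_inv, one_mul, mul_one,
      Matrix.one_kronecker_one] at h4
    exact h4
  have hNdet : N.det ≠ 0 := by
    intro h0
    have h5 := (Matrix.isUnit_iff_isUnit_det _).mp h.isUnit
    rw [hval, Matrix.det_kronecker, h0, zero_pow (Fintype.card_pos.ne'), mul_zero] at h5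
    exact not_isUnit_zero h5
  refine mem_transport e P (h := h) ⟨a, Matrix.GeneralLinearGroup.mkOfDetNeZero N hNdet, ?_⟩ hh
  rw [hval]
  rfl


/-- Clifford theory. -/
theorem clifford [Finite F] [Nonempty ι] {L G : Subgroup (GL ι F)} (hL : NormalIn L G) (hG : Irr G)
    (hns : ¬ L ≤ Geo.scalars ι F) :
    (∃ (t m : ℕ) (D : Fin t → Submodule F (ι → F)), Geo.IsMDecomposition m D ∧ G ≤ Geo.decompositionStabilizer D) ∨
    (∃ (r : ℕ) (K : Subalgebra F (Matrix ι ι F)), r.Prime ∧ Geo.IsFieldSubalgebra r K ∧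
      G ≤ Geo.subalgebraNormalizer K) ∨
    (∃ (d k : ℕ) (e : ι ≃ Fin d × Fin k) (P : GL ι F), 2 ≤ d ∧ 2 ≤ k ∧ G ≤ Geo.tensorProductSubgroup d k e P) ∨
    Geo.ActsAbsolutelyIrreducibly (Geo.matrixSet L) := by
  haveI : Finite (Matrix ι ι F) := Pi.finite
  have hZcomm : ∀ x ∈ zalg L, ∀ y ∈ zalg L, x * y = y * x := fun x hx y hy =>
    (mem_zalg.mp hy).2 x (mem_zalg.mp hx).1
  have hZG : ∀ g ∈ G, ∀ z ∈ zalg L, conjHom g z ∈ zalg L := fun g hg z hz => conj_mem_zalg hL hg hz
  by_cases hid : ∃ e ∈ zalg L, e * e = e ∧ e ≠ 0 ∧ e ≠ 1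
  · obtain ⟨e, he, hee, h0, h1⟩ := hid
    exact Or.inl (decomp_of_idempotent hZcomm hG hZG he hee h0 h1)
  right
  have hinv : ∀ x ∈ zalg L, x ≠ 0 → ∃ y ∈ zalg L, x * y = 1 := by
    intro x hx h0
    obtain ⟨a, b, hab, hpow⟩ : ∃ a b : ℕ, a ≠ b ∧ x ^ a = x ^ b :=
      Finite.exists_ne_map_eq_of_infinite (fun i : ℕ => x ^ i)
    wlog hlt : a < b generalizing a b
    · exact this b a hab.symm hpow.symm (by omega)
    obtain ⟨c, rfl⟩ : ∃ c, b = a + (c + 1) := ⟨b - a - 1, by omega⟩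
    have hper : ∀ i, x ^ (a + i * (c + 1)) = x ^ a := fun i => by
      induction i with
      | zero => simp
      | succ i ih =>
        rw [show a + (i + 1) * (c + 1) = a + i * (c + 1) + (c + 1) by ring, pow_add, ih, ← pow_add, ← hpow]
    set e := x ^ ((a + 1) * (c + 1)) with he
    have hee : e * e = e := by
      rw [he, ← pow_add, show (a + 1) * (c + 1) + (a + 1) * (c + 1) =
          (a + (a + 1) * (c + 1)) + ((a + 1) * (c + 1) - a) by
        have : a ≤ (a + 1) * (c + 1) := by nlinarith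
        omega, pow_add, hper, ← pow_add]
      congr 1
      have : a ≤ (a + 1) * (c + 1) := by nlinarith
      omega
    have heZ : e ∈ zalg L := pow_mem hx _
    have he0 : e ≠ 0 := fun h => h0 (zalg_reduced hL hG hx ⟨_, h⟩)
    have he1 : e = 1 := by
      by_contra h
      exact hid ⟨e, heZ, hee, he0, h⟩
    refine ⟨x ^ ((a + 1) * (c + 1) - 1), pow_mem hx _, ?_⟩
    have : 0 < (a + 1) * (c + 1) := by positivity
    rw [← pow_succ', ← he1, he, show (a + 1) * (c + 1) - 1 + 1 = (a + 1) * (c + 1) by omega]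
  by_cases hdim : finrank F (zalg L) = 1
  swap
  · obtain ⟨r, K, hr, hK, hle, -⟩ := exists_prime_field hZcomm hinv hZG hdim
    exact Or.inl ⟨r, K, hr, hK, hle⟩
  right
  by_cases habs : Geo.ActsAbsolutelyIrreducibly (Geo.matrixSet L)
  · exact Or.inr habs
  obtain ⟨d, k, e, P, -, hd, hk, -, -, hle⟩ := exists_tensor hL hG hns habs hdim
  exact Or.inl ⟨d, k, e, P, hd, hk, hle⟩

end Cfsg.Agent.MaxSub.Asch
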