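import Mathlib
import Cfsg.Agent.MaxSub.Asch.Clifford
import Cfsg.Agent.Aschbacher.Forms
import Cfsg.Agent.Aschbacher.FieldAux
import Cfsg.Agent.Aschbacher.Involution

/-!
Absolutely irreducible normal subgroups that are abelian modulo scalars: groups of symplectic type, monomial bases,
invariant forms.
-/

set_option autoImplicit false
set_option linter.unusedSectionVars false
set_option linter.style.haveILetI false

namespace Cfsg.Agent.MaxSub.Asch

open scoped MatrixGroups Matrix commutatorElement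
open Module
open Cfsg.Agent.Aschbacher (NormalIn Inv Irr IsGram irr_iff mem_scalars_of_commute mem_scalars_of_smul scalars_central)

variable {ι : Type} [Fintype ι] [DecidableEq ι] {F : Type*} [Field F]

/-- The form with a given Gram matrix. -/
def gramForm (B : Matrix ι ι F) (u v : ι → F) : F := u ⬝ᵥ (B *ᵥ v)

theorem gramForm_isGram (B : Matrix ι ι F) : IsGram (RingHom.id F) (gramForm B) B := fun _ _ => rfl

theorem gramForm_bilinear (B : Matrix ι ι F) : Geo.IsBilinearForm (gramForm B) :=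
  ⟨fun x y v => add_dotProduct x y _, fun c x v => smul_dotProduct c x _,
    fun v x y => by simp [gramForm, Matrix.mulVec_add, dotProduct_add],
    fun c v x => by simp [gramForm, Matrix.mulVec_smul]⟩

theorem gramForm_comp (B : Matrix ι ι F) (g : Matrix ι ι F) (u v : ι → F) :
    gramForm B (g *ᵥ u) (g *ᵥ v) = gramForm (gᵀ * B * g) u v := by
  simp [gramForm, ← Matrix.mulVec_mulVec, Matrix.dotProduct_mulVec _ gᵀ, Matrix.vecMul_transpose]

theorem gramForm_swap (B : Matrix ι ι F) (u v : ι → F) : gramForm B u v = gramForm Bᵀ v u := by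
  rw [gramForm, gramForm, Matrix.mulVec_transpose, Matrix.dotProduct_mulVec, dotProduct_comm]

theorem gramForm_nondegenerate {B : Matrix ι ι F} (hB : IsUnit B) : Geo.IsNondegenerateForm (gramForm B) := by
  intro v hv
  refine ⟨?_, ?_⟩
  · by_contra h
    push Not at h
    refine hv (Matrix.mulVec_injective_iff_isUnit.mpr hB ?_)
    rw [Matrix.mulVec_zero]
    funext i
    simpa [gramForm] using h (Pi.single i 1)
  · by_contra h
    push Not at h
    refine hv (Matrix.mulVec_injective_iff_isUnit.mpr ((Matrix.isUnit_transpose (A := B)).mpr hB) ?_)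
    rw [Matrix.mulVec_zero]
    funext i
    have h1 := h (Pi.single i 1)
    rw [gramForm_swap] at h1
    simpa [gramForm] using h1

theorem le_similarityGroup_gramForm {B : Matrix ι ι F} {H : Subgroup (GL ι F)}
    (h : ∀ g ∈ H, ∃ c : F, c ≠ 0 ∧ (g : Matrix ι ι F)ᵀ * B * (g : Matrix ι ι F) = c • B) :
    H ≤ Geo.similarityGroup (gramForm B) := by
  intro g hg
  obtain ⟨c, hc0, hc⟩ := h g hg
  refine ⟨Units.mk0 c hc0, fun u v => ?_⟩
  rw [gramForm_comp, hc]
  simp [gramForm, Matrix.smul_mulVec]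

/-- Similitudes of a symmetric or skew Gram matrix are in a class-eight group. -/
theorem exists_form_of_gram [Fintype F] {B : Matrix ι ι F} (hB : IsUnit B) {H : Subgroup (GL ι F)}
    (hH : H ≤ Geo.similarityGroup (gramForm B))
    (h : (Bᵀ = -B ∧ ∀ i, B i i = 0) ∨ (Bᵀ = B ∧ (2 : F) ≠ 0)) :
    (∃ f : (ι → F) → (ι → F) → F, Geo.IsSymplecticForm f ∧ H ≤ Geo.similarityGroup f) ∨
    (∃ Q : (ι → F) → F, (2 : F) ≠ 0 ∧ Geo.IsNondegenerateQuadraticForm Q ∧ H ≤ Geo.quadSimilarityGroup Q) := by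
  rcases h with ⟨hT, hd⟩ | ⟨hT, h2⟩
  · refine Or.inl ⟨_, ⟨gramForm_bilinear B, fun v w => ?_, fun v => ?_, gramForm_nondegenerate hB⟩, hH⟩
    · rw [gramForm_swap B v w, hT]
      simp [gramForm, Matrix.neg_mulVec]
    · have hsum : gramForm B v v = ∑ p : ι × ι, v p.1 * B p.1 p.2 * v p.2 := by
        simp [gramForm, Matrix.mulVec, dotProduct, Fintype.sum_prod_type, Finset.mul_sum, mul_assoc]
      rw [hsum]
      refine Finset.sum_involution (fun p _ => p.swap) ?_ ?_ (fun p _ => Finset.mem_univ _) (fun p _ => rfl)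
      · intro p _
        have h1 := congrFun (congrFun hT p.1) p.2
        simp only [Matrix.transpose_apply, Matrix.neg_apply] at h1
        simp only [Prod.fst_swap, Prod.snd_swap, h1]
        ring
      · intro p _ hne he
        have : p.1 = p.2 := congrArg Prod.snd he
        exact hne (by rw [this, hd]; ring)
  · refine Or.inr ⟨fun v => gramForm B v v, h2, ⟨fun c v => ?_, ?_, ?_⟩, fun g hg => ?_⟩
    · rw [(gramForm_bilinear B).smul_left, (gramForm_bilinear B).smul_right]; ring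
    · rw [show QuadraticMap.polar (fun v => gramForm B v v) = gramForm ((2 : F) • B) from ?_]
      · exact gramForm_bilinear _
      funext u v
      have hs : gramForm B v u = gramForm B u v := by rw [gramForm_swap, hT]
      simp only [QuadraticMap.polar, (gramForm_bilinear B).add_left, (gramForm_bilinear B).add_right, hs]
      simp [gramForm, Matrix.smul_mulVec]
      ring
    · rw [show QuadraticMap.polar (fun v => gramForm B v v) = gramForm ((2 : F) • B) from ?_]
      · exact gramForm_nondegenerate (hB.smul (Units.mk0 2 h2))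
      funext u v
      have hs : gramForm B v u = gramForm B u v := by rw [gramForm_swap, hT]
      simp only [QuadraticMap.polar, (gramForm_bilinear B).add_left, (gramForm_bilinear B).add_right, hs]
      simp [gramForm, Matrix.smul_mulVec]
      ring
    · obtain ⟨c, hc⟩ := hH hg
      exact ⟨c, fun v => hc v v⟩

/-- The least exponent `e` with `N ∣ p^e - 1`. -/
theorem exists_min_exponent' [Fintype F] {p N : ℕ} (hp : p.Prime) [CharP F p] (hN : N ∣ Fintype.card F - 1) :
    ∃ e f : ℕ, Fintype.card F = p ^ f ∧ 0 < e ∧ e ∣ f ∧ N ∣ p ^ e - 1 ∧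
      ∀ d, 0 < d → d < e → ¬ N ∣ p ^ d - 1 := by
  classical
  obtain ⟨f, -, hf⟩ := FiniteField.card F p
  have hex : ∃ e, 0 < e ∧ N ∣ p ^ e - 1 := ⟨f, f.pos, hf ▸ hN⟩
  obtain ⟨he0, hed⟩ := Nat.find_spec hex
  refine ⟨Nat.find hex, f, hf, he0, ?_, hed, fun d hd hlt h => Nat.find_min hex hlt ⟨hd, h⟩⟩
  have h3 : N ∣ p ^ Nat.gcd (Nat.find hex) f - 1 := by
    rw [← Nat.pow_sub_one_gcd_pow_sub_one]
    exact Nat.dvd_gcd hed (hf ▸ hN)
  have h4 : Nat.find hex ≤ Nat.gcd (Nat.find hex) f := Nat.find_min' hex ⟨Nat.gcd_pos_of_pos_left _ he0, h3⟩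
  rw [Nat.le_antisymm h4 (Nat.gcd_le_left _ he0)]
  exact Nat.gcd_dvd_right _ _

/-- An absolutely irreducible group whose commutators are scalars, of exponent dividing `r * gcd(2, r)`. -/
structure PreTypeTwo (r : ℕ) (R : Subgroup (GL ι F)) : Prop where
  prime : r.Prime
  absIrred : Geo.ActsAbsolutelyIrreducibly (Geo.matrixSet R)
  pow : ∀ x ∈ R, x ^ (r * Nat.gcd 2 r) = 1
  comm_scalar : ∀ x ∈ R, ∀ y ∈ R, ⁅x, y⁆ ∈ Geo.scalars ι F

/-- A group as above that is minimal among the normal subgroups of `G` outside the scalars. -/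
structure TypeTwo (r : ℕ) (G R : Subgroup (GL ι F)) : Prop extends PreTypeTwo r R where
  ne_zero : (r : F) ≠ 0
  normal : NormalIn R G
  comm_pow : ∀ x ∈ R, ∀ y ∈ R, ⁅x, y⁆ ^ r = 1
  mem_of_scalar : ∀ x ∈ Geo.scalars ι F, x ^ (r * Nat.gcd 2 r) = 1 → x ∈ R
  minimal : ∀ M ≤ R, NormalIn M G → M ≤ Geo.scalars ι F ∨ R ≤ M ⊔ Geo.scalars ι F

theorem scalar_pow_eq {x : GL ι F} {c : F} (h : (x : Matrix ι ι F) = c • 1) (k : ℕ) :
    ((x ^ k : GL ι F) : Matrix ι ι F) = c ^ k • 1 := by
  rw [Units.val_pow_eq_pow_val, h, smul_pow, one_pow]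

theorem smul_one_inj [Nonempty ι] {a b : F} (h : a • (1 : Matrix ι ι F) = b • 1) : a = b := by
  have := congrFun (congrFun h (Classical.arbitrary ι)) (Classical.arbitrary ι)
  simpa using this

/-- A minimal absolutely irreducible class-two normal subgroup contains a group of symplectic type. -/
theorem exists_typeTwo_le [Fintype F] [Nonempty ι] (hn : 1 < Fintype.card ι) {G L : Subgroup (GL ι F)}
    (hL : NormalIn L G) (hZ : Geo.scalars ι F ≤ L) (habs : Geo.ActsAbsolutelyIrreducibly (Geo.matrixSet L))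
    (hmin : ∀ M ≤ L, NormalIn M G → Geo.scalars ι F ≤ M → M = Geo.scalars ι F ∨ M = L)
    (h2 : ⁅L, L⁆ ≤ Geo.scalars ι F) :
    ∃ (r : ℕ) (R : Subgroup (GL ι F)), R ≤ L ∧ TypeTwo r G R := by
  classical
  set Z := Geo.scalars ι F with hZdef
  have hcomm : ∀ a ∈ L, ∀ b ∈ L, ∀ g, g * ⁅a, b⁆ = ⁅a, b⁆ * g := fun a ha b hb g =>
    scalars_central (h2 (Subgroup.commutator_mem_commutator ha hb)) g
  have hnc : ¬ ∀ a ∈ L, ∀ b ∈ L, a * b = b * a := by
    intro hab
    exact Aschbacher.irr_not_le_scalars (irr_iff.mpr habs.1) hn fun x hx =>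
      mem_scalars_of_commute habs fun y hy => hab x hx y hy
  have hLZ : ¬ L ≤ Z := fun h => hnc fun a ha b hb => scalars_central (h hb) a
  obtain ⟨x₀, hx₀, hx₀Z⟩ := SetLike.not_le_iff_exists.mp hLZ
  have hmod : ∀ a ∈ L, ∀ b ∈ L, (QuotientGroup.mk (a * b) : GL ι F ⧸ Z) = QuotientGroup.mk (b * a) := by
    intro a ha b hb
    rw [QuotientGroup.eq]
    have : (a * b)⁻¹ * (b * a) = ⁅b⁻¹, a⁻¹⁆ := by rw [commutatorElement_def]; group
    rw [this]
    exact h2 (Subgroup.commutator_mem_commutator (inv_mem hb) (inv_mem ha))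
  -- a prime dividing the order of a non-scalar element modulo scalars
  set k := orderOf (QuotientGroup.mk x₀ : GL ι F ⧸ Z) with hk
  have hk1 : k ≠ 1 := fun h => hx₀Z ((QuotientGroup.eq_one_iff x₀).mp (orderOf_eq_one_iff.mp h))
  have hr := Nat.minFac_prime hk1
  set r := k.minFac with hrdef
  obtain ⟨j, hj⟩ := Nat.minFac_dvd k
  rw [← hrdef] at hj
  -- every element has `r`-th power scalar
  have hpowmul : ∀ a ∈ L, ∀ b ∈ L, ∀ i : ℕ, (QuotientGroup.mk ((a * b) ^ i) : GL ι F ⧸ Z) =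
      QuotientGroup.mk (a ^ i * b ^ i) := by
    intro a ha b hb i
    rw [QuotientGroup.mk_pow, QuotientGroup.mk_mul, QuotientGroup.mk_mul, QuotientGroup.mk_pow, QuotientGroup.mk_pow]
    exact Commute.mul_pow (by simpa [Commute, SemiconjBy] using hmod a ha b hb) i
  let Lr : Subgroup (GL ι F) :=
    { carrier := {x | x ∈ L ∧ x ^ r ∈ Z}
      one_mem' := ⟨one_mem _, by simp⟩
      mul_mem' := fun {a b} ha hb => ⟨mul_mem ha.1 hb.1, by
        rw [← QuotientGroup.eq_one_iff, hpowmul a ha.1 b hb.1 r, QuotientGroup.eq_one_iff]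
        exact mul_mem ha.2 hb.2⟩
      inv_mem' := fun {a} ha => ⟨inv_mem ha.1, by rw [inv_pow]; exact inv_mem ha.2⟩ }
  have hLrG : NormalIn Lr G := fun g hg x hx => ⟨hL g hg x hx.1, by
    rw [conj_pow]; exact Geo.scalars_normal.conj_mem _ hx.2 g⟩
  have hLr : Lr = L := by
    refine (hmin Lr (fun x hx => hx.1) hLrG fun z hz => ⟨hZ hz, pow_mem hz r⟩).resolve_left fun h => ?_
    have hmem : x₀ ^ j ∈ Lr := ⟨pow_mem hx₀ j, by
      rw [← QuotientGroup.eq_one_iff, QuotientGroup.mk_pow, QuotientGroup.mk_pow, ← pow_mul, mul_comm, ← hj]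
      exact pow_orderOf_eq_one _⟩
    rw [h, ← QuotientGroup.eq_one_iff, QuotientGroup.mk_pow, ← orderOf_dvd_iff_pow_eq_one, ← hk, hj] at hmem
    have hj0 : 0 < j := by
      rcases Nat.eq_zero_or_pos j with h0 | h0
      · rw [h0, mul_zero] at hj
        exact absurd hj (orderOf_pos _).ne'
      · exact h0
    have := Nat.le_of_dvd hj0 hmem
    nlinarith [hr.two_le]
  have hpr : ∀ x ∈ L, x ^ r ∈ Z := fun x hx => (hLr ▸ hx : x ∈ Lr).2
  -- commutators have order dividing `r`
  have hcpow : ∀ a ∈ L, ∀ b ∈ L, ⁅a, b⁆ ^ r = 1 := by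
    intro a ha b hb
    have hc : ∀ i : ℕ, ⁅a ^ i, b⁆ = ⁅a, b⁆ ^ i := by
      intro i
      induction i with
      | zero => simp
      | succ i ih =>
        rw [pow_succ', pow_succ, ← ih]
        calc ⁅a * a ^ i, b⁆ = a * ⁅a ^ i, b⁆ * a⁻¹ * ⁅a, b⁆ := by simp [commutatorElement_def, mul_assoc]
          _ = ⁅a ^ i, b⁆ * ⁅a, b⁆ := by rw [hcomm (a ^ i) (pow_mem ha i) b hb a, mul_inv_cancel_right]
    rw [← hc, commutatorElement_def, ← scalars_central (hpr a ha) b]
    group
  have hscal : ∀ z ∈ Z, ∃ c : F, c ≠ 0 ∧ (z : Matrix ι ι F) = c • 1 := fun z hz => by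
    obtain ⟨c, hc⟩ := (Geo.mem_scalars_iff z).mp hz
    exact ⟨c, c.ne_zero, hc⟩
  have hr0 : (r : F) ≠ 0 := by
    intro h0
    obtain ⟨p, hp⟩ := CharP.exists F
    have hpr' : p = r := (Nat.prime_dvd_prime_iff_eq (CharP.char_is_prime F p) hr).mp ((CharP.cast_eq_zero_iff F p r).mp h0)
    subst hpr'
    haveI : Fact r.Prime := ⟨hr⟩
    refine hnc fun a ha b hb => ?_
    obtain ⟨c, -, hc⟩ := hscal _ (h2 (Subgroup.commutator_mem_commutator ha hb))
    have h1 := scalar_pow_eq hc r
    rw [hcpow a ha b hb, Units.val_one] at h1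
    have h2' : c ^ r = 1 := (smul_one_inj (ι := ι) (by rw [one_smul]; exact h1)).symm
    have h3 : c = 1 := by
      have : (c - 1) ^ r = 0 := by rw [sub_pow_char, h2', one_pow, sub_self]
      exact sub_eq_zero.mp ((pow_eq_zero_iff hr.ne_zero).mp this)
    have h4 : ⁅a, b⁆ = 1 := Units.ext (by rw [hc, h3, one_smul, Units.val_one])
    exact commutatorElement_eq_one_iff_mul_comm.mp h4
  set N := r * Nat.gcd 2 r with hN
  have hN' : (r = 2 ∧ N = 4) ∨ (Odd r ∧ N = r) := by
    rcases hr.eq_two_or_odd' with h | h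
    · left; exact ⟨h, by rw [hN, h]; norm_num⟩
    · right
      refine ⟨h, ?_⟩
      rw [hN, show Nat.gcd 2 r = 1 from (Nat.coprime_two_left.mpr h)]
      simp
  have hpowN : ∀ a ∈ L, ∀ b ∈ L, (a * b) ^ N = a ^ N * b ^ N := by
    intro a ha b hb
    have hformula : ∀ i : ℕ, (a * b) ^ i = a ^ i * b ^ i * ⁅b, a⁆ ^ (i.choose 2) := by
      intro i
      induction i with
      | zero => simp
      | succ i ih =>
        have hz := hcomm b hb a ha
        have hbi : b ^ i * a = ⁅b, a⁆ ^ i * (a * b ^ i) := by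
          clear ih
          induction i with
          | zero => simp
          | succ i ih =>
            calc b ^ (i + 1) * a = b * (b ^ i * a) := by rw [pow_succ', mul_assoc]
              _ = b * ⁅b, a⁆ ^ i * (a * b ^ i) := by rw [ih, mul_assoc]
              _ = ⁅b, a⁆ ^ i * ((b * a) * b ^ i) := by
                  rw [((show Commute b ⁅b, a⁆ from hz b).pow_right i).eq]; simp [mul_assoc]
              _ = ⁅b, a⁆ ^ i * ((⁅b, a⁆ * (a * b)) * b ^ i) := by
                  rw [show ⁅b, a⁆ * (a * b) = b * a by rw [commutatorElement_def]; group]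
              _ = ⁅b, a⁆ ^ (i + 1) * (a * b ^ (i + 1)) := by rw [pow_succ, pow_succ' b]; simp [mul_assoc]
        have hcz : ∀ (g : GL ι F) (m : ℕ), g * ⁅b, a⁆ ^ m = ⁅b, a⁆ ^ m * g := fun g m =>
          ((show Commute g ⁅b, a⁆ from hz g).pow_right m).eq
        calc (a * b) ^ (i + 1) = a ^ i * (b ^ i * a) * b * ⁅b, a⁆ ^ (i.choose 2) := by
              rw [pow_succ, ih]
              calc a ^ i * b ^ i * ⁅b, a⁆ ^ i.choose 2 * (a * b)
                  = a ^ i * b ^ i * (⁅b, a⁆ ^ i.choose 2 * (a * b)) := mul_assoc _ _ _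
                _ = a ^ i * b ^ i * ((a * b) * ⁅b, a⁆ ^ i.choose 2) := by rw [hcz]
                _ = _ := by simp [mul_assoc]
          _ = a ^ (i + 1) * b ^ (i + 1) * ⁅b, a⁆ ^ ((i + 1).choose 2) := by
              rw [hbi, Nat.choose_succ_succ' i 1, Nat.choose_one_right, pow_add ⁅b, a⁆, pow_succ a, pow_succ b,
                ← hcz (a * b ^ i) i]
              calc a ^ i * (a * b ^ i * ⁅b, a⁆ ^ i) * b * ⁅b, a⁆ ^ i.choose 2
                  = a ^ i * a * b ^ i * (⁅b, a⁆ ^ i * b) * ⁅b, a⁆ ^ i.choose 2 := by simp [mul_assoc]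
                _ = a ^ i * a * (b ^ i * b) * (⁅b, a⁆ ^ i * ⁅b, a⁆ ^ i.choose 2) := by
                    rw [← hcz b i]; simp [mul_assoc]
    have hdvd : r ∣ N.choose 2 := by
      rcases hN' with ⟨h, h'⟩ | ⟨h, h'⟩
      · rw [h', h]; decide
      · rw [h', Nat.choose_two_right]
        obtain ⟨t, ht'⟩ := h
        rw [ht', show (2 * t + 1) * (2 * t + 1 - 1) = 2 * ((2 * t + 1) * t) by rw [Nat.add_sub_cancel]; ring,
          Nat.mul_div_cancel_left _ two_pos]
        exact dvd_mul_right _ _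
    obtain ⟨t, ht⟩ := hdvd
    rw [hformula, ht, pow_mul ⁅b, a⁆, hcpow b hb a ha, one_pow, mul_one]
  let R : Subgroup (GL ι F) :=
    { carrier := {x | x ∈ L ∧ x ^ N = 1}
      one_mem' := ⟨one_mem _, one_pow _⟩
      mul_mem' := fun {a b} ha hb => ⟨mul_mem ha.1 hb.1, by rw [hpowN a ha.1 b hb.1, ha.2, hb.2, one_mul]⟩
      inv_mem' := fun {a} ha => ⟨inv_mem ha.1, by rw [inv_pow, ha.2, inv_one]⟩ }
  have hRG : NormalIn R G := fun g hg x hx => ⟨hL g hg x hx.1, by rw [conj_pow, hx.2, mul_one, mul_inv_cancel]⟩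
  -- `L = R * Z`
  let K : Subgroup (GL ι F) :=
    { carrier := {x | x ∈ L ∧ ∃ c : F, c ≠ 0 ∧ ((x ^ r : GL ι F) : Matrix ι ι F) = c ^ r • 1 ∨
          c ≠ 0 ∧ ((x ^ r : GL ι F) : Matrix ι ι F) = (-c ^ r) • 1}
      one_mem' := ⟨one_mem _, 1, Or.inl ⟨one_ne_zero, by simp⟩⟩
      mul_mem' := fun {a b} ha hb => by
        obtain ⟨c, hc⟩ := ha.2
        obtain ⟨d, hd⟩ := hb.2
        refine ⟨mul_mem ha.1 hb.1, c * d, ?_⟩
        have hz : (a * b) ^ r = a ^ r * b ^ r ∨ ((a * b) ^ r : GL ι F).val = (-1 : F) • ((a ^ r * b ^ r : GL ι F) : Matrix ι ι F) := by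
          rcases hN' with ⟨h, -⟩ | ⟨-, h'⟩
          · obtain ⟨e, he, hce⟩ := hscal _ (h2 (Subgroup.commutator_mem_commutator hb.1 ha.1))
            have h1 := scalar_pow_eq hce r
            rw [hcpow b hb.1 a ha.1, Units.val_one, h] at h1
            have h2' : e ^ 2 = 1 := (smul_one_inj (ι := ι) (by rw [one_smul]; exact h1)).symm
            have hab : (a * b) ^ r = a ^ r * b ^ r * ⁅b, a⁆ := by
              rw [h, pow_two, pow_two, pow_two]
              calc a * b * (a * b) = a * (b * a) * b := by simp [mul_assoc]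
                _ = a * (⁅b, a⁆ * (a * b)) * b := by
                    rw [show ⁅b, a⁆ * (a * b) = b * a by rw [commutatorElement_def]; group]
                _ = a * a * (b * b) * ⁅b, a⁆ := by
                    rw [← hcomm b hb.1 a ha.1 (a * b)]
                    calc a * (a * b * ⁅b, a⁆) * b = a * a * b * (⁅b, a⁆ * b) := by simp [mul_assoc]
                      _ = a * a * (b * b) * ⁅b, a⁆ := by rw [← hcomm b hb.1 a ha.1 b]; simp [mul_assoc]
            rcases sq_eq_one_iff.mp h2' with he1 | he1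
            · left
              rw [hab, show ⁅b, a⁆ = 1 from Units.ext (by rw [hce, he1, one_smul, Units.val_one]), mul_one]
            · right
              rw [hab, Units.val_mul, hce, he1, Matrix.mul_smul, mul_one]
          · left
            have := hpowN a ha.1 b hb.1
            rwa [h'] at this
        have hprod : ((a ^ r * b ^ r : GL ι F) : Matrix ι ι F) = (c * d) ^ r • 1 ∨
            ((a ^ r * b ^ r : GL ι F) : Matrix ι ι F) = (-(c * d) ^ r) • 1 := by
          rcases hc with ⟨-, hc⟩ | ⟨-, hc⟩ <;> rcases hd with ⟨-, hd⟩ | ⟨-, hd⟩ <;>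
            rw [Units.val_mul, hc, hd, smul_mul_smul_comm, one_mul, mul_pow] <;> simp [neg_mul, mul_neg]
        have hcd : c * d ≠ 0 := mul_ne_zero (hc.elim And.left And.left) (hd.elim And.left And.left)
        rcases hz with hz | hz
        · rw [hz]
          exact hprod.imp (⟨hcd, ·⟩) (⟨hcd, ·⟩)
        · rw [hz]
          rcases hprod with hp' | hp'
          · exact Or.inr ⟨hcd, by rw [hp', smul_smul, neg_one_mul]⟩
          · exact Or.inl ⟨hcd, by rw [hp', smul_smul, neg_one_mul, neg_neg]⟩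
      inv_mem' := fun {a} ha => by
        obtain ⟨c, hc⟩ := ha.2
        refine ⟨inv_mem ha.1, c⁻¹, ?_⟩
        have h0 : c ≠ 0 := hc.elim And.left And.left
        have key : ∀ s : F, s ≠ 0 → ((a ^ r : GL ι F) : Matrix ι ι F) = s • 1 →
            ((a⁻¹ ^ r : GL ι F) : Matrix ι ι F) = s⁻¹ • 1 := fun s hs h => by
          rw [inv_pow]
          refine (Units.eq_inv_of_mul_eq_one_left (u := a ^ r) ?_).symm
          rw [h, smul_mul_smul_comm, one_mul, mul_inv_cancel₀ hs, one_smul]
        rcases hc with ⟨-, hc⟩ | ⟨-, hc⟩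
        · exact Or.inl ⟨inv_ne_zero h0, by rw [key _ (pow_ne_zero r h0) hc, inv_pow]⟩
        · exact Or.inr ⟨inv_ne_zero h0, by rw [key _ (neg_ne_zero.mpr (pow_ne_zero r h0)) hc, inv_pow, inv_neg]⟩ }
  have hKG : NormalIn K G := fun g hg x hx => by
    obtain ⟨c, hc⟩ := hx.2
    refine ⟨hL g hg x hx.1, c, ?_⟩
    rcases hc with ⟨h0, hc⟩ | ⟨h0, hc⟩
    · exact Or.inl ⟨h0, by rw [conj_pow, Units.val_mul, Units.val_mul, hc, Matrix.mul_smul, mul_one, Matrix.smul_mul,
        ← Units.val_mul, mul_inv_cancel, Units.val_one]⟩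
    · exact Or.inr ⟨h0, by rw [conj_pow, Units.val_mul, Units.val_mul, hc, Matrix.mul_smul, mul_one, Matrix.smul_mul,
        ← Units.val_mul, mul_inv_cancel, Units.val_one]⟩
  have hKZ : Z ≤ K := fun z hz => by
    obtain ⟨c, h0, hc⟩ := hscal z hz
    exact ⟨hZ hz, c, Or.inl ⟨h0, scalar_pow_eq hc r⟩⟩
  have hK : K = L := by
    refine (hmin K (fun x hx => hx.1) hKG hKZ).resolve_left fun hKeq => ?_
    -- otherwise the group is cyclic modulo scalars
    let P₀ : Subgroup Fˣ :=
      { carrier := {u | ∃ c : F, c ≠ 0 ∧ ((u : F) = c ^ r ∨ (u : F) = -c ^ r)}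
        one_mem' := ⟨1, one_ne_zero, Or.inl (by simp)⟩
        mul_mem' := fun {u v} hu hv => by
          obtain ⟨c, hc0, hc⟩ := hu
          obtain ⟨d, hd0, hd⟩ := hv
          refine ⟨c * d, mul_ne_zero hc0 hd0, ?_⟩
          rcases hc with hc | hc <;> rcases hd with hd | hd <;> rw [Units.val_mul, hc, hd] <;> simp [mul_pow]
        inv_mem' := fun {u} hu => by
          obtain ⟨c, hc0, hc⟩ := hu
          refine ⟨c⁻¹, inv_ne_zero hc0, ?_⟩
          rcases hc with hc | hc <;> rw [Units.val_inv_eq_inv_val, hc] <;> simp [inv_pow, inv_neg] }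
    have hex : ∀ x : L, ∃ u : Fˣ, (((x : GL ι F) ^ r : GL ι F) : Matrix ι ι F) = (u : F) • 1 := fun x =>
      (Geo.mem_scalars_iff _).mp (hpr x x.2)
    choose θ hθ using hex
    have hθmul : ∀ x y : L, (θ (x * y) : Fˣ ⧸ P₀) = (θ x : Fˣ ⧸ P₀) * (θ y : Fˣ ⧸ P₀) := by
      intro x y
      rw [← QuotientGroup.mk_mul, QuotientGroup.eq]
      obtain ⟨e, he0, hce⟩ := hscal _ (h2 (Subgroup.commutator_mem_commutator y.2 x.2))
      have hf : ((x : GL ι F) * y) ^ r = (x : GL ι F) ^ r * (y : GL ι F) ^ r ∨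
          ((((x : GL ι F) * y) ^ r : GL ι F) : Matrix ι ι F) =
            (-1 : F) • (((x : GL ι F) ^ r * (y : GL ι F) ^ r : GL ι F) : Matrix ι ι F) := by
        rcases hN' with ⟨h, -⟩ | ⟨-, h'⟩
        · have h1 := scalar_pow_eq hce r
          rw [hcpow _ y.2 _ x.2, Units.val_one, h] at h1
          have h2' : e ^ 2 = 1 := (smul_one_inj (ι := ι) (by rw [one_smul]; exact h1)).symm
          have hab : ((x : GL ι F) * y) ^ r = (x : GL ι F) ^ r * (y : GL ι F) ^ r * ⁅(y : GL ι F), (x : GL ι F)⁆ := by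
            have hc := hcomm _ y.2 _ x.2
            rw [h, pow_two, pow_two, pow_two]
            calc (x : GL ι F) * y * (x * y) = x * (y * x) * y := by simp [mul_assoc]
              _ = x * (⁅(y : GL ι F), (x : GL ι F)⁆ * (x * y)) * y := by
                  rw [show ⁅(y : GL ι F), (x : GL ι F)⁆ * ((x : GL ι F) * y) = y * x by rw [commutatorElement_def]; group]
              _ = x * x * (y * y) * ⁅(y : GL ι F), (x : GL ι F)⁆ := by
                  rw [← hc ((x : GL ι F) * y)]
                  calc (x : GL ι F) * (x * y * ⁅(y : GL ι F), (x : GL ι F)⁆) * y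
                      = x * x * y * (⁅(y : GL ι F), (x : GL ι F)⁆ * y) := by simp [mul_assoc]
                    _ = x * x * (y * y) * ⁅(y : GL ι F), (x : GL ι F)⁆ := by rw [← hc (y : GL ι F)]; simp [mul_assoc]
          rcases sq_eq_one_iff.mp h2' with he1 | he1
          · left
            rw [hab, show ⁅(y : GL ι F), (x : GL ι F)⁆ = 1 from Units.ext (by rw [hce, he1, one_smul, Units.val_one]),
              mul_one]
          · right
            rw [hab, Units.val_mul, hce, he1, Matrix.mul_smul, mul_one]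
        · left
          have := hpowN _ x.2 _ y.2
          rwa [h'] at this
      have hxy : (θ (x * y) : F) = θ x * θ y ∨ (θ (x * y) : F) = -(θ x * θ y) := by
        have h1 := hθ (x * y)
        rw [Subgroup.coe_mul] at h1
        rcases hf with hf | hf
        · left
          rw [hf, Units.val_mul, hθ x, hθ y, smul_mul_smul_comm, one_mul] at h1
          exact (smul_one_inj (ι := ι) h1).symm
        · right
          rw [hf, Units.val_mul, hθ x, hθ y, smul_mul_smul_comm, one_mul, smul_smul, neg_one_mul] at h1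
          exact (smul_one_inj (ι := ι) h1).symm
      refine ⟨1, one_ne_zero, ?_⟩
      rw [Units.val_mul, Units.val_inv_eq_inv_val, Units.val_mul, one_pow]
      have hne : (θ x : F) * θ y ≠ 0 := mul_ne_zero (θ x).ne_zero (θ y).ne_zero
      rcases hxy with h | h
      · left; rw [h, inv_mul_cancel₀ hne]
      · right; rw [h, inv_neg, neg_mul, inv_mul_cancel₀ hne]
    let Θ : L →* Fˣ ⧸ P₀ := MonoidHom.mk' (fun x => (θ x : Fˣ ⧸ P₀)) hθmul
    have hker : ∀ x : L, Θ x = 1 → (x : GL ι F) ∈ Z := by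
      intro x hx
      rw [← hKeq]
      obtain ⟨c, hc0, hc⟩ := (QuotientGroup.eq_one_iff (θ x)).mp hx
      refine ⟨x.2, c, ?_⟩
      rcases hc with hc | hc
      · exact Or.inl ⟨hc0, by rw [hθ x, hc]⟩
      · exact Or.inr ⟨hc0, by rw [hθ x, hc]⟩
    haveI : IsCyclic (Fˣ ⧸ P₀) := isCyclic_of_surjective _ (QuotientGroup.mk'_surjective P₀)
    haveI : IsCyclic Θ.range := Subgroup.isCyclic _
    obtain ⟨⟨_, ⟨g₀, rfl⟩⟩, hgen⟩ := IsCyclic.exists_generator (α := Θ.range)
    have hform : ∀ x : L, ∃ (i : ℤ) (z : GL ι F), z ∈ Z ∧ (x : GL ι F) = (g₀ : GL ι F) ^ i * z := by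
      intro x
      obtain ⟨i, hi⟩ := hgen ⟨Θ x, x, rfl⟩
      have h1 : Θ (g₀ ^ i) = Θ x := by
        rw [map_zpow]; exact congrArg Subtype.val hi
      refine ⟨i, _, hker ((g₀ ^ i)⁻¹ * x) (by rw [map_mul, map_inv, h1, inv_mul_cancel]), ?_⟩
      simp
    refine hnc fun a ha b hb => ?_
    obtain ⟨i, z, hz, hae⟩ := hform ⟨a, ha⟩
    obtain ⟨i', w, hw, hbe⟩ := hform ⟨b, hb⟩
    have hae' : a = (g₀ : GL ι F) ^ i * z := hae
    have hbe' : b = (g₀ : GL ι F) ^ i' * w := hbe
    have hzc : ∀ g, Commute g z := fun g => scalars_central hz g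
    have hwc : ∀ g, Commute g w := fun g => scalars_central hw g
    rw [hae', hbe']
    exact (((Commute.zpow_zpow_self _ i i').mul_right (hwc _)).mul_left
      (((hzc _).symm).mul_right (hwc z))).eq
  have hLRZ : L ≤ R ⊔ Z := by
    intro x hx
    obtain ⟨-, c, hc⟩ := (hK.symm ▸ hx : x ∈ K)
    have h0 : c ≠ 0 := hc.elim And.left And.left
    obtain ⟨u, hu⟩ : ∃ u : GL ι F, (u : Matrix ι ι F) = c • 1 ∧ u ∈ Z := by
      refine ⟨Units.map (Matrix.scalar ι : F →+* Matrix ι ι F).toMonoidHom (Units.mk0 c h0), ?_, ⟨Units.mk0 c h0, rfl⟩⟩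
      simp [Matrix.smul_one_eq_diagonal]
    obtain ⟨hu, huZ⟩ := hu
    have hy : u⁻¹ * x ∈ L := mul_mem (inv_mem (hZ huZ)) hx
    have hyr : ((((u⁻¹ * x) ^ r : GL ι F)) : Matrix ι ι F) = (1 : F) • 1 ∨
        ((((u⁻¹ * x) ^ r : GL ι F)) : Matrix ι ι F) = (-1 : F) • 1 := by
      have hcm : Commute u⁻¹ x := ((show Commute x u from scalars_central huZ x).inv_right).symm
      rw [hcm.mul_pow, Units.val_mul, inv_pow]
      have hinv : ((u ^ r)⁻¹ : GL ι F).val = (c ^ r)⁻¹ • (1 : Matrix ι ι F) := by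
        refine (Units.eq_inv_of_mul_eq_one_left (u := u ^ r) ?_).symm
        rw [scalar_pow_eq hu, smul_mul_smul_comm, one_mul, mul_inv_cancel₀ (pow_ne_zero r h0), one_smul]
      rcases hc with ⟨-, hc⟩ | ⟨-, hc⟩
      · left; rw [hinv, hc, smul_mul_smul_comm, one_mul, inv_mul_cancel₀ (pow_ne_zero r h0)]
      · right; rw [hinv, hc, smul_mul_smul_comm, one_mul, mul_neg, inv_mul_cancel₀ (pow_ne_zero r h0)]
    -- absorb the sign
    rcases hN' with ⟨h, h'⟩ | ⟨hodd, h'⟩
    · have hyR : u⁻¹ * x ∈ R := ⟨hy, by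
        rw [h', show 4 = r * 2 by omega, pow_mul]
        refine Units.ext ?_
        rw [Units.val_pow_eq_pow_val]
        rcases hyr with hyr | hyr <;> rw [hyr, smul_pow] <;> simp⟩
      have := Subgroup.mul_mem_sup hyR huZ
      rwa [scalars_central huZ, mul_inv_cancel_left] at this
    · rcases hyr with hyr | hyr
      · have hyR : u⁻¹ * x ∈ R := ⟨hy, Units.ext (by rw [h', hyr, one_smul]; rfl)⟩
        have := Subgroup.mul_mem_sup hyR huZ
        rwa [scalars_central huZ, mul_inv_cancel_left] at this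
      · have hm : (-1 : GL ι F) ∈ Z := (Geo.mem_scalars_iff _).mpr ⟨-1, by simp⟩
        have hyR : (-1 : GL ι F) * (u⁻¹ * x) ∈ R := ⟨mul_mem (hZ hm) hy, by
          rw [h', ((show Commute (u⁻¹ * x) (-1) from scalars_central hm _).symm).mul_pow, hodd.neg_one_pow]
          exact Units.ext (by rw [Units.val_mul, hyr]; simp)⟩
        have hmu := mul_mem huZ hm
        have := Subgroup.mul_mem_sup hyR hmu
        rw [scalars_central hmu] at this
        simpa [mul_assoc] using this
  have hRabs : Geo.ActsAbsolutelyIrreducibly (Geo.matrixSet R) := by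
    have hsub : alg L ≤ alg R := by
      refine Algebra.adjoin_le ?_
      rintro _ ⟨x, hx, rfl⟩
      obtain ⟨a, ha, z, hz, rfl⟩ := (Subgroup.mem_sup_of_normal_right (ht := Geo.scalars_normal)).mp (hLRZ hx)
      obtain ⟨c, -, hc⟩ := hscal z hz
      show ((a * z : GL ι F) : Matrix ι ι F) ∈ alg R
      rw [Units.val_mul, hc, Matrix.mul_smul, mul_one]
      exact Subalgebra.smul_mem _ (coe_mem_alg ha) c
    exact absIrred_of_alg_eq_top (top_le_iff.mp (alg_eq_top habs ▸ hsub))
  refine ⟨r, R, fun x hx => hx.1, ⟨hr, hRabs, fun x hx => hx.2, fun x hx y hy => h2 (Subgroup.commutator_mem_commutator hx.1 hy.1)⟩,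
    hr0, hRG, fun x hx y hy => hcpow x hx.1 y hy.1, fun x hx h => ⟨hZ hx, h⟩, fun M hM hMG => ?_⟩
  have hle : M ⊔ Z ≤ L := sup_le (fun x hx => (hM hx).1) hZ
  have hn' : NormalIn (M ⊔ Z) G := by
    intro g hg x hx
    obtain ⟨a, ha, z, hz, rfl⟩ := (Subgroup.mem_sup_of_normal_right (ht := Geo.scalars_normal)).mp hx
    rw [show g * (a * z) * g⁻¹ = (g * a * g⁻¹) * (g * z * g⁻¹) by group]
    exact Subgroup.mul_mem_sup (hMG g hg a ha) (Geo.scalars_normal.conj_mem z hz g)
  rcases hmin _ hle hn' le_sup_right with h | h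
  · exact Or.inl (le_sup_left.trans h.le)
  · exact Or.inr (fun x hx => h.ge hx.1)

/-- A minimal absolutely irreducible class-two normal subgroup gives a group of symplectic type. -/
theorem exists_typeTwo [Fintype F] [Nonempty ι] (hn : 1 < Fintype.card ι) {G L : Subgroup (GL ι F)}
    (hL : NormalIn L G) (hZ : Geo.scalars ι F ≤ L) (habs : Geo.ActsAbsolutelyIrreducibly (Geo.matrixSet L))
    (hmin : ∀ M ≤ L, NormalIn M G → Geo.scalars ι F ≤ M → M = Geo.scalars ι F ∨ M = L)
    (h2 : ⁅L, L⁆ ≤ Geo.scalars ι F) :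
    ∃ (r : ℕ) (R : Subgroup (GL ι F)), TypeTwo r G R :=
  (exists_typeTwo_le hn hL hZ habs hmin h2).imp fun _ ⟨R, _, hR⟩ => ⟨R, hR⟩

namespace PreTypeTwo

variable {r : ℕ} {R : Subgroup (GL ι F)}

/-- The scalar part. -/
theorem center_iff [Nonempty ι] (h : PreTypeTwo r R) (x : R) :
    x ∈ Subgroup.center R ↔ (x : GL ι F) ∈ Geo.scalars ι F := by
  constructor
  · intro hx
    exact mem_scalars_of_commute h.absIrred fun y hy =>
      (congrArg Subtype.val (Subgroup.mem_center_iff.mp hx ⟨y, hy⟩)).symm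
  · intro hx
    exact Subgroup.mem_center_iff.mpr fun y => Subtype.ext (scalars_central hx _)

theorem isPGroup (h : PreTypeTwo r R) : IsPGroup r R := by
  intro x
  refine ⟨2, ?_⟩
  refine orderOf_dvd_iff_pow_eq_one.mp ((orderOf_dvd_of_pow_eq_one (Subtype.ext (h.pow x x.2))).trans ?_)
  rw [pow_two]
  refine Nat.mul_dvd_mul_left r ?_
  rcases h.prime.eq_two_or_odd' with h2 | h2
  · exact h2 ▸ dvd_of_eq (by norm_num)
  · rw [show Nat.gcd 2 r = 1 from Nat.coprime_two_left.mpr h2]; exact one_dvd _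

/-- The scalar by which conjugation acts. -/
noncomputable def cs (h : PreTypeTwo r R) (y x : R) : F :=
  ((Geo.mem_scalars_iff _).mp (h.comm_scalar (y : GL ι F) y.2 (x : GL ι F) x.2)).choose

theorem cs_spec (h : PreTypeTwo r R) (y x : R) :
    ((y : GL ι F) : Matrix ι ι F) * ((x : GL ι F) : Matrix ι ι F) = h.cs y x • (((x : GL ι F) : Matrix ι ι F) * ((y : GL ι F) : Matrix ι ι F)) := by
  have hc := ((Geo.mem_scalars_iff _).mp (h.comm_scalar (y : GL ι F) y.2 (x : GL ι F) x.2)).choose_spec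
  have h1 : ((⁅(y : GL ι F), (x : GL ι F)⁆ * ((x : GL ι F) * y) : GL ι F) : Matrix ι ι F) =
      (((y : GL ι F) * x : GL ι F) : Matrix ι ι F) := by
    congr 1; rw [commutatorElement_def]; group
  rw [Units.val_mul, hc, Units.val_mul, Units.val_mul, Matrix.smul_mul, one_mul] at h1
  exact h1.symm

theorem card_eq [Fintype F] [Nonempty ι] (h : PreTypeTwo r R) :
    Nat.card R = Fintype.card ι ^ 2 * Nat.card (Subgroup.center R) := by
  classical
  haveI : Fintype R := Fintype.ofFinite R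
  let κ := R ⧸ Subgroup.center R
  haveI : Fintype κ := Fintype.ofFinite κ
  let v : κ → Matrix ι ι F := fun j => ((j.out : R) : GL ι F)
  have hind : LinearIndependent F v := by
    refine linearIndependent_of_characters (α := R)
      (fun y => (conjHom (y : GL ι F)).toLinearMap) v (fun j y => h.cs y j.out)
      (fun j => ((j.out : R) : GL ι F).ne_zero) (fun j y => ?_) fun i j hij => ?_
    · show ((y : GL ι F) : Matrix ι ι F) * v j * (((y : GL ι F)⁻¹ : GL ι F) : Matrix ι ι F) = _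
      rw [h.cs_spec y j.out, Matrix.smul_mul, mul_assoc, ← Units.val_mul, mul_inv_cancel, Units.val_one, mul_one]
    · rw [← i.out_eq', ← j.out_eq', QuotientGroup.eq, Subgroup.mem_center_iff]
      intro y
      have hi := h.cs_spec y i.out
      have hj := h.cs_spec y j.out
      rw [hij y] at hi
      have key : (y : GL ι F) * i.out * (((i.out : R) : GL ι F) * y)⁻¹ =
          (y : GL ι F) * j.out * (((j.out : R) : GL ι F) * y)⁻¹ := by
        refine Units.ext ?_
        simp only [Units.val_mul, hi, hj, Matrix.smul_mul]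
        rw [← Units.val_mul, ← Units.val_mul, ← Units.val_mul, ← Units.val_mul, mul_inv_cancel, mul_inv_cancel]
      refine Subtype.ext ?_
      simp only [Subgroup.coe_mul, Subgroup.coe_inv]
      have key2 : ((i.out : R) : GL ι F)⁻¹ * ((j.out : R) : GL ι F) = (y : GL ι F) * (((i.out : R) : GL ι F)⁻¹ * j.out) * (y : GL ι F)⁻¹ := by
        have k1 : (y : GL ι F) * i.out * (y : GL ι F)⁻¹ * ((i.out : R) : GL ι F)⁻¹ =
            y * j.out * (y : GL ι F)⁻¹ * ((j.out : R) : GL ι F)⁻¹ := by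
          simpa [mul_inv_rev, mul_assoc] using key
        obtain ⟨c, hc⟩ := (Geo.mem_scalars_iff _).mp (h.comm_scalar _ y.2 _ j.out.2)
        have hz : ∀ g, g * ((y : GL ι F) * j.out * (y : GL ι F)⁻¹ * ((j.out : R) : GL ι F)⁻¹) =
            ((y : GL ι F) * j.out * (y : GL ι F)⁻¹ * ((j.out : R) : GL ι F)⁻¹) * g := by
          have := h.comm_scalar _ y.2 _ j.out.2
          rw [commutatorElement_def] at this
          exact scalars_central this
        set z := (y : GL ι F) * j.out * (y : GL ι F)⁻¹ * ((j.out : R) : GL ι F)⁻¹ with hzdef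
        have e1 : (y : GL ι F) * i.out * (y : GL ι F)⁻¹ = z * i.out := by rw [← k1]; group
        have e2 : (y : GL ι F) * j.out * (y : GL ι F)⁻¹ = z * j.out := by rw [hzdef]; group
        calc ((i.out : R) : GL ι F)⁻¹ * j.out = (z * i.out)⁻¹ * (z * j.out) := by group
          _ = ((y : GL ι F) * i.out * (y : GL ι F)⁻¹)⁻¹ * ((y : GL ι F) * j.out * (y : GL ι F)⁻¹) := by rw [e1, e2]
          _ = _ := by group
      conv_rhs => rw [key2]
      group
  have hspan : ⊤ ≤ Submodule.span F (Set.range v) := by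
    rw [← Algebra.top_toSubmodule, ← alg_eq_top h.absIrred, Algebra.adjoin_eq_span]
    refine Submodule.span_le.mpr fun a ha => ?_
    have ha' : a ∈ R.toSubmonoid.map (Units.coeHom (Matrix ι ι F)) :=
      (Submonoid.closure_le.mpr (show Geo.matrixSet R ⊆ R.toSubmonoid.map (Units.coeHom (Matrix ι ι F)) from
        fun b hb => hb)) ha
    obtain ⟨x, hx, rfl⟩ := ha'
    obtain ⟨z, hz⟩ := QuotientGroup.mk_out_eq_mul (Subgroup.center R) ⟨x, hx⟩
    obtain ⟨c, hc⟩ := (Geo.mem_scalars_iff _).mp ((h.center_iff z).mp z.2)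
    have hv : v (QuotientGroup.mk ⟨x, hx⟩) = (c : F) • (x : Matrix ι ι F) := by
      show ((((QuotientGroup.mk ⟨x, hx⟩ : κ).out : R) : GL ι F) : Matrix ι ι F) = _
      rw [hz, Subgroup.coe_mul, Units.val_mul, hc, Matrix.mul_smul, mul_one]
    have : (x : Matrix ι ι F) = (c : F)⁻¹ • v (QuotientGroup.mk ⟨x, hx⟩) := by
      rw [hv, smul_smul, inv_mul_cancel₀ c.ne_zero, one_smul]
    show (x : Matrix ι ι F) ∈ Submodule.span F (Set.range v)
    rw [this]
    exact Submodule.smul_mem _ _ (Submodule.subset_span ⟨_, rfl⟩)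
  have hcard := Module.finrank_eq_card_basis (Basis.mk hind hspan)
  rw [Module.finrank_matrix, Module.finrank_self, mul_one] at hcard
  rw [Subgroup.card_eq_card_quotient_mul_card_subgroup (Subgroup.center R), Nat.card_eq_fintype_card,
    ← hcard, pow_two]

theorem exists_pow [Fintype F] (h : PreTypeTwo r R) (hn : 1 < Fintype.card ι) :
    ∃ m, 1 ≤ m ∧ Fintype.card ι = r ^ m := by
  haveI : Nonempty ι := Fintype.card_pos_iff.mp (by omega)
  haveI : Fact r.Prime := ⟨h.prime⟩
  obtain ⟨a, ha⟩ := h.isPGroup.exists_card_eq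
  obtain ⟨m, -, hm⟩ := (Nat.dvd_prime_pow h.prime).mp
    (show Fintype.card ι ∣ r ^ a by rw [← ha, h.card_eq, pow_two, mul_assoc]; exact dvd_mul_right _ _)
  refine ⟨m, ?_, hm⟩
  by_contra h0
  rw [show m = 0 by omega, pow_zero] at hm
  omega

end PreTypeTwo

namespace TypeTwo

variable {r : ℕ} {G R : Subgroup (GL ι F)}

/-- With the roots of unity in the field, there is a monomial basis. -/
theorem exists_monomial [Fintype F] [Nonempty ι] (h : TypeTwo r G R) {ω : F}
    (hω : IsPrimitiveRoot ω (r * Nat.gcd 2 r)) :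
    ∃ b : Basis ι F (ι → F), ∀ g ∈ R, ∃ (π : ι → ι) (c : ι → F), Function.Injective π ∧
      (∀ i, c i ^ (r * Nat.gcd 2 r) = 1) ∧ ∀ i, (g : Matrix ι ι F) *ᵥ b i = c i • b (π i) := by
  classical
  set N := r * Nat.gcd 2 r with hN
  have hN0 : (N : F) ≠ 0 := by
    rcases h.prime.eq_two_or_odd' with h2 | h2
    · have := h.ne_zero
      rw [hN, h2] at *
      have h4 : ((2 * Nat.gcd 2 2 : ℕ) : F) = (2 : ℕ) * (2 : ℕ) := by norm_num
      rw [h4]
      exact mul_ne_zero this this
    · rw [hN, show Nat.gcd 2 r = 1 from Nat.coprime_two_left.mpr h2, mul_one]; exact h.ne_zero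
  -- a maximal abelian subgroup
  obtain ⟨A, ⟨hAR, hAc⟩, hAmax⟩ := exists_maximal_of_wellFoundedGT
    (fun A : Subgroup (GL ι F) => A ≤ R ∧ ∀ a ∈ A, ∀ b ∈ A, a * b = b * a) ⟨⊥, bot_le, fun a ha b hb => by
      rw [Subgroup.mem_bot.mp ha, one_mul, mul_one]⟩
  have hmem : ∀ x ∈ R, (∀ a ∈ A, a * x = x * a) → x ∈ A := by
    intro x hx hxA
    have hS : Subgroup.closure (insert x (A : Set (GL ι F))) ≤ Subgroup.centralizer (insert x (A : Set (GL ι F))) := by
      rw [Subgroup.closure_le]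
      intro y hy z hz
      rcases hy with rfl | hy <;> rcases hz with rfl | hz
      · rfl
      · exact hxA z hz
      · exact (hxA y hy).symm
      · exact hAc z hz y hy
    refine hAmax ⟨(Subgroup.closure_le R).mpr (Set.insert_subset hx hAR), fun a ha b hb => ?_⟩
      (fun a ha => Subgroup.subset_closure (Set.mem_insert_of_mem x ha)) (Subgroup.subset_closure (Set.mem_insert _ _))
    have h2 : Subgroup.closure (insert x (A : Set (GL ι F))) ≤
        Subgroup.centralizer ((Subgroup.closure (insert x (A : Set (GL ι F))) : Subgroup (GL ι F)) : Set (GL ι F)) := by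
      rw [Subgroup.closure_le]
      intro y hy z hz
      exact ((hS hz) y hy).symm
    exact (h2 hb) a ha
  -- a common eigenvector
  obtain ⟨W, ⟨hWi, hW0⟩, hWmin⟩ := exists_minimal_of_wellFoundedLT
    (fun W : Submodule F (ι → F) => Inv A W ∧ W ≠ ⊥) ⟨⊤, fun _ _ _ _ => Submodule.mem_top, by simp⟩
  obtain ⟨v₀, hv₀, hv₀0⟩ := (Submodule.ne_bot_iff W).mp hW0
  have hev : ∀ a ∈ A, ∃ c : F, c ^ N = 1 ∧ ∀ w ∈ W, (a : Matrix ι ι F) *ᵥ w = c • w := by
    intro a ha
    let M := (a : Matrix ι ι F)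
    let wj : ℕ → ι → F := fun j => ∑ i ∈ Finset.range N, (ω ^ j) ^ i • (M ^ i *ᵥ v₀)
    have hsum : ∑ j ∈ Finset.range N, wj j = (N : F) • v₀ := by
      rw [Finset.sum_comm, Finset.sum_eq_single 0]
      · simp only [pow_zero, one_smul, Finset.sum_const, Finset.card_range, Matrix.one_mulVec,
          ← Nat.cast_smul_eq_nsmul F]
      · intro i hi hi0
        rw [← Finset.sum_smul]
        have : ∑ j ∈ Finset.range N, (ω ^ j) ^ i = 0 := by
          have hne : (ω ^ i - 1) ≠ 0 := sub_ne_zero.mpr (hω.pow_ne_one_of_pos_of_lt hi0 (Finset.mem_range.mp hi))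
          have hg := geom_sum_mul (ω ^ i) N
          rw [← pow_mul ω i N, mul_comm i N, pow_mul ω N i, hω.pow_eq_one, one_pow, sub_self, mul_eq_zero] at hg
          refine (Finset.sum_congr rfl fun j _ => ?_).trans (hg.resolve_right hne)
          rw [← pow_mul, mul_comm, pow_mul]
        rw [this, zero_smul]
      · intro h0; exact absurd (Finset.mem_range.mpr (Nat.pos_of_ne_zero (fun e => hN0 (by rw [e, Nat.cast_zero])))) h0
    obtain ⟨j, -, hj⟩ : ∃ j ∈ Finset.range N, wj j ≠ 0 := by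
      by_contra hcon
      push Not at hcon
      rw [Finset.sum_eq_zero hcon] at hsum
      exact smul_ne_zero hN0 hv₀0 hsum.symm
    have hMN : M ^ N = 1 := by
      show (a : Matrix ι ι F) ^ N = 1
      rw [← Units.val_pow_eq_pow_val, h.pow a (hAR ha), Units.val_one]
    have hωj : ω ^ j ≠ 0 := pow_ne_zero j (hω.ne_zero (fun e => hN0 (by rw [e, Nat.cast_zero])))
    have heig : M *ᵥ wj j = (ω ^ j)⁻¹ • wj j := by
      let f : ℕ → ι → F := fun i => (ω ^ j) ^ i • (M ^ i *ᵥ v₀)
      have h1 : (ω ^ j) • (M *ᵥ wj j) = ∑ i ∈ Finset.range N, f (i + 1) := by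
        simp only [wj, f, Matrix.mulVec_sum, Finset.smul_sum, Matrix.mulVec_smul, Matrix.mulVec_mulVec, smul_smul,
          ← pow_succ']
      have h2 : ∑ i ∈ Finset.range N, f (i + 1) = wj j := by
        have h3 := Finset.sum_range_succ' f N
        rw [Finset.sum_range_succ] at h3
        have h4 : f N = f 0 := by
          show (ω ^ j) ^ N • (M ^ N *ᵥ v₀) = (ω ^ j) ^ 0 • (M ^ 0 *ᵥ v₀)
          rw [hMN, pow_zero, pow_zero, ← pow_mul, mul_comm, pow_mul, hω.pow_eq_one, one_pow]
        rw [h4] at h3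
        exact (add_right_cancel h3).symm
      rw [h2] at h1
      rw [eq_inv_smul_iff₀ hωj]
      exact h1
    refine ⟨(ω ^ j)⁻¹, by rw [inv_pow, ← pow_mul, mul_comm, pow_mul, hω.pow_eq_one, one_pow, inv_one], ?_⟩
    let U : Submodule F (ι → F) := W ⊓ LinearMap.ker (Matrix.toLin' M - (ω ^ j)⁻¹ • LinearMap.id)
    have hUmem : ∀ w, w ∈ U ↔ w ∈ W ∧ M *ᵥ w = (ω ^ j)⁻¹ • w := fun w => by simp [U, sub_eq_zero]
    have hUi : Inv A U := by
      intro g hg w hw
      rw [hUmem] at hw ⊢
      refine ⟨hWi g hg w hw.1, ?_⟩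
      rw [Matrix.mulVec_mulVec]
      show (((a : GL ι F) : Matrix ι ι F) * (g : Matrix ι ι F)) *ᵥ w = _
      rw [← Units.val_mul, hAc a ha g hg, Units.val_mul, ← Matrix.mulVec_mulVec]
      show _ *ᵥ (M *ᵥ w) = _
      rw [hw.2, Matrix.mulVec_smul]
    have hwjW : wj j ∈ W := by
      refine Submodule.sum_mem _ fun i _ => Submodule.smul_mem _ _ ?_
      show (a : Matrix ι ι F) ^ i *ᵥ v₀ ∈ W
      rw [← Units.val_pow_eq_pow_val]
      exact hWi _ (pow_mem ha i) v₀ hv₀
    have hU0 : U ≠ ⊥ := fun e => hj ((Submodule.eq_bot_iff U).mp e _ ((hUmem _).mpr ⟨hwjW, heig⟩))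
    intro w hw
    exact ((hUmem w).mp (hWmin ⟨hUi, hU0⟩ inf_le_left hw)).2
  choose! χ hχN hχ using hev
  have hχ0 : ∀ a ∈ A, χ a ≠ 0 := fun a ha e => by
    have := hχN a ha
    rw [e, zero_pow (fun e => hN0 (by rw [e, Nat.cast_zero]))] at this
    exact zero_ne_one this
  let κ := R ⧸ A.subgroupOf R
  haveI : Fintype R := Fintype.ofFinite R
  haveI : Fintype κ := Fintype.ofFinite κ
  let bv : κ → ι → F := fun j => (((j.out : R) : GL ι F) : Matrix ι ι F) *ᵥ v₀
  have hact : ∀ (g : R) (j : κ), ∃ a ∈ A, ((g : GL ι F) : Matrix ι ι F) *ᵥ bv j = χ a • bv (g • j) := by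
    intro g j
    have hh : (g • j : κ).out⁻¹ * (g * j.out) ∈ A.subgroupOf R := by
      rw [← QuotientGroup.eq, QuotientGroup.out_eq']
      conv_lhs => rw [← QuotientGroup.out_eq' j]
      rfl
    have hh' : (((g • j : κ).out⁻¹ * (g * j.out) : R) : GL ι F) ∈ A := Subgroup.mem_subgroupOf.mp hh
    refine ⟨_, hh', ?_⟩
    rw [← Matrix.mulVec_smul, ← hχ _ hh' v₀ hv₀, Matrix.mulVec_mulVec, Matrix.mulVec_mulVec, ← Units.val_mul,
      ← Units.val_mul, Subgroup.coe_mul, Subgroup.coe_inv, Subgroup.coe_mul, mul_inv_cancel_left]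
  have hind : LinearIndependent F bv := by
    refine linearIndependent_of_characters (α := A) (fun a => Matrix.toLin' ((a : GL ι F) : Matrix ι ι F)) bv
      (fun j a => h.cs ⟨a, hAR a.2⟩ j.out * χ (a : GL ι F)) (fun j e => ?_) (fun j a => ?_) fun i j hij => ?_
    · exact hv₀0 (Aschbacher.mulVec_gl_inj ((j.out : R) : GL ι F) (by simpa using e))
    · rw [Matrix.toLin'_apply, Matrix.mulVec_mulVec, h.cs_spec ⟨a, hAR a.2⟩ j.out, Matrix.smul_mulVec,
        ← Matrix.mulVec_mulVec, hχ _ a.2 v₀ hv₀, Matrix.mulVec_smul, smul_smul]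
    · rw [← i.out_eq', ← j.out_eq', QuotientGroup.eq]
      refine hmem _ (inv_mem i.out.2 |> fun e => mul_mem e j.out.2) fun a ha => ?_
      have hc : h.cs ⟨a, hAR ha⟩ i.out = h.cs ⟨a, hAR ha⟩ j.out := mul_right_cancel₀ (hχ0 a ha) (hij ⟨a, ha⟩)
      have e1 := h.cs_spec ⟨a, hAR ha⟩ i.out
      have e2 := h.cs_spec ⟨a, hAR ha⟩ j.out
      simp only at e1 e2
      refine Units.ext ?_
      simp only [Subgroup.coe_mul, Subgroup.coe_inv, Units.val_mul]
      set ti := ((i.out : R) : GL ι F)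
      set tj := ((j.out : R) : GL ι F)
      have e3 : ((ti⁻¹ : GL ι F) : Matrix ι ι F) * (a : Matrix ι ι F) =
          h.cs ⟨a, hAR ha⟩ i.out • ((a : Matrix ι ι F) * ((ti⁻¹ : GL ι F) : Matrix ι ι F)) := by
        have := congrArg (fun M => ((ti⁻¹ : GL ι F) : Matrix ι ι F) * M * ((ti⁻¹ : GL ι F) : Matrix ι ι F)) e1
        simp only [Matrix.mul_smul, Matrix.smul_mul, ← mul_assoc, Units.inv_mul, one_mul] at this
        simpa [mul_assoc] using this
      calc (a : Matrix ι ι F) * (((ti⁻¹ : GL ι F) : Matrix ι ι F) * (tj : Matrix ι ι F))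
          = (a : Matrix ι ι F) * ((ti⁻¹ : GL ι F) : Matrix ι ι F) * (tj : Matrix ι ι F) := (mul_assoc _ _ _).symm
        _ = ((ti⁻¹ : GL ι F) : Matrix ι ι F) * (tj : Matrix ι ι F) * (a : Matrix ι ι F) := by
            have hc0 : h.cs ⟨a, hAR ha⟩ j.out ≠ 0 := by
              intro e
              rw [e, zero_smul, ← Units.val_mul] at e2
              exact (a * tj).ne_zero e2
            apply smul_right_injective (Matrix ι ι F) hc0
            show _ • _ = _ • _
            conv_lhs => rw [← hc, ← Matrix.smul_mul, ← e3, mul_assoc, e2, Matrix.mul_smul, ← mul_assoc]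
  have hspan : ⊤ ≤ Submodule.span F (Set.range bv) := by
    refine (((irr_iff.mpr h.absIrred.1) _ fun g hg w hw => ?_).resolve_left fun e => ?_).ge
    · have hle : Submodule.span F (Set.range bv) ≤ (Submodule.span F (Set.range bv)).comap (Matrix.toLin' (g : Matrix ι ι F)) := by
        refine Submodule.span_le.mpr ?_
        rintro _ ⟨j, rfl⟩
        obtain ⟨a, -, ha⟩ := hact ⟨g, hg⟩ j
        rw [SetLike.mem_coe, Submodule.mem_comap, Matrix.toLin'_apply, ha]
        exact Submodule.smul_mem _ _ (Submodule.subset_span ⟨_, rfl⟩)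
      exact hle hw
    · rw [Submodule.span_eq_bot] at e
      have := e _ ⟨(QuotientGroup.mk 1 : κ), rfl⟩
      exact hv₀0 (Aschbacher.mulVec_gl_inj _ (by simpa [bv] using this))
  let b₀ := Basis.mk hind hspan
  have hcard : Fintype.card κ = Fintype.card ι := by
    rw [← Module.finrank_eq_card_basis b₀, Module.finrank_pi]
  let ε := Fintype.equivOfCardEq hcard
  refine ⟨b₀.reindex ε, fun g hg => ?_⟩
  choose a ha hga using hact ⟨g, hg⟩
  refine ⟨fun i => ε ((⟨g, hg⟩ : R) • ε.symm i), fun i => χ (a (ε.symm i)), ?_, fun i => hχN _ (ha _), fun i => ?_⟩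
  · intro i i' e
    exact ε.symm.injective (MulAction.injective _ (ε.injective e))
  · simp [b₀, hga]

/-- The invariant bilinear form when the field has no square root of minus one. -/
theorem exists_form [Fintype F] (h : TypeTwo r G R) (hr : r = 2) (hn : 1 < Fintype.card ι)
    (hno : ∀ c : F, c ^ 2 ≠ -1) :
    ∃ B : Matrix ι ι F, IsUnit B ∧ G ≤ Geo.similarityGroup (gramForm B) ∧
      ((Bᵀ = -B ∧ ∀ i, B i i = 0) ∨ (Bᵀ = B ∧ (2 : F) ≠ 0)) := by
  classical
  haveI : Nonempty ι := Fintype.card_pos_iff.mp (by omega)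
  haveI : Fintype R := Fintype.ofFinite R
  subst hr
  have h2 : (2 : F) ≠ 0 := by simpa using h.ne_zero
  obtain ⟨m, -, hm⟩ := h.exists_pow hn
  -- sum of squares of traces
  have htr : ∀ x : R, x ∉ Subgroup.center R → Matrix.trace ((x : GL ι F) : Matrix ι ι F) = 0 := by
    intro x hx
    rw [Subgroup.mem_center_iff] at hx
    push Not at hx
    obtain ⟨y, hy⟩ := hx
    have h1 := congrArg (fun M => Matrix.trace (M * (((y : GL ι F)⁻¹ : GL ι F) : Matrix ι ι F))) (h.cs_spec y x)
    rw [Matrix.trace_mul_comm, ← mul_assoc, ← Units.val_mul, inv_mul_cancel, Units.val_one, one_mul, Matrix.smul_mul,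
      Matrix.trace_smul, mul_assoc, ← Units.val_mul, mul_inv_cancel, Units.val_one, mul_one, smul_eq_mul] at h1
    have h3 : h.cs y x ≠ 1 := fun e => hy (Subtype.ext (Units.ext (by
      have := h.cs_spec y x
      rw [e, one_smul] at this
      simpa using this)))
    have h4 : (h.cs y x - 1) * Matrix.trace ((x : GL ι F) : Matrix ι ι F) = 0 := by linear_combination -h1
    exact (mul_eq_zero.mp h4).resolve_left (sub_ne_zero.mpr h3)
  have hsum : ∑ x : R, Matrix.trace ((x : GL ι F) : Matrix ι ι F) ^ 2 ≠ 0 := by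
    have hterm : ∀ x : R, Matrix.trace ((x : GL ι F) : Matrix ι ι F) ^ 2 =
        if x ∈ Subgroup.center R then (Fintype.card ι : F) ^ 2 else 0 := by
      intro x
      split_ifs with hx
      · obtain ⟨c, hc⟩ := (Geo.mem_scalars_iff _).mp ((h.center_iff x).mp hx)
        have hsq : (c : F) ^ 2 = 1 := by
          have h4 := scalar_pow_eq hc 4
          rw [show (4 : ℕ) = 2 * Nat.gcd 2 2 by norm_num, h.pow x x.2, Units.val_one] at h4
          have h5 : ((c : F) ^ 2) ^ 2 = 1 := by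
            rw [← pow_mul]
            simpa using (smul_one_inj (ι := ι) (by rw [one_smul]; exact h4)).symm
          rcases sq_eq_one_iff.mp h5 with h6 | h6
          · exact h6
          · exact absurd h6 (hno _)
        rw [hc, Matrix.trace_smul, Matrix.trace_one, smul_eq_mul, mul_pow, hsq, one_mul]
      · rw [htr x hx, zero_pow two_ne_zero]
    simp only [hterm, ← Finset.sum_filter, Finset.sum_const, nsmul_eq_mul]
    have hpow2 : ∀ k, ((2 ^ k : ℕ) : F) ≠ 0 := fun k => by
      rw [Nat.cast_pow, Nat.cast_two]; exact pow_ne_zero k h2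
    refine mul_ne_zero ?_ (pow_ne_zero 2 (by rw [hm]; exact hpow2 m))
    haveI : Fact (Nat.Prime 2) := ⟨Nat.prime_two⟩
    obtain ⟨k, hk⟩ := (h.isPGroup.to_subgroup (Subgroup.center R)).exists_card_eq
    rw [← Fintype.card_subtype, ← Nat.card_eq_fintype_card]
    exact hk ▸ hpow2 k
  obtain ⟨C, hC⟩ : ∃ C : Matrix ι ι F,
      ∑ x : R, ((x : GL ι F) : Matrix ι ι F)ᵀ * C * ((x : GL ι F) : Matrix ι ι F) ≠ 0 := by
    by_contra hcon
    push Not at hcon
    refine hsum ?_
    have hab : ∀ a b : ι, ∑ x : R, ((x : GL ι F) : Matrix ι ι F) a a * ((x : GL ι F) : Matrix ι ι F) b b = 0 := by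
      intro a b
      have h1 := congrFun (congrFun (hcon (Matrix.single a b 1)) a) b
      rw [Matrix.sum_apply, Matrix.zero_apply] at h1
      rw [← h1]
      refine Finset.sum_congr rfl fun x _ => ?_
      simp [Matrix.mul_apply, Matrix.single_apply, ite_and]
    simp only [Matrix.trace, Matrix.diag, pow_two, Finset.sum_mul_sum]
    rw [Finset.sum_comm]
    refine Finset.sum_eq_zero fun a _ => ?_
    rw [Finset.sum_comm]
    exact Finset.sum_eq_zero fun b _ => hab a b
  set B := ∑ x : R, ((x : GL ι F) : Matrix ι ι F)ᵀ * C * ((x : GL ι F) : Matrix ι ι F) with hB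
  have hinv : ∀ y ∈ R, (y : Matrix ι ι F)ᵀ * B * (y : Matrix ι ι F) = B := by
    intro y hy
    rw [hB, Finset.mul_sum, Finset.sum_mul]
    refine Fintype.sum_equiv (Equiv.mulRight (⟨y, hy⟩ : R)) _ _ fun x => ?_
    simp [Matrix.transpose_mul, mul_assoc]
  have hBu : IsUnit B := by
    have hker : Inv R (LinearMap.ker (Matrix.toLin' B)) := by
      intro y hy w hw
      rw [LinearMap.mem_ker, Matrix.toLin'_apply] at hw ⊢
      refine Matrix.mulVec_injective_iff_isUnit.mpr ((Matrix.isUnit_transpose (A := (y : Matrix ι ι F))).mpr y.isUnit) ?_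
      show (y : Matrix ι ι F)ᵀ *ᵥ _ = (y : Matrix ι ι F)ᵀ *ᵥ 0
      rw [Matrix.mulVec_mulVec, Matrix.mulVec_mulVec, hinv y hy, hw, Matrix.mulVec_zero]
    rcases irr_iff.mpr h.absIrred.1 _ hker with hk | hk
    · exact Matrix.mulVec_injective_iff_isUnit.mp fun u v huv => LinearMap.ker_eq_bot.mp hk (by simpa using huv)
    · refine absurd (Matrix.toLin'.injective ?_ : B = 0) hC
      rw [map_zero]
      exact LinearMap.ker_eq_top.mp hk
  have hinvT : ∀ y ∈ R, (y : Matrix ι ι F)ᵀ * Bᵀ * ((y : Matrix ι ι F)).map (RingHom.id F) = Bᵀ := by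
    intro y hy
    have h1 := congrArg Matrix.transpose (hinv y hy)
    simpa [Matrix.transpose_mul, mul_assoc] using h1
  obtain ⟨c, hc⟩ := Aschbacher.gram_unique (σ := RingHom.id F) hBu h.absIrred
    (fun y hy => by simpa using hinv y hy) hinvT
  have hcc : c ^ 2 = 1 := by
    have h1 := congrArg Matrix.transpose hc
    rw [Matrix.transpose_transpose, Matrix.transpose_smul, hc, smul_smul] at h1
    have h3 : (1 - c * c) • B = 0 := by rw [sub_smul, one_smul, ← h1, sub_self]
    have h4 := (smul_eq_zero.mp h3).resolve_right hBu.ne_zero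
    linear_combination -h4
  refine ⟨B, hBu, Aschbacher.le_similarityGroup (gramForm_isGram B) (gramForm_nondegenerate hBu) h.absIrred h.normal ?_, ?_⟩
  · rintro _ ⟨y, hy, rfl⟩ u v
    rw [gramForm_comp, hinv y hy]
  rcases sq_eq_one_iff.mp hcc with h1 | h1
  · exact Or.inr ⟨by rw [hc, h1, one_smul], h2⟩
  · refine Or.inl ⟨by rw [hc, h1, neg_one_smul], fun i => ?_⟩
    have h3 := congrFun (congrFun hc i) i
    rw [Matrix.transpose_apply, h1] at h3
    have h4 : (2 : F) * B i i = 0 := by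
      have h5 : B i i = -1 * B i i := h3
      linear_combination h5
    exact (mul_eq_zero.mp h4).resolve_left h2

end TypeTwo

end Cfsg.Agent.MaxSub.Asch
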