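import Mathlib
import Cfsg.Agent.MaxSub.Asch.Clifford

/-!
Tensor powers: pure tensors, recombining commuting matrix algebras, groups permuting commuting factors, and the
bilinear form of a power of two-dimensional factors.
-/

set_option autoImplicit false
set_option linter.unusedSectionVars false
set_option linter.style.haveILetI false

namespace Cfsg.Agent.MaxSub.Asch

open scoped MatrixGroups Matrix Kronecker
open Module
open Cfsg.Agent.Aschbacher (NormalIn)

variable {ι : Type} [Fintype ι] [DecidableEq ι] {F : Type*} [Field F]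

/-- The pure tensor of a family of square matrices. -/
def tens {d t : ℕ} (a : Fin t → Matrix (Fin d) (Fin d) F) : Matrix (Fin t → Fin d) (Fin t → Fin d) F :=
  Matrix.of fun x y => ∏ i, a i (x i) (y i)

variable {d t : ℕ}

theorem tens_apply (a : Fin t → Matrix (Fin d) (Fin d) F) (x y : Fin t → Fin d) :
    tens a x y = ∏ i, a i (x i) (y i) := rfl

theorem tens_mul (a b : Fin t → Matrix (Fin d) (Fin d) F) : tens a * tens b = tens (a * b) := by
  ext x y
  simp only [Matrix.mul_apply, tens_apply, Pi.mul_apply, Fintype.prod_sum, ← Finset.prod_mul_distrib]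

theorem tens_one : tens (1 : Fin t → Matrix (Fin d) (Fin d) F) = 1 := by
  ext x y
  rw [tens_apply, Matrix.one_apply]
  split_ifs with h
  · subst h; simp [Pi.one_apply]
  · obtain ⟨i, hi⟩ := Function.ne_iff.mp h
    exact Finset.prod_eq_zero (Finset.mem_univ i) (by simp [hi])

theorem tens_transpose (a : Fin t → Matrix (Fin d) (Fin d) F) : (tens a)ᵀ = tens fun i => (a i)ᵀ := by
  ext x y
  simp [tens_apply]

theorem tens_smul (c : Fin t → F) (a : Fin t → Matrix (Fin d) (Fin d) F) :
    tens (fun i => c i • a i) = (∏ i, c i) • tens a := by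
  ext x y
  simp [tens_apply, Finset.prod_mul_distrib]

/-- An invertible pure tensor. -/
def tensGL (a : Fin t → GL (Fin d) F) : GL (Fin t → Fin d) F where
  val := tens fun i => (a i : Matrix (Fin d) (Fin d) F)
  inv := tens fun i => ((a i)⁻¹ : GL (Fin d) F)
  val_inv := by rw [tens_mul, ← tens_one]; congr 1; funext i; simp
  inv_val := by rw [tens_mul, ← tens_one]; congr 1; funext i; simp

/-- The permutation of the tensor factors. -/
def factorPerm (σ : Equiv.Perm (Fin t)) : GL (Fin t → Fin d) F where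
  val := Matrix.of fun x y => if y = x ∘ σ then 1 else 0
  inv := Matrix.of fun x y => if y = x ∘ σ.symm then 1 else 0
  val_inv := by
    ext x y
    rw [Matrix.mul_apply, Finset.sum_eq_single (x ∘ σ)]
    · simp [Function.comp_assoc, Matrix.one_apply, eq_comm]
    · intro z _ hz; simp [hz]
    · simp
  inv_val := by
    ext x y
    rw [Matrix.mul_apply, Finset.sum_eq_single (x ∘ σ.symm)]
    · simp [Function.comp_assoc, Matrix.one_apply, eq_comm]
    · intro z _ hz; simp [hz]
    · simp

theorem factorPerm_mul_tens (σ : Equiv.Perm (Fin t)) (a : Fin t → Matrix (Fin d) (Fin d) F) :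
    (factorPerm σ : GL (Fin t → Fin d) F).val * tens a = tens (fun i => a (σ.symm i)) * (factorPerm σ : GL (Fin t → Fin d) F).val := by
  ext x y
  simp only [Matrix.mul_apply, factorPerm, Matrix.of_apply, ite_mul, one_mul, zero_mul, mul_ite, mul_one, mul_zero,
    Finset.sum_ite_eq', Finset.mem_univ, if_true]
  rw [Finset.sum_eq_single (y ∘ σ.symm)]
  · rw [if_pos (by simp [Function.comp_assoc]), tens_apply, tens_apply, ← Equiv.prod_comp σ.symm]
    simp
  · intro z _ hz
    rw [if_neg]
    rintro rfl
    exact hz (by simp [Function.comp_assoc])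
  · simp

/-- The action of a matrix in one slot. -/
def slot (i : Fin t) (M : Matrix (Fin d) (Fin d) F) : Matrix (Fin t → Fin d) (Fin t → Fin d) F :=
  tens (Function.update 1 i M)

theorem slot_single_mul (i : Fin t) (a b : Fin d) (x y : Fin t → Fin d) :
    slot i (Matrix.single a b (1 : F)) * Matrix.single x y 1 =
      if b = x i then Matrix.single (Function.update x i a) y 1 else 0 := by
  ext u v
  rcases eq_or_ne v y with rfl | hv
  · rw [Matrix.mul_apply, Finset.sum_eq_single x]
    · simp only [Matrix.single_apply_same, mul_one, slot, tens_apply]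
      rw [Fintype.prod_eq_mul_prod_compl i, Function.update_self]
      have hrest : ∏ j ∈ {i}ᶜ, (Function.update (1 : Fin t → Matrix (Fin d) (Fin d) F) i (Matrix.single a b 1)) j
          (u j) (x j) = ∏ j ∈ {i}ᶜ, if u j = x j then (1 : F) else 0 := by
        refine Finset.prod_congr rfl fun j hj => ?_
        rw [Function.update_of_ne (by simpa using hj), Pi.one_apply, Matrix.one_apply]
      rw [hrest, Finset.prod_boole]
      by_cases hb : b = x i
      · rw [if_pos hb, Matrix.single_apply, Matrix.single_apply]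
        simp only [hb, and_true, ite_mul, one_mul, zero_mul]
        have : (a = u i ∧ ∀ j ∈ ({i} : Finset (Fin t))ᶜ, u j = x j) ↔ Function.update x i a = u := by
          rw [Function.update_eq_iff]
          simp [eq_comm]
        by_cases h : a = u i <;> simp_all
      · simp [hb, Matrix.single_apply]
    · intro z _ hz; simp [Matrix.single_apply, Ne.symm hz]
    · simp
  · rw [Matrix.mul_apply, Finset.sum_eq_zero fun z _ => by simp [Matrix.single_apply, Ne.symm hv]]
    split_ifs <;> simp [Matrix.single_apply, Ne.symm hv]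

/-- Matrix units of a family of commuting matrix algebras. -/
def unitsProd {R : Type*} [Ring R] [Algebra F R] : ∀ {t : ℕ}, (Fin t → Matrix (Fin d) (Fin d) F →ₐ[F] R) →
    (Fin t → Fin d) → (Fin t → Fin d) → R
  | 0, _, _, _ => 1
  | _ + 1, φ, x, y => φ 0 (Matrix.single (x 0) (y 0) 1) * unitsProd (fun i => φ i.succ) (Fin.tail x) (Fin.tail y)

section
variable {R : Type*} [Ring R] [Algebra F R]

theorem commute_unitsProd : ∀ {t : ℕ} (φ : Fin t → Matrix (Fin d) (Fin d) F →ₐ[F] R) (r : R),
    (∀ i M, Commute r (φ i M)) → ∀ x y, Commute r (unitsProd φ x y) := by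
  intro t
  induction t with
  | zero => intro φ r _ x y; exact Commute.one_right r
  | succ t ih => intro φ r h x y; exact (h 0 _).mul_right (ih _ r (fun i M => h i.succ M) _ _)

theorem unitsProd_mul : ∀ {t : ℕ} (φ : Fin t → Matrix (Fin d) (Fin d) F →ₐ[F] R),
    (∀ i j, i ≠ j → ∀ M N, Commute (φ i M) (φ j N)) → ∀ x y z w,
      unitsProd φ x y * unitsProd φ z w = if y = z then unitsProd φ x w else 0 := by
  intro t
  induction t with
  | zero => intro φ _ x y z w; simp [unitsProd, Subsingleton.elim y z]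
  | succ t ih =>
    intro φ h x y z w
    have hc := commute_unitsProd (fun i => φ i.succ) (φ 0 (Matrix.single (z 0) (w 0) 1))
      (fun i M => h 0 i.succ (Fin.succ_ne_zero i).symm _ _) (Fin.tail x) (Fin.tail y)
    simp only [unitsProd]
    rw [mul_assoc, ← mul_assoc (unitsProd _ _ _), ← hc.eq, mul_assoc (φ 0 _), ← mul_assoc, ← map_mul,
      ih _ (fun i j hij => h i.succ j.succ fun e => hij (Fin.succ_injective _ e))]
    by_cases h0 : y 0 = z 0
    · rw [h0, Matrix.single_mul_single_same, one_mul]
      by_cases ht : Fin.tail y = Fin.tail z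
      · rw [if_pos ht, if_pos (by rw [← Fin.cons_self_tail y, ← Fin.cons_self_tail z, h0, ht])]
      · rw [if_neg ht, mul_zero, if_neg fun e => ht (by rw [e])]
    · rw [Matrix.single_mul_single_of_ne (h := h0), map_zero, zero_mul, if_neg fun e => h0 (by rw [e])]

theorem unitsProd_sum : ∀ {t : ℕ} (φ : Fin t → Matrix (Fin d) (Fin d) F →ₐ[F] R),
    ∑ x, unitsProd φ x x = 1 := by
  intro t
  induction t with
  | zero => intro φ; simp [unitsProd]
  | succ t ih =>
    intro φ
    rw [← (Fin.consEquiv fun _ : Fin (t + 1) => Fin d).sum_comp, Fintype.sum_prod_type]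
    simp only [unitsProd, Fin.consEquiv, Equiv.coe_fn_mk, Fin.cons_zero, Fin.tail_cons, ← Finset.mul_sum, ih, mul_one]
    rw [← map_sum, Matrix.sum_single_one, map_one]

theorem phi_mul_unitsProd : ∀ {t : ℕ} (φ : Fin t → Matrix (Fin d) (Fin d) F →ₐ[F] R),
    (∀ i j, i ≠ j → ∀ M N, Commute (φ i M) (φ j N)) → ∀ i a b x y,
      φ i (Matrix.single a b 1) * unitsProd φ x y =
        if b = x i then unitsProd φ (Function.update x i a) y else 0 := by
  intro t
  induction t with
  | zero => intro φ _ i; exact i.elim0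
  | succ t ih =>
    intro φ h i a b x y
    simp only [unitsProd]
    refine Fin.cases ?_ (fun i => ?_) i
    · rw [← mul_assoc, ← map_mul]
      by_cases hb : b = x 0
      · rw [hb, Matrix.single_mul_single_same, one_mul, if_pos rfl, Function.update_self, Fin.tail_update_zero]
      · rw [Matrix.single_mul_single_of_ne (h := hb), map_zero, zero_mul, if_neg hb]
    · rw [← mul_assoc, (h i.succ 0 (Fin.succ_ne_zero i) _ _).eq, mul_assoc,
        ih _ (fun i j hij => h i.succ j.succ fun e => hij (Fin.succ_injective _ e))]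
      by_cases hb : b = x i.succ
      · rw [if_pos hb, if_pos (show b = Fin.tail x i from hb), Function.update_of_ne (Fin.succ_ne_zero i).symm]
        congr 2
        funext j
        simp [Fin.tail, Function.update_apply]
      · rw [if_neg hb, if_neg (show ¬ b = Fin.tail x i from hb), mul_zero]

end

/-- Commuting matrix algebras with scalar common centraliser form a tensor power. -/
theorem exists_tens_iso [Nonempty ι] (hd : 0 < d) (φ : Fin t → Matrix (Fin d) (Fin d) F →ₐ[F] Matrix ι ι F)
    (hcomm : ∀ i j, i ≠ j → ∀ M N, Commute (φ i M) (φ j N))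
    (hc : ∀ T : Matrix ι ι F, (∀ i M, Commute T (φ i M)) → ∃ c : F, T = c • 1) :
    Fintype.card ι = d ^ t ∧
      ∀ e : ι ≃ (Fin t → Fin d), ∃ P : GL ι F, ∀ i M, φ i M = tr e P (slot i M) := by
  haveI : Nonempty (Fin t → Fin d) := ⟨fun _ => ⟨0, hd⟩⟩
  have hE : IsUnits (unitsProd φ) := ⟨unitsProd_mul φ hcomm, unitsProd_sum φ⟩
  obtain ⟨hcard, hP⟩ := hE.exists_tr_full fun T hT => hc T fun i M => by
    have h1 : ∀ a b, T * φ i (Matrix.single a b 1) = φ i (Matrix.single a b 1) * T := by
      intro a b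
      have hsum : φ i (Matrix.single a b 1) = ∑ x, φ i (Matrix.single a b 1) * unitsProd φ x x := by
        rw [← Finset.mul_sum, hE.sum, mul_one]
      rw [hsum, Finset.mul_sum, Finset.sum_mul]
      refine Finset.sum_congr rfl fun x _ => ?_
      rw [phi_mul_unitsProd φ hcomm]
      split_ifs
      · exact hT _ _
      · simp
    show T * φ i M = φ i M * T
    rw [Matrix.matrix_eq_sum_single M]
    simp only [map_sum, Finset.mul_sum, Finset.sum_mul]
    refine Finset.sum_congr rfl fun a _ => Finset.sum_congr rfl fun b _ => ?_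
    rw [show Matrix.single a b (M a b) = M a b • Matrix.single a b (1 : F) by simp [Matrix.smul_single], map_smul,
      Matrix.mul_smul, Matrix.smul_mul, h1]
  refine ⟨by simpa using hcard, fun e => ?_⟩
  obtain ⟨P, hP⟩ := hP e
  refine ⟨P, fun i M => ?_⟩
  have key : ∀ a b, φ i (Matrix.single a b 1) = tr e P (slot i (Matrix.single a b 1)) := by
    intro a b
    have h1 : φ i (Matrix.single a b 1) = ∑ x, φ i (Matrix.single a b 1) * unitsProd φ x x := by
      rw [← Finset.mul_sum, hE.sum, mul_one]
    have h2 : tr e P (slot i (Matrix.single a b 1)) =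
        ∑ x, tr e P (slot i (Matrix.single a b 1) * Matrix.single x x 1) := by
      rw [← map_sum, ← Finset.mul_sum, Matrix.sum_single_one, mul_one]
    rw [h1, h2]
    refine Finset.sum_congr rfl fun x _ => ?_
    rw [phi_mul_unitsProd φ hcomm, slot_single_mul]
    split_ifs
    · exact hP _ _
    · rw [map_zero]
  have hlin : ∀ (c : F) (N : Matrix (Fin d) (Fin d) F), slot i (c • N) = c • slot i N := fun c N => by
    ext x y
    simp only [slot, tens_apply, Matrix.smul_apply, Fintype.prod_eq_mul_prod_compl i, Function.update_self,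
      smul_eq_mul]
    rw [mul_assoc]
    congr 2
    refine Finset.prod_congr rfl fun j hj => ?_
    rw [Function.update_of_ne (by simpa using hj), Function.update_of_ne (by simpa using hj)]
  have hadd : ∀ (s : Finset (Fin d × Fin d)) (f : Fin d × Fin d → Matrix (Fin d) (Fin d) F),
      slot i (∑ k ∈ s, f k) = ∑ k ∈ s, slot i (f k) := fun s f => by
    ext x y
    simp only [slot, tens_apply, Matrix.sum_apply, Fintype.prod_eq_mul_prod_compl i, Function.update_self,
      Finset.sum_mul]
    refine Finset.sum_congr rfl fun k _ => ?_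
    congr 1
    refine Finset.prod_congr rfl fun j hj => ?_
    rw [Function.update_of_ne (by simpa using hj), Function.update_of_ne (by simpa using hj)]
  have hM : M = ∑ k : Fin d × Fin d, M k.1 k.2 • Matrix.single k.1 k.2 (1 : F) := by
    rw [Fintype.sum_prod_type]
    conv_lhs => rw [Matrix.matrix_eq_sum_single M]
    simp [Matrix.smul_single]
  conv_rhs => rw [hM, hadd, map_sum]
  conv_lhs => rw [hM, map_sum]
  refine Finset.sum_congr rfl fun k _ => ?_
  rw [hlin, map_smul, map_smul, key]

/-- A group permuting commuting matrix algebras with scalar common centraliser lies in a tensor wreath group. -/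
theorem le_tensorWreath [Nonempty ι] (hd : 0 < d) (ht : 0 < t) {G : Subgroup (GL ι F)}
    (φ : Fin t → Matrix (Fin d) (Fin d) F →ₐ[F] Matrix ι ι F)
    (hcomm : ∀ i j, i ≠ j → ∀ M N, Commute (φ i M) (φ j N))
    (hc : ∀ T : Matrix ι ι F, (∀ i M, Commute T (φ i M)) → ∃ c : F, T = c • 1)
    (hperm : ∀ g ∈ G, ∃ σ : Equiv.Perm (Fin t), ∀ i M, conjHom g (φ i M) ∈ (φ (σ i)).range) :
    ∃ (e : ι ≃ (Fin t → Fin d)) (P : GL ι F), (∀ i M, φ i M = tr e P (slot i M)) ∧
      G ≤ Geo.tensorWreathSubgroup d t e P := by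
  classical
  haveI : Nonempty (Fin d) := ⟨⟨0, hd⟩⟩
  obtain ⟨hcard, hP⟩ := exists_tens_iso hd φ hcomm hc
  let e : ι ≃ (Fin t → Fin d) := Fintype.equivOfCardEq (by simp [hcard])
  obtain ⟨P, hP⟩ := hP e
  refine ⟨e, P, hP, fun g hg => ?_⟩
  obtain ⟨σ, hσ⟩ := hperm g hg
  have hinj : ∀ i, Function.Injective (φ i) := fun i => (φ i).toRingHom.injective
  have ha : ∀ i, ∃ a : GL (Fin d) F, ∀ M, conjHom g (φ i M) =
      φ (σ i) ((a : Matrix (Fin d) (Fin d) F) * M * ((a⁻¹ : GL (Fin d) F) : Matrix (Fin d) (Fin d) F)) := by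
    intro i
    let φe := AlgEquiv.ofInjective (φ (σ i)) (hinj (σ i))
    let ψ : Matrix (Fin d) (Fin d) F →ₐ[F] Matrix (Fin d) (Fin d) F :=
      φe.symm.toAlgHom.comp (AlgHom.codRestrict ((conjHom g).comp (φ i)) (φ (σ i)).range (hσ i))
    obtain ⟨a, ha⟩ := exists_conj ψ
    refine ⟨a, fun M => ?_⟩
    rw [← ha]
    exact (congrArg Subtype.val (φe.apply_symm_apply ⟨conjHom g (φ i M), hσ i M⟩)).symm
  choose a ha using ha
  set b : Fin t → GL (Fin d) F := fun j => a (σ.symm j) with hb
  set W : GL (Fin t → Fin d) F := tensGL b * factorPerm σ with hW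
  have hWslot : ∀ i M, (W : Matrix (Fin t → Fin d) (Fin t → Fin d) F) * slot i M =
      slot (σ i) ((a i : Matrix (Fin d) (Fin d) F) * M * (((a i)⁻¹ : GL (Fin d) F) : Matrix (Fin d) (Fin d) F)) *
        (W : Matrix (Fin t → Fin d) (Fin t → Fin d) F) := by
    intro i M
    rw [hW, Units.val_mul, mul_assoc, slot, factorPerm_mul_tens, ← mul_assoc, ← mul_assoc]
    congr 1
    show tens _ * tens _ = slot _ _ * tens _
    rw [slot, tens_mul, tens_mul]
    congr 1
    funext j
    simp only [Pi.mul_apply, hb]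
    rcases eq_or_ne j (σ i) with rfl | hj
    · simp [mul_assoc]
    · have hj' : σ.symm j ≠ i := fun h => hj (by rw [← h, Equiv.apply_symm_apply])
      simp [Function.update_of_ne hj, Function.update_of_ne hj']
  obtain ⟨h, hh⟩ := exists_tr_preimage e P g
  have hcen : ∀ i M, Commute (tr e P ((W⁻¹ * h : GL (Fin t → Fin d) F) : Matrix (Fin t → Fin d) (Fin t → Fin d) F))
      (φ i M) := by
    intro i M
    rw [hP]
    refine (Commute.map ?_ (tr e P))
    have h1 := ha i M
    rw [hP, hP, conjHom_apply] at h1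
    have h2 : (g : Matrix ι ι F) * tr e P (slot i M) =
        tr e P (slot (σ i) ((a i : Matrix (Fin d) (Fin d) F) * M * (((a i)⁻¹ : GL (Fin d) F) : Matrix (Fin d) (Fin d) F))) *
          (g : Matrix ι ι F) := by
      rw [← h1, mul_assoc _ _ (g : Matrix ι ι F), Units.inv_mul, mul_one]
    rw [hh, ← map_mul, ← map_mul] at h2
    have h3 := (tr e P).injective h2
    have h4 := hWslot i M
    show _ * _ = _ * _
    rw [Units.val_mul, mul_assoc, h3]
    calc ((W⁻¹ : GL (Fin t → Fin d) F) : Matrix (Fin t → Fin d) (Fin t → Fin d) F) *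
          (slot (σ i) ((a i : Matrix (Fin d) (Fin d) F) * M * (((a i)⁻¹ : GL (Fin d) F) : Matrix (Fin d) (Fin d) F)) *
            (h : Matrix (Fin t → Fin d) (Fin t → Fin d) F))
        = ((W⁻¹ : GL (Fin t → Fin d) F) : Matrix (Fin t → Fin d) (Fin t → Fin d) F) *
            (slot (σ i) ((a i : Matrix (Fin d) (Fin d) F) * M * (((a i)⁻¹ : GL (Fin d) F) : Matrix (Fin d) (Fin d) F)) *
              (W : Matrix (Fin t → Fin d) (Fin t → Fin d) F)) *
            (((W⁻¹ : GL (Fin t → Fin d) F) : Matrix (Fin t → Fin d) (Fin t → Fin d) F) *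
              (h : Matrix (Fin t → Fin d) (Fin t → Fin d) F)) := by simp [mul_assoc]
      _ = slot i M * (((W⁻¹ : GL (Fin t → Fin d) F) : Matrix (Fin t → Fin d) (Fin t → Fin d) F) *
              (h : Matrix (Fin t → Fin d) (Fin t → Fin d) F)) := by rw [← h4]; simp [← mul_assoc]
  obtain ⟨c, hc'⟩ := hc _ hcen
  have hval : (h : Matrix (Fin t → Fin d) (Fin t → Fin d) F) =
      c • (W : Matrix (Fin t → Fin d) (Fin t → Fin d) F) := by
    have h1 : ((W⁻¹ * h : GL (Fin t → Fin d) F) : Matrix (Fin t → Fin d) (Fin t → Fin d) F) = c • 1 :=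
      (tr e P).injective (by rw [hc', map_smul, map_one])
    have h2 := congrArg ((W : Matrix (Fin t → Fin d) (Fin t → Fin d) F) * ·) h1
    simpa [← mul_assoc] using h2
  have hc0 : c ≠ 0 := by
    rintro rfl
    rw [zero_smul] at hval
    exact h.ne_zero hval
  let i₀ : Fin t := ⟨0, ht⟩
  let cc : Fin t → F := Function.update 1 i₀ c
  let b' : Fin t → GL (Fin d) F := fun j =>
    if j = i₀ then Units.map (algebraMap F (Matrix (Fin d) (Fin d) F) : F →* Matrix (Fin d) (Fin d) F) (Units.mk0 c hc0) * b j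
    else b j
  have hb' : ∀ j, (b' j : Matrix (Fin d) (Fin d) F) = cc j • (b j : Matrix (Fin d) (Fin d) F) := by
    intro j
    by_cases hj : j = i₀
    · simp [b', cc, hj, Algebra.algebraMap_eq_smul_one]
    · simp [b', cc, hj, Function.update_of_ne hj]
  have hhW : h = tensGL b' * factorPerm σ := by
    refine Units.ext ?_
    rw [hval, hW, Units.val_mul, Units.val_mul]
    show c • _ = tens (fun j => (b' j : Matrix (Fin d) (Fin d) F)) * _
    simp only [hb', tens_smul, cc]
    rw [Fintype.prod_eq_single i₀ (fun j hj => by simp [Function.update_of_ne hj]), Function.update_self,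
      Matrix.smul_mul]
    rfl
  refine mem_transport e P (h := h) ?_ hh
  rw [hhW]
  exact mul_mem (Subgroup.subset_closure (Or.inl ⟨b', fun x y => rfl⟩))
    (Subgroup.subset_closure (Or.inr ⟨σ, fun x y => rfl⟩))

/-- The alternating form in dimension two. -/
def J2 : Matrix (Fin 2) (Fin 2) F := !![0, 1; -1, 0]

theorem J2_conj (a : Matrix (Fin 2) (Fin 2) F) : aᵀ * J2 * a = a.det • J2 := by
  ext i j
  fin_cases i <;> fin_cases j <;> simp [J2, Matrix.mul_apply, Fin.sum_univ_two, Matrix.det_fin_two] <;> ring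

/-- The Gram matrix of the power of the form in dimension two. -/
def powGram (F : Type*) [Field F] (t : ℕ) : Matrix (Fin t → Fin 2) (Fin t → Fin 2) F := tens fun _ => J2

theorem powGram_diag (ht : 0 < t) (x : Fin t → Fin 2) : powGram F t x x = 0 := by
  refine Finset.prod_eq_zero (Finset.mem_univ (⟨0, ht⟩ : Fin t)) ?_
  generalize x (⟨0, ht⟩ : Fin t) = z
  fin_cases z <;> simp [J2]

theorem powGram_transpose : (powGram F t)ᵀ = (-1 : F) ^ t • powGram F t := by
  rw [powGram, tens_transpose]
  have h : (J2 : Matrix (Fin 2) (Fin 2) F)ᵀ = (-1 : F) • J2 := by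
    ext i j; fin_cases i <;> fin_cases j <;> simp [J2]
  simp only [h]
  rw [tens_smul]
  simp

theorem powGram_isUnit : IsUnit (powGram F t) := by
  refine ⟨⟨powGram F t, tens fun _ => -J2, ?_, ?_⟩, rfl⟩ <;>
  · rw [powGram, tens_mul, ← tens_one]
    congr 1
    funext i
    ext a b
    fin_cases a <;> fin_cases b <;> simp [J2, Pi.mul_apply, Matrix.mul_apply, Fin.sum_univ_two]

theorem tensorWreathStandard_le_gram {h : GL (Fin t → Fin 2) F} (hh : h ∈ Geo.tensorWreathStandard 2 t F) :
    ∃ c : F, c ≠ 0 ∧ (h : Matrix (Fin t → Fin 2) (Fin t → Fin 2) F)ᵀ * powGram F t *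
      (h : Matrix (Fin t → Fin 2) (Fin t → Fin 2) F) = c • powGram F t := by
  induction hh using Subgroup.closure_induction with
  | mem g hg =>
    rcases hg with ⟨gs, hgs⟩ | ⟨σ, hσ⟩
    · refine ⟨∏ i, (gs i : Matrix (Fin 2) (Fin 2) F).det, Finset.prod_ne_zero_iff.mpr fun i _ =>
        ((Matrix.isUnit_iff_isUnit_det _).mp (gs i).isUnit).ne_zero, ?_⟩
      have hg' : (g : Matrix (Fin t → Fin 2) (Fin t → Fin 2) F) = tens fun i => (gs i : Matrix (Fin 2) (Fin 2) F) :=
        Matrix.ext hgs
      rw [hg', powGram, tens_transpose, tens_mul, tens_mul, ← tens_smul]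
      congr 1
      funext i
      exact J2_conj _
    · refine ⟨1, one_ne_zero, ?_⟩
      have hg' : (g : Matrix (Fin t → Fin 2) (Fin t → Fin 2) F) = (factorPerm σ : GL (Fin t → Fin 2) F).val :=
        Matrix.ext hσ
      rw [one_smul, hg', powGram, mul_assoc, ← factorPerm_mul_tens σ fun _ => (J2 : Matrix (Fin 2) (Fin 2) F),
        ← mul_assoc]
      convert one_mul (tens fun _ : Fin t => (J2 : Matrix (Fin 2) (Fin 2) F)) using 2
      ext x y
      simp only [Matrix.mul_apply, Matrix.transpose_apply, factorPerm, Matrix.of_apply]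
      rw [Finset.sum_eq_single (x ∘ σ.symm)]
      · simp [Function.comp_assoc, Matrix.one_apply, eq_comm]
      · intro z _ hz
        rw [if_neg, zero_mul]
        intro he
        exact hz (by rw [he]; simp [Function.comp_assoc])
      · simp
  | one => exact ⟨1, one_ne_zero, by simp⟩
  | mul g g' _ _ hg hg' =>
    obtain ⟨c, hc, hgc⟩ := hg
    obtain ⟨c', hc', hgc'⟩ := hg'
    refine ⟨c * c', mul_ne_zero hc hc', ?_⟩
    rw [Units.val_mul, Matrix.transpose_mul]
    calc _ = (g' : Matrix (Fin t → Fin 2) (Fin t → Fin 2) F)ᵀ * ((g : Matrix (Fin t → Fin 2) (Fin t → Fin 2) F)ᵀ *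
        powGram F t * (g : Matrix (Fin t → Fin 2) (Fin t → Fin 2) F)) * (g' : Matrix (Fin t → Fin 2) (Fin t → Fin 2) F) := by
          simp [mul_assoc]
      _ = _ := by rw [hgc, Matrix.mul_smul, Matrix.smul_mul, hgc', smul_smul]
  | inv g _ hg =>
    obtain ⟨c, hc, hgc⟩ := hg
    refine ⟨c⁻¹, inv_ne_zero hc, ?_⟩
    have h1 := congrArg (fun M => ((g⁻¹ : GL (Fin t → Fin 2) F) : Matrix (Fin t → Fin 2) (Fin t → Fin 2) F)ᵀ * M *
      ((g⁻¹ : GL (Fin t → Fin 2) F) : Matrix (Fin t → Fin 2) (Fin t → Fin 2) F)) hgc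
    simp only [← mul_assoc, ← Matrix.transpose_mul, Units.mul_inv, Matrix.transpose_one, one_mul] at h1
    rw [mul_assoc, Units.mul_inv, mul_one] at h1
    rw [Matrix.mul_smul, Matrix.smul_mul] at h1
    conv_rhs => rw [h1, smul_smul, inv_mul_cancel₀ hc, one_smul]

end Cfsg.Agent.MaxSub.Asch
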