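import Mathlib
import Cfsg.Agent.MaxSub.Asch.Tensor
import Cfsg.Agent.Aschbacher.Prime

/-!
A minimal normal subgroup that is not abelian modulo scalars: either the residual core, or commuting tensor factors
permuted by the group.
-/

set_option autoImplicit false
set_option linter.unusedSectionVars false
set_option linter.style.haveILetI false

namespace Cfsg.Agent.MaxSub.Asch

open scoped MatrixGroups Matrix commutatorElement
open Module
open Cfsg.Agent.Aschbacher (NormalIn Irr Core irr_iff commute_of_perfect mem_scalars_of_commute scalars_central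
  mem_scalars_of_smul)

variable {ι : Type} [Fintype ι] [DecidableEq ι] {F : Type*} [Field F]

theorem map_conj_alg (g : GL ι F) (M : Subgroup (GL ι F)) :
    (alg M).map (conjHom g) = alg (M.map (MulAut.conj g).toMonoidHom) := by
  rw [alg, alg, AlgHom.map_adjoin]
  congr 1
  ext a
  constructor
  · rintro ⟨_, ⟨x, hx, rfl⟩, rfl⟩
    exact ⟨g * x * g⁻¹, ⟨x, hx, rfl⟩, by simp [conjHom_apply]⟩
  · rintro ⟨_, ⟨x, hx, rfl⟩, rfl⟩
    exact ⟨x, ⟨x, hx, rfl⟩, by simp [conjHom_apply]⟩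

/-- Removing scalars from a product: commutators only see the first factor. -/
theorem commutator_sup_scalars (M : Subgroup (GL ι F)) :
    ⁅M ⊔ Geo.scalars ι F, M ⊔ Geo.scalars ι F⁆ ≤ ⁅M, M⁆ := by
  refine Subgroup.commutator_le.mpr fun a ha b hb => ?_
  obtain ⟨a₀, ha₀, z, hz, rfl⟩ := (Subgroup.mem_sup_of_normal_right (ht := Geo.scalars_normal)).mp ha
  obtain ⟨b₀, hb₀, w, hw, rfl⟩ := (Subgroup.mem_sup_of_normal_right (ht := Geo.scalars_normal)).mp hb
  have hz' : ∀ g, g * z = z * g := fun g => scalars_central hz g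
  have hw' : ∀ g, g * w = w * g := fun g => scalars_central hw g
  have e : ⁅a₀ * z, b₀ * w⁆ = ⁅a₀, b₀⁆ := by
    rw [commutatorElement_def, commutatorElement_def]
    calc a₀ * z * (b₀ * w) * (a₀ * z)⁻¹ * (b₀ * w)⁻¹
        = a₀ * (z * (b₀ * w)) * (z⁻¹ * a₀⁻¹) * (w⁻¹ * b₀⁻¹) := by group
      _ = a₀ * (b₀ * w * z) * (z⁻¹ * a₀⁻¹) * (w⁻¹ * b₀⁻¹) := by rw [hz' (b₀ * w)]
      _ = a₀ * b₀ * (w * a₀⁻¹) * (w⁻¹ * b₀⁻¹) := by group
      _ = a₀ * b₀ * (a₀⁻¹ * w) * (w⁻¹ * b₀⁻¹) := by rw [hw' a₀⁻¹]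
      _ = _ := by group
  rw [e]
  exact Subgroup.commutator_mem_commutator ha₀ hb₀

/-- Commuting conjugates of one matrix algebra, spanned by a perfect subgroup of `G` and permuted by `G`. -/
structure PowerData (G : Subgroup (GL ι F)) (d t : ℕ) (e : ι ≃ (Fin t → Fin d)) (P : GL ι F)
    (φ : Matrix (Fin d) (Fin d) F →ₐ[F] Matrix ι ι F) (M₀ : Subgroup (GL ι F)) (g : Fin t → GL ι F) : Prop where
  two_le_dim : 2 ≤ d
  two_le : 2 ≤ t
  range_eq : φ.range = alg M₀
  base_le : M₀ ≤ G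
  perfect : ⁅M₀, M₀⁆ = M₀
  nontrivial : ¬ M₀ ≤ Geo.scalars ι F
  conj_mem : ∀ i, g i ∈ G
  slot_eq : ∀ i M, conjHom (g i) (φ M) = tr e P (slot i M)
  le_wreath : G ≤ Geo.tensorWreathSubgroup d t e P

/-- The structure of a minimal normal subgroup which is not abelian modulo scalars. -/
theorem nonabelian [Finite F] [Nonempty ι] {G L : Subgroup (GL ι F)} (hLG : L ≤ G) (hL : NormalIn L G)
    (hZ : Geo.scalars ι F ≤ L) (habs : Geo.ActsAbsolutelyIrreducibly (Geo.matrixSet L))
    (hmin : ∀ M ≤ L, NormalIn M G → Geo.scalars ι F ≤ M → M = Geo.scalars ι F ∨ M = L)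
    (h2 : ¬ ⁅L, L⁆ ≤ Geo.scalars ι F) :
    (∃ P, Core G P ∧ P ≤ ⁅L, L⁆) ∨
    (∃ (d t : ℕ) (e : ι ≃ (Fin t → Fin d)) (P : GL ι F) (φ : Matrix (Fin d) (Fin d) F →ₐ[F] Matrix ι ι F)
      (M₀ : Subgroup (GL ι F)) (g : Fin t → GL ι F), PowerData G d t e P φ M₀ g) := by
  classical
  set Z := Geo.scalars ι F with hZdef
  set P := ⁅L, L⁆ with hPdef
  have hPL : P ≤ L := Aschbacher.commutator_le_self L
  have hPG : NormalIn P G := hL.commutator
  have hsupG : ∀ M, NormalIn M G → NormalIn (M ⊔ Z) G := by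
    intro M hM g hg x hx
    obtain ⟨a, ha, z, hz, rfl⟩ := (Subgroup.mem_sup_of_normal_right (ht := Geo.scalars_normal)).mp hx
    rw [show g * (a * z) * g⁻¹ = (g * a * g⁻¹) * (g * z * g⁻¹) by group]
    exact Subgroup.mul_mem_sup (hM g hg a ha) (Geo.scalars_normal.conj_mem z hz g)
  have hfull : ∀ M ≤ L, NormalIn M G → ¬ M ≤ Z → L = M ⊔ Z ∧ P ≤ ⁅M, M⁆ := by
    intro M hM hMG hMs
    have h := (hmin (M ⊔ Z) (sup_le hM hZ) (hsupG M hMG) le_sup_right).resolve_left
      fun h => hMs (le_sup_left.trans h.le)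
    refine ⟨h.symm, ?_⟩
    rw [hPdef, ← h]
    exact commutator_sup_scalars M
  obtain ⟨hLP, hPP⟩ := hfull P hPL hPG h2
  have hperf : ⁅P, P⁆ = P := le_antisymm (Aschbacher.commutator_le_self P) hPP
  have hPabs : Geo.ActsAbsolutelyIrreducibly (Geo.matrixSet P) := by
    refine absIrred_of_alg_eq_top (top_le_iff.mp (alg_eq_top habs ▸ Algebra.adjoin_le ?_))
    rintro _ ⟨x, hx, rfl⟩
    have hx' : x ∈ P ⊔ Z := hLP.le hx
    obtain ⟨a, ha, z, hz, rfl⟩ := (Subgroup.mem_sup_of_normal_right (ht := Geo.scalars_normal)).mp hx'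
    obtain ⟨c, hc⟩ := (Geo.mem_scalars_iff z).mp hz
    show ((a * z : GL ι F) : Matrix ι ι F) ∈ alg P
    rw [Units.val_mul, hc, Matrix.mul_smul, mul_one]
    exact Subalgebra.smul_mem _ (coe_mem_alg ha) _
  have hPirr : Irr P := irr_iff.mpr hPabs.1
  let Q : Subgroup (GL ι F) → Prop := fun M => M ≤ P ∧ NormalIn M P ∧ ¬ M ≤ Z
  have hQconj : ∀ g ∈ G, ∀ M, Q M → Q (M.map (MulAut.conj g).toMonoidHom) := by
    rintro g hg M ⟨hMP, hM, hs⟩
    refine ⟨(Subgroup.map_mono hMP).trans (Aschbacher.normalIn_iff_map.mp hPG g hg), hM.map_conj hPG hg, fun h => hs ?_⟩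
    intro x hx
    have h1 : g * x * g⁻¹ ∈ Z := h ⟨x, hx, rfl⟩
    simpa [mul_assoc] using Geo.scalars_normal.conj_mem _ h1 g⁻¹
  have hmap_mul : ∀ (g h : GL ι F) (M : Subgroup (GL ι F)),
      (M.map (MulAut.conj h).toMonoidHom).map (MulAut.conj g).toMonoidHom = M.map (MulAut.conj (g * h)).toMonoidHom := by
    intro g h M
    rw [Subgroup.map_map, map_mul]
    rfl
  have hmap_one : ∀ M : Subgroup (GL ι F), M.map (MulAut.conj (1 : GL ι F)).toMonoidHom = M := fun M => by
    ext x; simp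
  have hQconj' : ∀ g ∈ G, ∀ M, Minimal Q M → Minimal Q (M.map (MulAut.conj g).toMonoidHom) := by
    intro g hg M hM
    refine ⟨hQconj g hg M hM.prop, fun M' hM' hle => ?_⟩
    have h1 : M'.map (MulAut.conj g⁻¹).toMonoidHom ≤ M := by
      have := Subgroup.map_mono (f := (MulAut.conj g⁻¹).toMonoidHom) hle
      rwa [hmap_mul, inv_mul_cancel, hmap_one] at this
    have h2 := Subgroup.map_mono (f := (MulAut.conj g).toMonoidHom) (hM.le_of_le (hQconj g⁻¹ (inv_mem hg) M' hM') h1)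
    rwa [hmap_mul, mul_inv_cancel, hmap_one] at h2
  have hcommT : ∀ M M', Minimal Q M → Minimal Q M' → M ≠ M' → ⁅M, M'⁆ ≤ Z := by
    intro M M' hM hM' hne
    by_contra hs
    refine hne ?_
    have hle : ⁅M, M'⁆ ≤ M ⊓ M' := Subgroup.commutator_le.mpr fun a ha b hb => by
      rw [commutatorElement_def, Subgroup.mem_inf]
      constructor
      · rw [show a * b * a⁻¹ * b⁻¹ = a * (b * a⁻¹ * b⁻¹) by group]
        exact mul_mem ha (hM.prop.2.1 b (hM'.prop.1 hb) a⁻¹ (inv_mem ha))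
      · exact mul_mem (hM'.prop.2.1 a (hM.prop.1 ha) b hb) (inv_mem hb)
    have hQi : Q (M ⊓ M') := ⟨inf_le_left.trans hM.prop.1,
      fun g hg x hx => ⟨hM.prop.2.1 g hg x hx.1, hM'.prop.2.1 g hg x hx.2⟩, fun h => hs (hle.trans h)⟩
    exact le_antisymm ((hM.le_of_le hQi inf_le_left).trans inf_le_right)
      ((hM'.le_of_le hQi inf_le_right).trans inf_le_left)
  have hPn : NormalIn P P := fun g hg x hx => mul_mem (mul_mem hg hx) (inv_mem hg)
  obtain ⟨M₀, hM₀⟩ := exists_minimal_of_wellFoundedLT Q ⟨P, le_rfl, hPn, h2⟩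
  let O : Set (Subgroup (GL ι F)) := {M | ∃ g ∈ G, M₀.map (MulAut.conj g).toMonoidHom = M}
  have hO1 : M₀ ∈ O := ⟨1, one_mem G, hmap_one M₀⟩
  have hOmin : ∀ M ∈ O, Minimal Q M := by
    rintro _ ⟨g, hg, rfl⟩
    exact hQconj' g hg M₀ hM₀
  have hOconj : ∀ g ∈ G, ∀ M ∈ O, M.map (MulAut.conj g).toMonoidHom ∈ O := by
    rintro g hg _ ⟨h, hh, rfl⟩
    exact ⟨g * h, mul_mem hg hh, (hmap_mul g h M₀).symm⟩
  have hSG : NormalIn (sSup O) G := by
    rw [Aschbacher.normalIn_iff_map]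
    intro g hg
    rw [Subgroup.map_le_iff_le_comap]
    exact sSup_le fun M hM => Subgroup.map_le_iff_le_comap.mp (le_sSup (hOconj g hg M hM))
  have hSP : sSup O ≤ P := sSup_le fun M hM => (hOmin M hM).prop.1
  have hSs : ¬ sSup O ≤ Z := fun h => hM₀.prop.2.2 ((le_sSup hO1).trans h)
  have hPS : P ≤ ⁅sSup O, sSup O⁆ := (hfull _ (hSP.trans hPL) hSG hSs).2
  -- the members of the orbit are perfect
  have hperfM : ∀ M ∈ O, ⁅M, M⁆ = M := by
    intro M hM
    by_contra hne
    have hs : ⁅M, M⁆ ≤ Z := by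
      by_contra hs
      exact hne (le_antisymm (Aschbacher.commutator_le_self M) ((hOmin M hM).le_of_le
        ⟨(Aschbacher.commutator_le_self M).trans (hOmin M hM).prop.1, (hOmin M hM).prop.2.1.commutator, hs⟩
        (Aschbacher.commutator_le_self M)))
    have hall : ∀ M' ∈ O, ⁅M', M'⁆ ≤ Z := by
      intro M' hM'
      obtain ⟨g, hg, rfl⟩ := hM
      obtain ⟨g', hg', rfl⟩ := hM'
      rw [← Subgroup.map_commutator] at hs ⊢
      rintro _ ⟨x, hx, rfl⟩
      have h1 : g * x * g⁻¹ ∈ Z := hs ⟨x, hx, rfl⟩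
      have := Geo.scalars_normal.conj_mem _ h1 (g' * g⁻¹)
      simpa [mul_assoc] using this
    let π := QuotientGroup.mk' Z
    have hc : ∀ M ∈ O, ∀ M' ∈ O, M.map π ≤ Subgroup.centralizer (M'.map π : Subgroup _) := by
      intro A hA B hB
      have h1 : ⁅A, B⁆ ≤ Z := by
        rcases eq_or_ne A B with rfl | hne'
        · exact hall A hA
        · exact hcommT A B (hOmin A hA) (hOmin B hB) hne'
      rw [← Subgroup.commutator_eq_bot_iff_le_centralizer, ← Subgroup.map_commutator, Subgroup.map_eq_bot_iff,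
        QuotientGroup.ker_mk']
      exact h1
    have hS : ⁅sSup O, sSup O⁆ ≤ Z := by
      have hA : ∀ M' ∈ O, (sSup O).map π ≤ Subgroup.centralizer (M'.map π : Subgroup _) := fun M' hM' => by
        rw [Subgroup.map_le_iff_le_comap]
        exact sSup_le fun M hM => Subgroup.map_le_iff_le_comap.mp (hc M hM M' hM')
      have hB : (sSup O).map π ≤ Subgroup.centralizer ((sSup O).map π : Subgroup _) := by
        rw [Subgroup.map_le_iff_le_comap]
        refine sSup_le fun M' hM' => ?_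
        rw [← Subgroup.map_le_iff_le_comap, Subgroup.le_centralizer_iff]
        exact hA M' hM'
      rw [← Subgroup.commutator_eq_bot_iff_le_centralizer, ← Subgroup.map_commutator, Subgroup.map_eq_bot_iff,
        QuotientGroup.ker_mk'] at hB
      exact hB
    exact h2 (hPS.trans hS)
  have hcommute : ∀ M ∈ O, ∀ M', Minimal Q M' → M ≠ M' → ∀ x ∈ M, ∀ y ∈ M', x * y = y * x := by
    intro M hM M' hM' hne x hx y hy
    refine (commute_of_perfect (hperfM M hM) (h := y) (fun a ha => ?_) x hx).symm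
    have := hcommT M' M hM' (hOmin M hM) (Ne.symm hne) (Subgroup.commutator_mem_commutator hy ha)
    rwa [commutatorElement_def] at this
  by_cases hsingle : ∀ M ∈ O, M = M₀
  · left
    have hSM : sSup O = M₀ := le_antisymm (sSup_le fun M hM => (hsingle M hM).le) (le_sSup hO1)
    have hPM : P = M₀ := le_antisymm (by
      rw [← hSM]; exact hPS.trans (Aschbacher.commutator_le_self _)) hM₀.prop.1
    refine ⟨P, Aschbacher.core_of_minimal (hPL.trans hLG) hPG h2 hperf hPabs fun M' hM'P hM' hs => ?_, le_rfl⟩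
    obtain ⟨M'', hle, hM''⟩ := exists_minimal_le_of_wellFoundedLT Q M' ⟨hM'P, hM', hs⟩
    by_cases he : M₀ = M''
    · exact le_antisymm hM'P (by rw [hPM, he]; exact hle)
    · exfalso
      refine hM''.prop.2.2 fun y hy => mem_scalars_of_commute hPabs fun x hx => ?_
      exact (hcommute M₀ hO1 M'' hM'' he x (hPM ▸ hx) y hy).symm
  right
  haveI : Finite (Subgroup (GL ι F)) := inferInstance
  let Of := (Set.toFinite O).toFinset
  let t := Of.card
  let en : Fin t ≃ Of := Of.equivFin.symm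
  have hen : ∀ i, (en i : Subgroup (GL ι F)) ∈ O := fun i => (Set.Finite.mem_toFinset _).mp (en i).2
  have ht : 2 ≤ t := by
    push Not at hsingle
    obtain ⟨M, hM, hne⟩ := hsingle
    exact Finset.one_lt_card.mpr ⟨M, (Set.Finite.mem_toFinset _).mpr hM, M₀, (Set.Finite.mem_toFinset _).mpr hO1, hne⟩
  have hcommalg : ∀ M ∈ O, ∀ M' ∈ O, M ≠ M' → ∀ a ∈ alg M, ∀ b ∈ alg M', a * b = b * a := by
    intro M hM M' hM' hne a ha b hb
    refine commute_alg (L := M') (fun y hy => ?_) hb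
    refine (commute_alg (L := M) (fun x hx => ?_) ha).symm
    have := congrArg Units.val (hcommute M hM M' (hOmin M' hM') hne x hx y hy)
    simpa using this.symm
  have hglobal : ∀ T : Matrix ι ι F, (∀ M ∈ O, ∀ a ∈ alg M, T * a = a * T) → ∃ c : F, T = c • 1 := by
    intro T hT
    let C : Subgroup (GL ι F) :=
      { carrier := {x | T * (x : Matrix ι ι F) = (x : Matrix ι ι F) * T}
        one_mem' := by simp
        mul_mem' := fun {a b} ha hb => by
          show T * ((a * b : GL ι F) : Matrix ι ι F) = ((a * b : GL ι F) : Matrix ι ι F) * T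
          rw [Units.val_mul, ← mul_assoc, show T * (a : Matrix ι ι F) = (a : Matrix ι ι F) * T from ha, mul_assoc,
            show T * (b : Matrix ι ι F) = (b : Matrix ι ι F) * T from hb, mul_assoc]
        inv_mem' := fun {a} ha => (Commute.units_inv_right (show Commute T (a : Matrix ι ι F) from ha)).eq }
    have hle : P ≤ C := (hPS.trans (Aschbacher.commutator_le_self _)).trans
      (sSup_le fun M hM x hx => hT M hM _ (coe_mem_alg hx))
    exact hPabs.2 T (by rintro _ ⟨x, hx, rfl⟩; exact hle hx)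
  obtain ⟨d, hd, φ, -, hφr⟩ := exists_algHom hM₀.prop.2.1 hPirr fun z hz => by
    refine hglobal z fun M hM a ha => ?_
    rcases eq_or_ne M M₀ with rfl | hne
    · exact ((mem_zalg.mp hz).2 a ha).symm
    · exact (hcommalg M hM M₀ hO1 hne a ha z (mem_zalg.mp hz).1).symm
  choose g hg hgM using hen
  let φs : Fin t → Matrix (Fin d) (Fin d) F →ₐ[F] Matrix ι ι F := fun i => (conjHom (g i)).comp φ
  have hrange : ∀ i, (φs i).range = alg (en i : Subgroup (GL ι F)) := fun i => by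
    show ((conjHom (g i)).comp φ).range = _
    rw [AlgHom.range_comp, hφr, map_conj_alg, hgM]
  have hmemφ : ∀ i M, φs i M ∈ alg (en i : Subgroup (GL ι F)) := fun i M => hrange i ▸ ⟨M, rfl⟩
  have hd2 : 2 ≤ d := by
    by_contra hlt
    have hd1 : d = 1 := by omega
    subst hd1
    refine hM₀.prop.2.2 fun x hx => ?_
    obtain ⟨M, hM⟩ : (x : Matrix ι ι F) ∈ φ.range := hφr ▸ coe_mem_alg hx
    refine mem_scalars_of_smul (c := M 0 0) ?_
    rw [← hM]
    show φ M = _
    rw [show M = M 0 0 • (1 : Matrix (Fin 1) (Fin 1) F) by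
      ext i j; simp [Fin.fin_one_eq_zero i, Fin.fin_one_eq_zero j], map_smul, map_one]
    simp
  obtain ⟨e, P', hslot, hle⟩ := le_tensorWreath (G := G) hd (by omega) φs
    (fun i j hij M N => hcommalg _ ⟨g i, hg i, hgM i⟩ _ ⟨g j, hg j, hgM j⟩
      (fun h => hij (en.injective (Subtype.ext h))) _ (hmemφ i M) _ (hmemφ j N))
    (fun T hT => hglobal T fun M hM a ha => by
      obtain ⟨i, hi⟩ := en.surjective ⟨M, (Set.Finite.mem_toFinset _).mpr hM⟩
      have : a ∈ (φs i).range := by rw [hrange, hi]; exact ha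
      obtain ⟨A, rfl⟩ := this
      exact hT i A)
    (fun x hx => by
      have hσ : ∀ i, ∃ j, (en i : Subgroup (GL ι F)).map (MulAut.conj x).toMonoidHom = en j := fun i => by
        have hmem := hOconj x hx _ ⟨g i, hg i, hgM i⟩
        exact ⟨en.symm ⟨_, (Set.Finite.mem_toFinset _).mpr hmem⟩, by rw [Equiv.apply_symm_apply]⟩
      choose σ hσ using hσ
      have hinj : Function.Injective σ := fun i j hij => en.injective (Subtype.ext
        (Subgroup.map_injective (MulAut.conj x).injective ((hσ i).trans (by rw [hij]; exact (hσ j).symm))))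
      refine ⟨Equiv.ofBijective σ (Finite.injective_iff_bijective.mp hinj), fun i M => ?_⟩
      rw [Equiv.ofBijective_apply, hrange, ← hσ i, ← map_conj_alg]
      exact ⟨_, hmemφ i M, rfl⟩)
  exact ⟨d, t, e, P', φ, M₀, g, hd2, ht, hφr, hM₀.prop.1.trans (hPL.trans hLG), hperfM M₀ hO1, hM₀.prop.2.2, hg,
    fun i M => hslot i M, hle⟩

end Cfsg.Agent.MaxSub.Asch
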