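import Mathlib
import Cfsg.Agent.MaxSub.Asch.ClassTwo
import Cfsg.Agent.MaxSub.Asch.Nonabelian

/-!
The subgroup structure theorem for the finite linear groups in dimension at least three.
-/

set_option autoImplicit false
set_option linter.unusedSectionVars false
set_option linter.style.haveILetI false

namespace Cfsg.Agent.MaxSub.Asch

open scoped MatrixGroups Matrix Kronecker commutatorElement
open Module
open Cfsg.Agent.Aschbacher (NormalIn Inv Irr Core irr_iff Rational)

variable {F : Type*} [Field F] [Fintype F] {n : ℕ}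

/-- Containment in a member of one of the eight classes. -/
abbrev InClass (H : Subgroup (GL (Fin n) F)) : Prop :=
  ∃ M : Subgroup (GL (Fin n) F), Geo.InLinearClass n F M ∧ H ≤ M

theorem inClass_subspace {H : Subgroup (GL (Fin n) F)} (hirr : ¬ Irr H) : InClass H := by
  simp only [Irr, not_forall, not_or] at hirr
  obtain ⟨W, hW, hWb, hWt⟩ := hirr
  exact ⟨_, Or.inl ⟨W, hWb, hWt, rfl⟩, Aschbacher.inv_le_subspaceStabilizer hW⟩

theorem inClass_decomp {H : Subgroup (GL (Fin n) F)} {t m : ℕ} {D : Fin t → Submodule F (Fin n → F)}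
    (hD : Geo.IsMDecomposition m D) (hle : H ≤ Geo.decompositionStabilizer D) : InClass H :=
  ⟨_, Or.inr <| Or.inr <| Or.inr <| Or.inl ⟨t, m, D, hD, rfl⟩, hle⟩

theorem inClass_field {H : Subgroup (GL (Fin n) F)} {r : ℕ} {K : Subalgebra F (Matrix (Fin n) (Fin n) F)}
    (hr : r.Prime) (hK : Geo.IsFieldSubalgebra r K) (hle : H ≤ Geo.subalgebraNormalizer K) : InClass H :=
  ⟨_, Or.inr <| Or.inr <| Or.inr <| Or.inr <| Or.inl ⟨r, K, hr, hK, rfl⟩, hle⟩

theorem inClass_tensor {H : Subgroup (GL (Fin n) F)} {n₁ n₂ : ℕ} (e : Fin n ≃ Fin n₁ × Fin n₂) (P : GL (Fin n) F)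
    (h1 : 2 ≤ n₁) (h2 : n₁ < n₂) (hle : H ≤ Geo.tensorProductSubgroup n₁ n₂ e P) : InClass H :=
  ⟨_, Or.inr <| Or.inr <| Or.inr <| Or.inr <| Or.inr <| Or.inl ⟨n₁, n₂, e, P, h1, h2, rfl⟩, hle⟩

theorem inClass_subfield {H : Subgroup (GL (Fin n) F)} [NeZero n] {F₀ : Subfield F} (hF₀ : F₀ ≠ ⊤)
    {P : Subgroup (GL (Fin n) F)} (B : GL (Fin n) F) (hn : NormalIn P H)
    (habs : Geo.ActsAbsolutelyIrreducibly (Geo.matrixSet P))
    (hP : ∀ s ∈ P, Rational F₀ ((B * s * B⁻¹ : GL (Fin n) F) : Matrix (Fin n) (Fin n) F)) : InClass H := by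
  obtain ⟨F₁, r, hr, hc, hle⟩ := Aschbacher.exists_prime_index_above F₀ hF₀
  exact ⟨_, Or.inr <| Or.inr <| Or.inr <| Or.inr <| Or.inr <| Or.inr <| Or.inl ⟨F₁, r, B⁻¹, hr, hc, rfl⟩,
    Aschbacher.le_subfieldSubgroup habs hn fun s hs i j => hle (hP s hs i j)⟩

theorem inClass_symplecticType {H : Subgroup (GL (Fin n) F)} {r : ℕ} {R : Subgroup (GL (Fin n) F)}
    (hR : Geo.IsLinearSymplecticTypeData r R) (hle : H ≤ Geo.subgroupNormalizer R) : InClass H :=
  ⟨_, Or.inr <| Or.inr <| Or.inr <| Or.inr <| Or.inr <| Or.inr <| Or.inr <| Or.inl ⟨r, R, hR, rfl⟩, hle⟩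

theorem inClass_wreath {H : Subgroup (GL (Fin n) F)} {m t : ℕ} (e : Fin n ≃ (Fin t → Fin m)) (P : GL (Fin n) F)
    (h1 : 3 ≤ m) (h2 : 2 ≤ t) (hle : H ≤ Geo.tensorWreathSubgroup m t e P) : InClass H :=
  ⟨_, Or.inr <| Or.inr <| Or.inr <| Or.inr <| Or.inr <| Or.inr <| Or.inr <| Or.inr <| Or.inl
    ⟨m, t, e, P, h1, h2, rfl⟩, hle⟩

theorem inClass_symplectic (hn : 3 ≤ n) {H : Subgroup (GL (Fin n) F)} {f : (Fin n → F) → (Fin n → F) → F}
    (hf : Geo.IsSymplecticForm f) (hle : H ≤ Geo.similarityGroup f) : InClass H := by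
  have heven : Even n := by
    rcases Nat.even_or_odd n with h | h
    · exact h
    exfalso
    have hg := Aschbacher.exists_gram (RingHom.id F) f hf.bilinear.add_left hf.bilinear.smul_left hf.bilinear.add_right
      (fun c v x => hf.bilinear.smul_right c v x)
    have hu := (Matrix.isUnit_iff_isUnit_det _).mp (Aschbacher.gram_isUnit hg hf.nondegenerate)
    rw [Aschbacher.det_eq_zero_of_alternating (by simpa using h) (G := Geo.gramMatrix f) (fun i => hf.alternating _)
      (fun i j => hf.skew _ _)] at hu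
    exact not_isUnit_zero hu
  have h4 : 4 ≤ n := by obtain ⟨k, rfl⟩ := heven; omega
  exact ⟨_, Or.inr <| Or.inr <| Or.inr <| Or.inr <| Or.inr <| Or.inr <| Or.inr <| Or.inr <| Or.inr <| Or.inl
    ⟨f, hf, heven, h4, rfl⟩, hle⟩

theorem inClass_unitary (hn : 3 ≤ n) {H : Subgroup (GL (Fin n) F)} {σ : F ≃+* F}
    {f : (Fin n → F) → (Fin n → F) → F} (hf : Geo.IsUnitaryForm σ f) (hle : H ≤ Geo.similarityGroup f) : InClass H :=
  ⟨_, Or.inr <| Or.inr <| Or.inr <| Or.inr <| Or.inr <| Or.inr <| Or.inr <| Or.inr <| Or.inr <| Or.inr <| Or.inl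
    ⟨σ, f, hf, hn, rfl⟩, hle⟩

theorem inClass_quadratic (hn : 3 ≤ n) {H : Subgroup (GL (Fin n) F)} {Q : (Fin n → F) → F}
    (hQ : Geo.IsNondegenerateQuadraticForm Q) (h2 : (2 : F) ≠ 0) (hle : H ≤ Geo.quadSimilarityGroup Q) : InClass H := by
  have hodd : Odd (Fintype.card F) := by
    rw [Nat.odd_iff]
    refine FiniteField.odd_card_of_char_ne_two fun h => h2 ?_
    haveI : CharP F 2 := ringChar.of_eq h
    exact CharTwo.two_eq_zero
  exact ⟨_, Or.inr <| Or.inr <| Or.inr <| Or.inr <| Or.inr <| Or.inr <| Or.inr <| Or.inr <| Or.inr <| Or.inr <|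
    Or.inr ⟨Q, hQ, hodd, hn, rfl⟩, hle⟩

theorem gramForm_self_eq_zero {ι : Type} [Fintype ι] [DecidableEq ι] {A : Matrix ι ι F} (hT : Aᵀ = -A)
    (hd : ∀ i, A i i = 0) (v : ι → F) : gramForm A v v = 0 := by
  have hsum : gramForm A v v = ∑ p : ι × ι, v p.1 * A p.1 p.2 * v p.2 := by
    simp [gramForm, Matrix.mulVec, dotProduct, Fintype.sum_prod_type, Finset.mul_sum, mul_assoc]
  rw [hsum]
  refine Finset.sum_involution (fun p _ => p.swap) ?_ ?_ (fun p _ => Finset.mem_univ _) (fun p _ => rfl)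
  · intro p _
    have h1 := congrFun (congrFun hT p.1) p.2
    simp only [Matrix.transpose_apply, Matrix.neg_apply] at h1
    simp only [Prod.fst_swap, Prod.snd_swap, h1]
    ring
  · intro p _ hne he
    have : p.1 = p.2 := congrArg Prod.snd he
    exact hne (by rw [this, hd]; ring)

/-- A tensor power of two-dimensional spaces carries a form. -/
theorem inClass_powTwo (hn : 3 ≤ n) {H : Subgroup (GL (Fin n) F)} {t : ℕ} (ht : 0 < t)
    (e : Fin n ≃ (Fin t → Fin 2)) (P : GL (Fin n) F) (hle : H ≤ Geo.tensorWreathSubgroup 2 t e P) : InClass H := by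
  set R := Matrix.reindexAlgEquiv F F e.symm with hR
  have hRT : ∀ M, (R M)ᵀ = R Mᵀ := fun M => by simp [hR, Matrix.transpose_submatrix]
  set A := R (powGram F t) with hA
  set Q : Matrix (Fin n) (Fin n) F := ((P⁻¹ : GL (Fin n) F) : Matrix (Fin n) (Fin n) F) with hQ
  set B := Qᵀ * A * Q with hB
  have hBu : IsUnit B :=
    (((Matrix.isUnit_transpose (A := Q)).mpr (P⁻¹).isUnit).mul (powGram_isUnit.map R)).mul (P⁻¹).isUnit
  have hsim : H ≤ Geo.similarityGroup (gramForm B) := by
    refine le_similarityGroup_gramForm fun g hg => ?_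
    obtain ⟨_, ⟨h, hh, rfl⟩, hg'⟩ := hle hg
    obtain ⟨c, hc0, hc⟩ := tensorWreathStandard_le_gram hh
    refine ⟨c, hc0, ?_⟩
    have hgv : (g : Matrix (Fin n) (Fin n) F) = (P : Matrix (Fin n) (Fin n) F) * R (h : Matrix _ _ F) * Q := by
      rw [← hg']
      rfl
    have hQP : Q * (P : Matrix (Fin n) (Fin n) F) = 1 := by
      rw [hQ, ← Units.val_mul, inv_mul_cancel, Units.val_one]
    have hPQT : (P : Matrix (Fin n) (Fin n) F)ᵀ * Qᵀ = 1 := by rw [← Matrix.transpose_mul, hQP, Matrix.transpose_one]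
    calc (g : Matrix (Fin n) (Fin n) F)ᵀ * B * (g : Matrix (Fin n) (Fin n) F)
        = Qᵀ * ((R (h : Matrix _ _ F))ᵀ * ((P : Matrix (Fin n) (Fin n) F)ᵀ * Qᵀ) * A *
            (Q * (P : Matrix (Fin n) (Fin n) F)) * R (h : Matrix _ _ F)) * Q := by
          rw [hgv, hB]; simp [Matrix.transpose_mul, mul_assoc]
      _ = Qᵀ * R ((h : Matrix _ _ F)ᵀ * powGram F t * (h : Matrix _ _ F)) * Q := by
          rw [hQP, hPQT, hRT, map_mul, map_mul, mul_one, mul_one]
      _ = c • B := by rw [hc, map_smul, Matrix.mul_smul, Matrix.smul_mul]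
  have hAT : Aᵀ = (-1 : F) ^ t • A := by rw [hA, hRT, powGram_transpose, map_smul]
  have hdiag : ∀ i, A i i = 0 := fun i => by
    rw [hA, hR]
    simpa using powGram_diag ht (e i)
  have hBT : Bᵀ = (-1 : F) ^ t • B := by
    rw [hB, Matrix.transpose_mul, Matrix.transpose_mul, Matrix.transpose_transpose, hAT]
    simp [mul_assoc]
  have hform : (Bᵀ = -B ∧ ∀ i, B i i = 0) ∨ (Bᵀ = B ∧ (2 : F) ≠ 0) := by
    have hsk : (-1 : F) ^ t = -1 → Bᵀ = -B ∧ ∀ i, B i i = 0 := fun h => by
      refine ⟨by rw [hBT, h, neg_one_smul], fun i => ?_⟩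
      have hskA : Aᵀ = -A := by rw [hAT, h, neg_one_smul]
      have h1 : gramForm B (Pi.single i 1) (Pi.single i 1) = 0 := by
        rw [hB, ← gramForm_comp]
        exact gramForm_self_eq_zero hskA hdiag _
      simpa [gramForm] using h1
    by_cases h2 : (2 : F) = 0
    · left
      refine hsk ?_
      have h3 : (-1 : F) = 1 := by linear_combination -h2
      rw [h3, one_pow]
    · rcases Nat.even_or_odd t with h | h
      · exact Or.inr ⟨by rw [hBT, h.neg_one_pow, one_smul], h2⟩
      · exact Or.inl (hsk h.neg_one_pow)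
  rcases exists_form_of_gram hBu hsim hform with ⟨f, hf, hle'⟩ | ⟨Q', h2, hQ', hle'⟩
  · exact inClass_symplectic hn hf hle'
  · exact inClass_quadratic hn hQ' h2 hle'

/-- Exchanging the factors of a tensor decomposition. -/
theorem tensor_swap {d k : ℕ} (e : Fin n ≃ Fin d × Fin k) (P : GL (Fin n) F) :
    Geo.tensorProductSubgroup d k e P ≤ Geo.tensorProductSubgroup k d (e.trans (Equiv.prodComm _ _)) P := by
  rintro g ⟨_, ⟨h, ⟨a, b, hab⟩, rfl⟩, rfl⟩
  obtain ⟨h', hh'⟩ := exists_tr_preimage (e.trans (Equiv.prodComm (Fin d) (Fin k))) P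
    (MulAut.conj P (Geo.glReindex e.symm h))
  refine mem_transport _ P (h := h') ⟨b, a, ?_⟩ hh'
  apply (tr (e.trans (Equiv.prodComm (Fin d) (Fin k))) P).injective
  rw [← hh', tr_eq_conj_glReindex, hab, tr_apply, tr_apply]
  congr 2
  ext i j
  simp [mul_comm]

/-- Two equal factors form a tensor power. -/
theorem tensor_le_wreath {d : ℕ} (e : Fin n ≃ Fin d × Fin d) (P : GL (Fin n) F) :
    Geo.tensorProductSubgroup d d e P ≤
      Geo.tensorWreathSubgroup d 2 (e.trans (finTwoArrowEquiv (Fin d)).symm) P := by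
  rintro g ⟨_, ⟨h, ⟨a, b, hab⟩, rfl⟩, rfl⟩
  obtain ⟨h', hh'⟩ := exists_tr_preimage (e.trans (finTwoArrowEquiv (Fin d)).symm) P
    (MulAut.conj P (Geo.glReindex e.symm h))
  have hval : (h' : Matrix (Fin 2 → Fin d) (Fin 2 → Fin d) F) =
      tens fun i => ((![a, b] i : GL (Fin d) F) : Matrix (Fin d) (Fin d) F) := by
    apply (tr (e.trans (finTwoArrowEquiv (Fin d)).symm) P).injective
    rw [← hh', tr_eq_conj_glReindex, hab, tr_apply, tr_apply]
    congr 2
    ext i j
    simp [tens_apply, Fin.prod_univ_two]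
  exact mem_transport _ P (h := h') (Subgroup.subset_closure (Or.inl ⟨![a, b], fun x y => by rw [hval]; rfl⟩)) hh'

theorem inClass_wreath' (hn : 3 ≤ n) {H : Subgroup (GL (Fin n) F)} {d t : ℕ} (e : Fin n ≃ (Fin t → Fin d))
    (P : GL (Fin n) F) (hd : 2 ≤ d) (ht : 2 ≤ t) (hle : H ≤ Geo.tensorWreathSubgroup d t e P) : InClass H := by
  rcases Nat.lt_or_ge d 3 with h | h
  · obtain rfl : d = 2 := by omega
    exact inClass_powTwo hn (by omega) e P hle
  · exact inClass_wreath e P h ht hle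

theorem inClass_tensor' (hn : 3 ≤ n) {H : Subgroup (GL (Fin n) F)} {d k : ℕ} (e : Fin n ≃ Fin d × Fin k)
    (P : GL (Fin n) F) (hd : 2 ≤ d) (hk : 2 ≤ k) (hle : H ≤ Geo.tensorProductSubgroup d k e P) : InClass H := by
  rcases Nat.lt_trichotomy d k with h | h | h
  · exact inClass_tensor e P hd h hle
  · subst h
    exact inClass_wreath' hn _ P hd le_rfl (hle.trans (tensor_le_wreath e P))
  · exact inClass_tensor _ P hk h (hle.trans (tensor_swap e P))

/-- The case of a minimal normal subgroup abelian modulo scalars. -/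
theorem inClass_typeTwo (hn : 3 ≤ n) {G R : Subgroup (GL (Fin n) F)} {r : ℕ} (h : TypeTwo r G R) : InClass G := by
  classical
  haveI : NeZero n := ⟨by omega⟩
  have hn1 : 1 < Fintype.card (Fin n) := by simp; omega
  set N := r * Nat.gcd 2 r with hN
  obtain ⟨p, hp⟩ := CharP.exists F
  have hpp : p.Prime := CharP.char_is_prime F p
  have hN' : (r = 2 ∧ N = 4) ∨ (Odd r ∧ N = r) := by
    rcases h.prime.eq_two_or_odd' with h2 | h2
    · left; exact ⟨h2, by rw [hN, h2]; norm_num⟩
    · right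
      refine ⟨h2, ?_⟩
      rw [hN, show Nat.gcd 2 r = 1 from Nat.coprime_two_left.mpr h2, mul_one]
  by_cases hω : ∃ ω : F, IsPrimitiveRoot ω N
  swap
  · -- no square root of minus one
    rcases hN' with ⟨h2, h4⟩ | ⟨hodd, hNr⟩
    · have hno : ∀ c : F, c ^ 2 ≠ -1 := by
        intro c hc
        refine hω ⟨c, ?_⟩
        rw [h4]
        have h2' : (2 : F) ≠ 0 := by have := h.ne_zero; rw [h2] at this; simpa using this
        refine IsPrimitiveRoot.iff_def c 4 |>.mpr ⟨by rw [show 4 = 2 * 2 from rfl, pow_mul, hc]; norm_num, fun l hl => ?_⟩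
        have h4' : orderOf c = 2 ^ (1 + 1) := by
          haveI : Fact (Nat.Prime 2) := ⟨Nat.prime_two⟩
          refine orderOf_eq_prime_pow ?_ ?_
          · rw [pow_one, hc]; intro e; apply h2'; linear_combination -e
          · rw [show 2 ^ (1 + 1) = 2 * 2 from rfl, pow_mul, hc]; norm_num
        rw [show 4 = 2 ^ (1 + 1) from rfl, ← h4']
        exact orderOf_dvd_of_pow_eq_one hl
      obtain ⟨B, hB, hsim, hform⟩ := h.exists_form h2 hn1 hno
      rcases exists_form_of_gram hB hsim hform with ⟨f, hf, hle⟩ | ⟨Q, h2', hQ, hle⟩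
      · exact inClass_symplectic hn hf hle
      · exact inClass_quadratic hn hQ h2' hle
    · exfalso
      refine Aschbacher.irr_not_le_scalars (irr_iff.mpr h.absIrred.1) hn1 fun x hx =>
        Aschbacher.mem_scalars_of_commute h.absIrred fun y hy => commutatorElement_eq_one_iff_mul_comm.mp ?_
      obtain ⟨c, hc⟩ := (Geo.mem_scalars_iff _).mp (h.comm_scalar x hx y hy)
      have h1 := scalar_pow_eq hc r
      rw [h.comm_pow x hx y hy, Units.val_one] at h1
      have h2 : (c : F) ^ r = 1 := (smul_one_inj (ι := Fin n) (by rw [one_smul]; exact h1)).symm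
      by_contra hne
      refine hω ⟨c, hNr ▸ ?_⟩
      haveI : Fact r.Prime := ⟨h.prime⟩
      rw [← orderOf_eq_prime h2 fun e => hne (Units.ext (by rw [hc, e, one_smul, Units.val_one]))]
      exact IsPrimitiveRoot.orderOf _
  obtain ⟨ω, hω⟩ := hω
  have hNpos : 0 < N := Nat.mul_pos h.prime.pos (Nat.gcd_pos_of_pos_left _ two_pos)
  haveI : NeZero N := ⟨hNpos.ne'⟩
  obtain ⟨b, hb⟩ := h.exists_monomial hω
  have hNdvd : N ∣ Fintype.card F - 1 :=
    hω.dvd_of_pow_eq_one _ (FiniteField.pow_card_sub_one_eq_one ω (hω.ne_zero hNpos.ne'))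
  obtain ⟨e, f, hf, he0, hef, hed, hmin⟩ := exists_min_exponent' (F := F) hpp hNdvd
  obtain ⟨m, rfl⟩ := hef
  rcases Nat.lt_or_ge 1 m with hm | hm
  · -- a proper subfield contains the roots of unity
    obtain ⟨F₁, r', hr', hc, hmem⟩ := Aschbacher.exists_prime_index (F := F) (q₀ := p ^ e) hm (by rw [hf, pow_mul])
    have hF₁ : F₁ ≠ ⊤ := fun ht => by
      rw [(Aschbacher.subfield_eq_top_iff F₁).mp ht] at hc
      exact absurd hc (Nat.ne_of_lt (lt_self_pow₀ Fintype.one_lt_card hr'.one_lt))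
    refine inClass_subfield hF₁ (Aschbacher.coordGL b) h.normal h.absIrred fun s hs =>
      Aschbacher.rational_of_rationalOn ?_
    obtain ⟨π, c, hπ, hcN, hsb⟩ := hb s hs
    intro i k
    rw [hsb, map_smul, Pi.smul_apply, Module.Basis.equivFun_self, smul_eq_mul]
    split_ifs
    · rw [mul_one]
      refine hmem _ ?_
      obtain ⟨l, hl⟩ := hed
      have hpe : p ^ e = N * l + 1 := by have := Nat.one_le_pow e p hpp.pos; omega
      rw [hpe, pow_succ, pow_mul, hcN, one_pow, one_mul]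
    · rw [mul_zero]; exact zero_mem _
  have hm1 : m = 1 := by
    rcases Nat.eq_zero_or_pos m with rfl | h0
    · simp at hf; exact absurd hf (Fintype.one_lt_card.ne')
    · omega
  subst hm1
  rw [mul_one] at hf
  have hrp : r ≠ p := fun e' => h.ne_zero (by rw [e']; exact CharP.cast_eq_zero F p)
  rcases Nat.even_or_odd e with he | he
  · -- a unitary form
    obtain ⟨k, rfl⟩ := he
    have hk0 : 0 < k := by omega
    have hfac : p ^ (k + k) - 1 = (p ^ k - 1) * (p ^ k + 1) := by
      rw [pow_add, mul_comm (p ^ k - 1)]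
      have := Nat.sq_sub_sq (p ^ k) 1
      simpa [pow_two] using this
    have hNk : N ∣ p ^ k + 1 := by
      rcases hN' with ⟨h2, h4⟩ | ⟨-, hNr⟩
      · have hpodd : p % 2 = 1 := (hpp.eq_two_or_odd).resolve_left fun e' => hrp (h2.trans e'.symm)
        have h4p : ∀ d, 2 ∣ d → 4 ∣ p ^ d - 1 := by
          rintro d ⟨j, rfl⟩
          have h8 : 4 ∣ p ^ 2 - 1 := by
            obtain ⟨a, ha⟩ : ∃ a, p = 2 * a + 1 := ⟨p / 2, by omega⟩
            rw [ha, show (2 * a + 1) ^ 2 - 1 = 4 * (a * (a + 1)) from by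
              rw [show (2 * a + 1) ^ 2 = 4 * (a * (a + 1)) + 1 by ring]; omega]
            exact dvd_mul_right _ _
          exact h8.trans (by rw [pow_mul]; exact Nat.sub_one_dvd_pow_sub_one _ j)
        have hk1 : k = 1 := by
          by_contra hne
          exact hmin 2 two_pos (by omega) (h4 ▸ h4p 2 dvd_rfl)
        subst hk1
        have := hmin 1 one_pos (by omega)
        rw [h4, pow_one] at this
        rw [h4, pow_one]
        omega
      · exact hNr ▸ ((h.prime.dvd_mul.mp (hfac ▸ (hNr ▸ hed))).resolve_left (hNr ▸ hmin k hk0 (by omega)))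
    obtain ⟨σ, hσ1, hσ2, hσq⟩ := Aschbacher.exists_involution (F := F) (q := p ^ k) (by rw [hf, ← pow_mul]; ring_nf)
    have hu := Aschbacher.basisForm_unitary σ hσ1 hσ2 b
    have hg := Aschbacher.exists_gram (σ : F →+* F) _ hu.add_left hu.smul_left
      (fun v x y => by rw [hu.herm, hu.add_left, map_add, ← hu.herm, ← hu.herm])
      (fun c v x => by rw [hu.herm, hu.smul_left, map_mul, ← hu.herm]; rfl)
    refine inClass_unitary hn hu (Aschbacher.le_similarityGroup hg hu.nondegenerate h.absIrred h.normal ?_)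
    rintro _ ⟨s, hs, rfl⟩ u v
    obtain ⟨π, c, hπ, hcN, hsb⟩ := hb s hs
    refine Aschbacher.monomial_preserves (σ := (σ : F →+* F)) hπ hsb (fun i => ?_) u v
    show c i * σ (c i) = 1
    obtain ⟨l, hl⟩ := hNk
    rw [hσq, ← pow_succ', hl, pow_mul, hcN, one_pow]
  · -- class six
    have hcenter : Nat.card (Subgroup.center R) = N := by
      rw [← hω.card_rootsOfUnity]
      have hscal : ∀ u : rootsOfUnity N F, Units.map (Matrix.scalar (Fin n) : F →+* _).toMonoidHom (u : Fˣ) ∈ R :=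
        fun u => h.mem_of_scalar _ ⟨_, rfl⟩ (by rw [← map_pow, (mem_rootsOfUnity N _).mp u.2, map_one])
      refine (Nat.card_eq_of_bijective (fun u : rootsOfUnity N F =>
        (⟨⟨_, hscal u⟩, (h.center_iff ⟨_, hscal u⟩).mpr ⟨_, rfl⟩⟩ : Subgroup.center R)) ⟨fun u u' he' => ?_, fun x => ?_⟩).symm
      · have h1 := congrArg (fun x : Subgroup.center R => (((x : R) : GL (Fin n) F) : Matrix (Fin n) (Fin n) F) 0 0) he'
        exact Subtype.ext (Units.ext (by simpa using h1))
      · obtain ⟨u, hu⟩ := (h.center_iff (x : R)).mp x.2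
        have hmem : u ∈ rootsOfUnity N F := by
          rw [mem_rootsOfUnity]
          refine Units.ext (smul_one_inj (ι := Fin n) ?_)
          have h1 := congrArg Units.val (h.pow _ (x : R).2)
          rw [← hu, ← map_pow] at h1
          simpa [Matrix.smul_one_eq_diagonal, Matrix.diagonal_pow, Pi.pow_def, hN] using h1
        exact ⟨⟨u, hmem⟩, Subtype.ext (Subtype.ext hu)⟩
    obtain ⟨m, hm1, hmn⟩ := h.exists_pow hn1
    have hcardR := h.card_eq
    rw [hcenter, hmn, ← pow_mul] at hcardR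
    refine inClass_symplecticType (r := r) (R := R) ⟨⟨h.prime, h.isPGroup, ?_, ?_⟩, h.absIrred, p, e, hrp, ?_, ?_⟩
      fun g hg => Subgroup.mem_normalizer_iff.mpr fun x => ⟨h.normal g hg x, fun hx => by
        simpa [mul_assoc] using h.normal g⁻¹ (inv_mem hg) _ hx⟩
    · -- characteristic abelian subgroups are cyclic
      intro A hA hAc
      let M := A.map R.subtype
      have hMR : M ≤ R := Subgroup.map_subtype_le A
      have hMG : NormalIn M G := by
        rintro g hg _ ⟨x, hx, rfl⟩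
        let φ : R ≃* R :=
          { toFun := fun y => ⟨g * y * g⁻¹, h.normal g hg y y.2⟩
            invFun := fun y => ⟨g⁻¹ * y * g, by simpa using h.normal g⁻¹ (inv_mem hg) y y.2⟩
            left_inv := fun y => Subtype.ext (by simp [mul_assoc])
            right_inv := fun y => Subtype.ext (by simp [mul_assoc])
            map_mul' := fun y y' => Subtype.ext (by simp [mul_assoc]) }
        exact ⟨φ x, (Subgroup.characteristic_iff_le_comap.mp hA φ) hx, rfl⟩
      rcases h.minimal M hMR hMG with hMZ | hMZ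
      · let ev : A →* F :=
          { toFun := fun a => (((a : R) : GL (Fin n) F) : Matrix (Fin n) (Fin n) F) 0 0
            map_one' := by simp
            map_mul' := fun a a' => by
              obtain ⟨c, hc⟩ := (Geo.mem_scalars_iff _).mp (hMZ ⟨a, a.2, rfl⟩)
              obtain ⟨c', hc'⟩ := (Geo.mem_scalars_iff _).mp (hMZ ⟨a', a'.2, rfl⟩)
              simp only [Subgroup.coe_subtype] at hc hc'
              simp [hc, hc', mul_comm] }
        refine isCyclic_of_subgroup_isDomain ev fun a a' he' => ?_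
        obtain ⟨c, hc⟩ := (Geo.mem_scalars_iff _).mp (hMZ ⟨a, a.2, rfl⟩)
        obtain ⟨c', hc'⟩ := (Geo.mem_scalars_iff _).mp (hMZ ⟨a', a'.2, rfl⟩)
        simp only [Subgroup.coe_subtype] at hc hc'
        simp only [ev, MonoidHom.coe_mk, OneHom.coe_mk, hc, hc', Matrix.smul_apply, Matrix.one_apply_eq, smul_eq_mul,
          mul_one] at he'
        exact Subtype.ext (Subtype.ext (Units.ext (by rw [hc, hc', he'])))
      · exfalso
        refine Aschbacher.irr_not_le_scalars (irr_iff.mpr h.absIrred.1) hn1 fun x hx =>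
          Aschbacher.mem_scalars_of_commute h.absIrred fun y hy => ?_
        obtain ⟨a, ha, z, hz, rfl⟩ := (Subgroup.mem_sup_of_normal_right (ht := Geo.scalars_normal)).mp (hMZ hx)
        obtain ⟨a', ha', z', hz', rfl⟩ := (Subgroup.mem_sup_of_normal_right (ht := Geo.scalars_normal)).mp (hMZ hy)
        obtain ⟨a₀, ha₀, rfl⟩ := ha
        obtain ⟨a₁, ha₁, rfl⟩ := ha'
        have hcm : Commute (R.subtype a₀) (R.subtype a₁) := by
          have := congrArg Subtype.val (hAc.is_comm.comm (⟨a₀, ha₀⟩ : A) ⟨a₁, ha₁⟩)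
          exact congrArg (R.subtype) this
        have hzc : ∀ g, Commute g z := fun g => Aschbacher.scalars_central hz g
        have hzc' : ∀ g, Commute g z' := fun g => Aschbacher.scalars_central hz' g
        exact ((hcm.mul_right (hzc' _)).mul_left (((hzc _).symm).mul_right (hzc' z))).eq
    · -- the exponent
      refine Nat.dvd_antisymm (Monoid.exponent_dvd_of_forall_pow_eq_one fun x => Subtype.ext (h.pow x x.2)) ?_
      have hx : Units.map (Matrix.scalar (Fin n) : F →+* _).toMonoidHom (Units.mk0 ω (hω.ne_zero hNpos.ne')) ∈ R :=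
        h.mem_of_scalar _ ⟨_, rfl⟩ (by
          rw [← map_pow, show (Units.mk0 ω (hω.ne_zero hNpos.ne')) ^ N = 1 from Units.ext (by simpa using hω.pow_eq_one),
            map_one])
      have h1 := congrArg (fun x : R => ((x : GL (Fin n) F) : Matrix (Fin n) (Fin n) F) 0 0)
        (Monoid.pow_exponent_eq_one (⟨_, hx⟩ : R))
      rw [← hN]
      refine hω.dvd_of_pow_eq_one _ ?_
      simpa [Matrix.diagonal_pow] using h1
    · rw [hcenter]; exact ⟨hpp, hp, hf, hed, hmin⟩
    · rcases hN' with ⟨h2, h4⟩ | ⟨hodd, hNr⟩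
      · refine Or.inr (Or.inl ⟨h2, ?_, by rw [hcenter, h4], ?_, m, ?_⟩)
        · have hpodd : p % 2 = 1 := (hpp.eq_two_or_odd).resolve_left fun e' => hrp (h2.trans e'.symm)
          by_contra hne
          obtain ⟨j, rfl⟩ := he
          refine hmin 2 two_pos (by omega) ?_
          rw [h4]
          obtain ⟨a, ha⟩ : ∃ a, p = 2 * a + 1 := ⟨p / 2, by omega⟩
          rw [ha, show (2 * a + 1) ^ 2 - 1 = 4 * (a * (a + 1)) from by
            rw [show (2 * a + 1) ^ 2 = 4 * (a * (a + 1)) + 1 by ring]; omega]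
          exact dvd_mul_right _ _
        · rw [hmn, h2]
          rw [Fintype.card_fin, h2] at hmn
          rcases Nat.lt_or_ge m 2 with hm2 | hm2
          · exfalso
            have : (2 : ℕ) ^ m ≤ 2 := by
              calc (2 : ℕ) ^ m ≤ 2 ^ 1 := Nat.pow_le_pow_right two_pos (by omega)
                _ = 2 := rfl
            omega
          · calc 4 = 2 ^ 2 := rfl
              _ ≤ 2 ^ m := Nat.pow_le_pow_right two_pos hm2
        · rw [hcardR, h4, h2, pow_add, mul_comm m 2, mul_comm]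
          norm_num
      · refine Or.inl ⟨hodd, he, by rw [hcenter, hNr], m, hm1, ?_⟩
        rw [hcardR, hNr, pow_add, pow_one, mul_comm m 2, mul_comm]

/-- The residual alternative for a core. -/
theorem inClass_or_residual (hn : 3 ≤ n) {H P : Subgroup (GL (Fin n) F)} (h : Core H P) :
    InClass H ∨ Geo.InLinearResidualClass H := by
  haveI : NeZero n := ⟨by omega⟩
  by_cases hreal : ∃ F₀ : Subfield F, F₀ ≠ ⊤ ∧ Geo.RealisableOver F₀ (Geo.matrixSet P)
  · obtain ⟨F₀, hF₀, B, hB⟩ := hreal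
    exact Or.inl (inClass_subfield hF₀ B h.normal h.absIrred fun s hs i j => by simpa using hB _ ⟨s, hs, rfl⟩ i j)
  push Not at hreal
  by_cases hs : ∃ f : (Fin n → F) → (Fin n → F) → F, Geo.IsSymplecticForm f ∧ Geo.FixesForm (Geo.matrixSet P) f
  · obtain ⟨f, hf, hfix⟩ := hs
    have hg := Aschbacher.exists_gram (RingHom.id F) f hf.bilinear.add_left hf.bilinear.smul_left hf.bilinear.add_right
      (fun c v x => hf.bilinear.smul_right c v x)
    exact Or.inl (inClass_symplectic hn hf (Aschbacher.le_similarityGroup hg hf.nondegenerate h.absIrred h.normal hfix))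
  by_cases hu : ∃ (σ : F ≃+* F) (f : (Fin n → F) → (Fin n → F) → F),
      Geo.IsUnitaryForm σ f ∧ Geo.FixesForm (Geo.matrixSet P) f
  · obtain ⟨σ, f, hf, hfix⟩ := hu
    have hg := Aschbacher.exists_gram (σ : F →+* F) f hf.add_left hf.smul_left
      (fun v x y => by rw [hf.herm, hf.add_left, map_add, ← hf.herm, ← hf.herm])
      (fun c v x => by rw [hf.herm, hf.smul_left, map_mul, ← hf.herm]; rfl)
    exact Or.inl (inClass_unitary hn hf (Aschbacher.le_similarityGroup hg hf.nondegenerate h.absIrred h.normal hfix))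
  refine Or.imp_right (fun hq => (⟨P, h.toResidual hreal, hq, hs, hu⟩ : Geo.InLinearResidualClass H)) ?_
  refine or_iff_not_imp_right.mpr fun hq => ?_
  simp only [not_not] at hq
  obtain ⟨Q, hQ, hfix⟩ := hq
  have hd : ∀ v, QuadraticMap.polar Q v v = 2 * Q v := fun v => by
    rw [QuadraticMap.polar, ← two_smul F v, hQ.smul]; ring
  have hg := Aschbacher.exists_gram (RingHom.id F) (QuadraticMap.polar Q) hQ.polar_bilinear.add_left
    hQ.polar_bilinear.smul_left hQ.polar_bilinear.add_right (fun c v x => hQ.polar_bilinear.smul_right c v x)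
  have hfix' : Geo.FixesForm (Geo.matrixSet P) (QuadraticMap.polar Q) := fun s hs' u v => by
    simp only [QuadraticMap.polar, ← Matrix.mulVec_add, hfix s hs']
  have hsim := Aschbacher.le_similarityGroup hg hQ.nondegenerate h.absIrred h.normal hfix'
  by_cases h2 : (2 : F) = 0
  · refine absurd ⟨QuadraticMap.polar Q, ⟨hQ.polar_bilinear, fun v w => ?_, fun v => by rw [hd, h2, zero_mul],
      hQ.nondegenerate⟩, hfix'⟩ hs
    have hneg : ∀ a : F, -a = a := fun a => neg_eq_of_add_eq_zero_left (by rw [← two_mul, h2, zero_mul])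
    rw [hneg]; exact QuadraticMap.polar_comm _ _ _
  · refine inClass_quadratic hn hQ h2 fun g hg' => ?_
    obtain ⟨c, hc⟩ := hsim hg'
    refine ⟨c, fun v => mul_left_cancel₀ h2 ?_⟩
    rw [← hd, hc, hd]
    ring

/-- The structure theorem. -/
theorem linear_structure (hn : 3 ≤ n) (H : Subgroup (GL (Fin n) F)) :
    InClass H ∨ Geo.InLinearResidualClass H := by
  classical
  haveI : NeZero n := ⟨by omega⟩
  have hn1 : 1 < Fintype.card (Fin n) := by simp; omega
  by_cases hirr : Irr H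
  swap
  · exact Or.inl (inClass_subspace hirr)
  set Z := Geo.scalars (Fin n) F with hZ
  set G := H ⊔ Z with hG
  have hHG : H ≤ G := le_sup_left
  have hGirr : Irr G := fun W hW => hirr W fun g hg => hW g (hHG hg)
  have lift : InClass G → InClass H := fun ⟨M, hM, hle⟩ => ⟨M, hM, hHG.trans hle⟩
  by_cases hall : ∃ L : Subgroup (GL (Fin n) F), NormalIn L G ∧ ¬ L ≤ Z ∧
      ¬ Geo.ActsAbsolutelyIrreducibly (Geo.matrixSet L)
  · obtain ⟨L, hL, hLs, hLa⟩ := hall
    left
    apply lift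
    rcases clifford hL hGirr hLs with ⟨t, m, D, hD, hle⟩ | ⟨r, K, hr, hK, hle⟩ | ⟨d, k, e, P, hd, hk, hle⟩ | habs
    · exact inClass_decomp hD hle
    · exact inClass_field hr hK hle
    · exact inClass_tensor' hn e P hd hk hle
    · exact absurd habs hLa
  push Not at hall
  have hGn : NormalIn G G := fun g hg x hx => mul_mem (mul_mem hg hx) (inv_mem hg)
  obtain ⟨L, ⟨hLG, hL, hLZ, hLne⟩, hLmin⟩ := exists_minimal_of_wellFoundedLT
    (fun L : Subgroup (GL (Fin n) F) => L ≤ G ∧ NormalIn L G ∧ Z ≤ L ∧ L ≠ Z)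
    ⟨G, le_rfl, hGn, le_sup_right, fun e => Aschbacher.irr_not_le_scalars hGirr hn1 e.le⟩
  have hLs : ¬ L ≤ Z := fun e => hLne (le_antisymm e hLZ)
  have habs := hall L hL hLs
  have hmin : ∀ M ≤ L, NormalIn M G → Z ≤ M → M = Z ∨ M = L := fun M hM hMG hZM =>
    or_iff_not_imp_left.mpr fun hne => le_antisymm hM (hLmin ⟨hM.trans hLG, hMG, hZM, hne⟩ hM)
  by_cases h2 : ⁅L, L⁆ ≤ Z
  · obtain ⟨r, R, hR⟩ := exists_typeTwo hn1 hL hLZ habs hmin h2
    exact Or.inl (lift (inClass_typeTwo hn hR))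
  rcases nonabelian hLG hL hLZ habs hmin h2 with ⟨P, hP, hPL⟩ | ⟨d, t, e, P, φ, M₀, g, hw⟩
  · have hPH : P ≤ H := hPL.trans ((Subgroup.commutator_mono hLG hLG).trans
      ((commutator_sup_scalars H).trans (Aschbacher.commutator_le_self H)))
    exact inClass_or_residual hn (H := H)
      ⟨hPH, fun g hg => hP.normal g (hHG hg), hP.perfect, hP.simple, hP.nonabelian,
        fun x hx => hP.centralizer_scalar x (hHG hx), hP.absIrred⟩
  · exact Or.inl (lift (inClass_wreath' hn e P hw.two_le_dim hw.two_le hw.le_wreath))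

end Cfsg.Agent.MaxSub.Asch
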