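import Mathlib
import Cfsg.Agent.MaxSub.Asch.Main
import Cfsg.Agent.Lib.Forms.Sesq

/-!
Realisability over subfields: forms of realisable groups, and groups with traces in a subfield.
-/

set_option autoImplicit false
set_option linter.unusedSectionVars false
set_option linter.style.haveILetI false

namespace Cfsg.Agent.MaxSub.Asch

open scoped MatrixGroups Matrix
open Module
open Cfsg.Agent.Aschbacher (NormalIn Irr irr_iff Rational IsGram gram_unique exists_rational_multiple)

variable {ι : Type} [Fintype ι] [DecidableEq ι] [Nonempty ι] {F : Type*} [Field F] [Fintype F]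

/-- A rational absolutely irreducible group determines an invariant Gram matrix up to a scalar of the subfield. -/
theorem exists_rational_gram {σ : F →+* F} {G₀ : Matrix ι ι F} (hu₀ : IsUnit G₀) {F₁ : Subfield F} {B : GL ι F}
    {P : Subgroup (GL ι F)} (habs : Geo.ActsAbsolutelyIrreducibly (Geo.matrixSet P))
    (hP : ∀ s ∈ P, (s : Matrix ι ι F)ᵀ * G₀ * (s : Matrix ι ι F).map σ = G₀)
    (hrat : ∀ s ∈ P, Rational F₁ ((B * s * B⁻¹ : GL ι F) : Matrix ι ι F)) :
    ∃ c : F, c ≠ 0 ∧ Rational F₁ (c • (((B⁻¹ : GL ι F) : Matrix ι ι F)ᵀ * G₀ *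
      ((B⁻¹ : GL ι F) : Matrix ι ι F).map σ)) := by
  classical
  set Bi : Matrix ι ι F := ((B⁻¹ : GL ι F) : Matrix ι ι F) with hBi
  set Bm : Matrix ι ι F := (B : Matrix ι ι F) with hBm
  set G := Biᵀ * G₀ * Bi.map σ with hG
  have hGu : IsUnit G :=
    (((Matrix.isUnit_transpose (A := Bi)).mpr (B⁻¹).isUnit).mul hu₀).mul ((B⁻¹).isUnit.map σ.mapMatrix)
  have hinvG : ∀ s ∈ P,
      ((B * s * B⁻¹ : GL ι F) : Matrix ι ι F)ᵀ * G * ((B * s * B⁻¹ : GL ι F) : Matrix ι ι F).map σ = G := by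
    intro s hs
    have e1 : Bi * ((B * s * B⁻¹ : GL ι F) : Matrix ι ι F) = (s : Matrix ι ι F) * Bi := by
      rw [hBi, ← Units.val_mul, ← Units.val_mul]; congr 1; group
    calc _ = (Bi * ((B * s * B⁻¹ : GL ι F) : Matrix ι ι F))ᵀ * G₀ *
          (Bi * ((B * s * B⁻¹ : GL ι F) : Matrix ι ι F)).map σ := by
            rw [hG, Matrix.transpose_mul, Matrix.map_mul]; simp only [mul_assoc]
      _ = Biᵀ * ((s : Matrix ι ι F)ᵀ * G₀ * (s : Matrix ι ι F).map σ) * Bi.map σ := by
            rw [e1, Matrix.transpose_mul, Matrix.map_mul]; simp only [mul_assoc]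
      _ = _ := by rw [hP s hs]
  have hcanc : ∀ (g : GL ι F) (X : Matrix ι ι F),
      (g : Matrix ι ι F)ᵀ * (((g⁻¹ : GL ι F) : Matrix ι ι F)ᵀ * X) = X := by
    intro g X
    rw [← mul_assoc, ← Matrix.transpose_mul, ← Units.val_mul, inv_mul_cancel, Units.val_one, Matrix.transpose_one,
      one_mul]
  have hcanc' : ∀ (g : GL ι F) (X : Matrix ι ι F),
      ((g⁻¹ : GL ι F) : Matrix ι ι F)ᵀ * ((g : Matrix ι ι F)ᵀ * X) = X := fun g X => by
    simpa using hcanc g⁻¹ X
  have huniq : ∀ y : Matrix ι ι F, (∀ s : P, y * ((B * (s : GL ι F) * B⁻¹ : GL ι F) : Matrix ι ι F).map σ =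
      (((B * (s : GL ι F) * B⁻¹)⁻¹ : GL ι F) : Matrix ι ι F)ᵀ * y) → ∃ c : F, y = c • G := by
    intro y hy
    obtain ⟨c, hc⟩ := gram_unique (σ := σ) hu₀ habs hP
      (G' := Bmᵀ * y * Bm.map σ) (fun s hs => by
        have h1 : ((B * s * B⁻¹ : GL ι F) : Matrix ι ι F)ᵀ * (y * ((B * s * B⁻¹ : GL ι F) : Matrix ι ι F).map σ) = y := by
          rw [hy ⟨s, hs⟩, hcanc]
        have e1 : Bm * (s : Matrix ι ι F) = ((B * s * B⁻¹ : GL ι F) : Matrix ι ι F) * Bm := by
          rw [hBm, ← Units.val_mul, ← Units.val_mul, inv_mul_cancel_right]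
        calc (s : Matrix ι ι F)ᵀ * (Bmᵀ * y * Bm.map σ) * (s : Matrix ι ι F).map σ
            = (Bm * (s : Matrix ι ι F))ᵀ * y * (Bm * (s : Matrix ι ι F)).map σ := by
              rw [Matrix.transpose_mul, Matrix.map_mul]; simp only [mul_assoc]
          _ = Bmᵀ * (((B * s * B⁻¹ : GL ι F) : Matrix ι ι F)ᵀ * (y * ((B * s * B⁻¹ : GL ι F) : Matrix ι ι F).map σ)) *
                Bm.map σ := by
              rw [e1, Matrix.transpose_mul, Matrix.map_mul]; simp only [mul_assoc]
          _ = _ := by rw [h1])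
    refine ⟨c, ?_⟩
    have h2 := congrArg (fun M => Biᵀ * M * Bi.map σ) hc
    simp only [Matrix.mul_smul, Matrix.smul_mul] at h2
    have hBB : Bm.map σ * Bi.map σ = 1 := by
      rw [← Matrix.map_mul, hBm, hBi, ← Units.val_mul, mul_inv_cancel, Units.val_one,
        Matrix.map_one _ σ.map_zero σ.map_one]
    rw [show Biᵀ * (Bmᵀ * y * Bm.map σ) * Bi.map σ = Biᵀ * (Bmᵀ * y) * (Bm.map σ * Bi.map σ) by simp only [mul_assoc],
      hBB, mul_one, hBi, hBm, hcanc'] at h2
    exact h2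
  obtain ⟨c, hc, hcr⟩ := exists_rational_multiple F₁
    (fun s : P => ((B * s * B⁻¹ : GL ι F) : Matrix ι ι F).map σ)
    (fun s : P => (((B * s * B⁻¹)⁻¹ : GL ι F) : Matrix ι ι F)ᵀ)
    (fun s => (hrat s s.2).map σ) (fun s => by
      have e : (B * (s : GL ι F) * B⁻¹)⁻¹ = B * (s : GL ι F)⁻¹ * B⁻¹ := by group
      rw [e]
      exact (hrat _ (inv_mem s.2)).transpose) hGu.ne_zero
    (fun s => by
      calc G * ((B * (s : GL ι F) * B⁻¹ : GL ι F) : Matrix ι ι F).map σ
          = (((B * (s : GL ι F) * B⁻¹)⁻¹ : GL ι F) : Matrix ι ι F)ᵀ * (((B * (s : GL ι F) * B⁻¹ : GL ι F) : Matrix ι ι F)ᵀ *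
              (G * ((B * (s : GL ι F) * B⁻¹ : GL ι F) : Matrix ι ι F).map σ)) := (hcanc' _ _).symm
        _ = _ := by rw [← mul_assoc (((B * (s : GL ι F) * B⁻¹ : GL ι F) : Matrix ι ι F)ᵀ), hinvG s s.2]) huniq
  exact ⟨c, hc, hcr⟩

/-- An absolutely irreducible group with traces in a subfield is realisable over it, in dimension prime to `p`. -/
theorem realisable_of_trace {P : Subgroup (GL ι F)} (habs : Geo.ActsAbsolutelyIrreducibly (Geo.matrixSet P))
    (hn : (Fintype.card ι : F) ≠ 0) {F₀ : Subfield F}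
    (htr : ∀ x ∈ P, Matrix.trace (x : Matrix ι ι F) ∈ F₀) : Geo.RealisableOver F₀ (Geo.matrixSet P) := by
  classical
  haveI : Finite (Matrix ι ι F) := Pi.finite
  let A : Subalgebra F₀ (Matrix ι ι F) := Algebra.adjoin F₀ (Geo.matrixSet P)
  have hspan : ∀ a ∈ A, a ∈ Submodule.span F₀ (Geo.matrixSet P) := by
    intro a ha
    have h1 : a ∈ Subalgebra.toSubmodule A := ha
    rw [Algebra.adjoin_eq_span] at h1
    refine Submodule.span_le.mpr (fun b hb => Submodule.subset_span ?_) h1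
    exact (Submonoid.closure_le.mpr (show Geo.matrixSet P ⊆ P.toSubmonoid.map (Units.coeHom (Matrix ι ι F)) from
      fun b hb => hb)) hb
  have htrA : ∀ a ∈ A, Matrix.trace a ∈ F₀ := by
    intro a ha
    have h := hspan a ha
    clear ha
    induction h using Submodule.span_induction with
    | mem x hx =>
      obtain ⟨g, hg, rfl⟩ := hx
      exact htr g hg
    | zero => simp
    | add x y _ _ hx hy => rw [Matrix.trace_add]; exact add_mem hx hy
    | smul c x _ hx =>
      rw [show c • x = (c : F) • x from rfl, Matrix.trace_smul, smul_eq_mul]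
      exact mul_mem c.2 hx
  have hone : (1 : Matrix ι ι F) ∈ A := one_mem _
  have hnF : (Fintype.card ι : F) ∈ F₀ := by
    have := htrA 1 hone
    rwa [Matrix.trace_one] at this
  have hradical : ∀ a ∈ A, (∀ b ∈ A, IsNilpotent (b * a)) → a = 0 := by
    intro a _ hnil
    have hzero : ∀ M : Matrix ι ι F, Matrix.trace (M * a) = 0 := by
      intro M
      have hM : M ∈ alg P := alg_eq_top habs ▸ Algebra.mem_top
      have h1 : M ∈ Subalgebra.toSubmodule (alg P) := hM
      rw [Algebra.adjoin_eq_span] at h1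
      clear hM
      induction h1 using Submodule.span_induction with
      | mem x hx =>
        have hxP := (Submonoid.closure_le.mpr
          (show Geo.matrixSet P ⊆ P.toSubmonoid.map (Units.coeHom (Matrix ι ι F)) from fun b hb => hb)) hx
        exact (Matrix.isNilpotent_trace_of_isNilpotent (hnil x (Algebra.subset_adjoin hxP))).eq_zero
      | zero => simp
      | add x y _ _ hx hy => rw [add_mul, Matrix.trace_add, hx, hy, add_zero]
      | smul c x _ hx => rw [Matrix.smul_mul, Matrix.trace_smul, hx, smul_zero]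
    ext i j
    have := hzero (Matrix.single j i 1)
    simpa [Matrix.trace_single_mul] using this
  haveI : Finite A := Subtype.finite
  haveI : Nontrivial A := ⟨⟨0, 1, fun h => zero_ne_one (α := Matrix ι ι F) (congrArg Subtype.val h)⟩⟩
  haveI : IsArtinianRing A := inferInstance
  haveI : IsSemisimpleRing A := by
    rw [IsArtinianRing.isSemisimpleRing_iff_jacobson, eq_bot_iff]
    intro a ha
    rw [Submodule.mem_bot]
    refine Subtype.ext (hradical a a.2 fun b hb => ?_)
    rw [← Ideal.jacobson_bot] at ha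
    obtain ⟨l, hl⟩ := IsArtinianRing.isNilpotent_jacobson_bot (R := A)
    refine ⟨l, ?_⟩
    have h1 : (⟨b, hb⟩ * a) ^ l ∈ (Ideal.jacobson (⊥ : Ideal A)) ^ l :=
      Ideal.pow_mem_pow (Ideal.mul_mem_left _ _ ha) l
    rw [hl] at h1
    simpa using congrArg Subtype.val (Submodule.mem_bot _ |>.mp h1)
  obtain ⟨d, hd, ⟨e⟩⟩ := exists_matrix_equiv (F := F₀) (A := A) (by
    intro z hz
    obtain ⟨c, hc⟩ := habs.2 (z : Matrix ι ι F) (by
      rintro _ ⟨g, hg, rfl⟩
      show (z : Matrix ι ι F) * (g : Matrix ι ι F) = (g : Matrix ι ι F) * (z : Matrix ι ι F)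
      exact congrArg Subtype.val (hz ⟨(g : Matrix ι ι F), Algebra.subset_adjoin ⟨g, hg, rfl⟩⟩))
    have hcF : c ∈ F₀ := by
      have h1 := htrA _ z.2
      rw [hc, Matrix.trace_smul, Matrix.trace_one, smul_eq_mul] at h1
      have h2 := mul_mem h1 (inv_mem hnF)
      rwa [mul_assoc, mul_inv_cancel₀ hn, mul_one] at h2
    exact ⟨⟨c, hcF⟩, Subtype.ext (by rw [hc]; simp [Algebra.algebraMap_eq_smul_one]; rfl)⟩)
  haveI : Nonempty (Fin d) := ⟨⟨0, hd⟩⟩
  let ψ : Matrix (Fin d) (Fin d) F₀ →ₐ[F₀] Matrix ι ι F := A.val.comp e.toAlgHom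
  let E : Fin d → Fin d → Matrix ι ι F := fun x y => ψ (Matrix.single x y 1)
  have hψsum : ∀ M, ψ M = ∑ x, ∑ y, (M x y : F) • E x y := by
    intro M
    conv_lhs => rw [Matrix.matrix_eq_sum_single M]
    simp only [map_sum]
    refine Finset.sum_congr rfl fun x _ => Finset.sum_congr rfl fun y _ => ?_
    rw [show Matrix.single x y (M x y) = M x y • Matrix.single x y (1 : F₀) by simp [Matrix.smul_single], map_smul]
    rfl
  have hE : IsUnits E := by
    refine ⟨fun x y a b => ?_, ?_⟩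
    · show ψ _ * ψ _ = _
      rw [← map_mul]
      by_cases h : y = a
      · subst h; simp [E]
      · simp [E, h]
    · show ∑ x, ψ _ = 1
      rw [← map_sum, ← map_one ψ]
      congr 1
      ext a b
      simp [Matrix.sum_apply, Matrix.single_apply, Matrix.one_apply, ite_and]
  obtain ⟨hcard, hP⟩ := hE.exists_tr_full fun T hT => habs.2 T (by
    rintro _ ⟨g, hg, rfl⟩
    obtain ⟨M, hM⟩ := e.surjective ⟨(g : Matrix ι ι F), Algebra.subset_adjoin ⟨g, hg, rfl⟩⟩
    have hg' : (g : Matrix ι ι F) = ψ M := (congrArg Subtype.val hM).symm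
    show T * (g : Matrix ι ι F) = (g : Matrix ι ι F) * T
    rw [hg', hψsum, Finset.mul_sum, Finset.sum_mul]
    refine Finset.sum_congr rfl fun x _ => ?_
    rw [Finset.mul_sum, Finset.sum_mul]
    refine Finset.sum_congr rfl fun y _ => ?_
    rw [Matrix.mul_smul, Matrix.smul_mul, hT])
  let f : ι ≃ Fin d := Fintype.equivOfCardEq hcard
  obtain ⟨B, hB⟩ := hP f
  refine ⟨B⁻¹, ?_⟩
  rintro _ ⟨g, hg, rfl⟩ i j
  obtain ⟨M, hM⟩ := e.surjective ⟨(g : Matrix ι ι F), Algebra.subset_adjoin ⟨g, hg, rfl⟩⟩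
  have hg' : (g : Matrix ι ι F) = tr f B (M.map F₀.subtype) := by
    rw [show (g : Matrix ι ι F) = ψ M from (congrArg Subtype.val hM).symm, hψsum]
    conv_rhs => rw [Matrix.matrix_eq_sum_single (M.map F₀.subtype)]
    simp only [map_sum]
    refine Finset.sum_congr rfl fun x _ => Finset.sum_congr rfl fun y _ => ?_
    rw [hB, ← map_smul]
    simp [Matrix.smul_single]
  show (((B⁻¹ : GL ι F) : Matrix ι ι F) * (g : Matrix ι ι F) * (((B⁻¹)⁻¹ : GL ι F) : Matrix ι ι F)) i j ∈ F₀
  rw [hg', tr_apply]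
  simp only [inv_inv, ← mul_assoc, Units.inv_mul, one_mul]
  rw [mul_assoc, Units.inv_mul, mul_one]
  simp

/-- Galois descent: a semilinear involution has a basis of fixed vectors. -/
theorem exists_fixed_basis {σ : F →+* F} (hσ : σ ≠ RingHom.id F) (hσ2 : ∀ a, σ (σ a) = a) {K' : Matrix ι ι F}
    (hK'σ : K' * K'.map σ = 1) :
    ∃ B : GL ι F, K' * ((B⁻¹ : GL ι F) : Matrix ι ι F).map σ = ((B⁻¹ : GL ι F) : Matrix ι ι F) := by
  classical
  let T : (ι → F) → (ι → F) := fun v => K' *ᵥ fun i => σ (v i)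
  have hT : ∀ v, T (T v) = v := fun v => by
    show K' *ᵥ (fun i => σ ((K' *ᵥ fun j => σ (v j)) i)) = v
    rw [Aschbacher.mulVec_comp, Matrix.mulVec_mulVec, hK'σ, Matrix.one_mulVec]
    funext i
    exact hσ2 _
  have hTadd : ∀ u v, T (u + v) = T u + T v := fun u v => by
    show K' *ᵥ _ = K' *ᵥ _ + K' *ᵥ _
    rw [← Matrix.mulVec_add]; congr 1; funext i; exact map_add σ _ _
  have hTsmul : ∀ (c : F) v, T (c • v) = σ c • T v := fun c v => by
    show K' *ᵥ _ = σ c • (K' *ᵥ _)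
    rw [← Matrix.mulVec_smul]; congr 1; funext i; exact map_mul σ _ _
  obtain ⟨x, hx⟩ : ∃ x, σ x ≠ x := by
    by_contra hcon
    push Not at hcon
    exact hσ (RingHom.ext hcon)
  let W : Set (ι → F) := {v | T v = v}
  have hspan : Submodule.span F W = ⊤ := by
    refine top_le_iff.mp fun v _ => ?_
    have h1 : v + T v ∈ Submodule.span F W := Submodule.subset_span (show T _ = _ by rw [hTadd, hT, add_comm])
    have h2 : x • v + σ x • T v ∈ Submodule.span F W :=
      Submodule.subset_span (show T _ = _ by rw [hTadd, hTsmul, hTsmul, hσ2, hT, add_comm])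
    have h3 : (σ x - x) • T v ∈ Submodule.span F W := by
      have := sub_mem h2 (Submodule.smul_mem _ x h1)
      convert this using 1
      module
    have h4 : T v ∈ Submodule.span F W := by
      have := Submodule.smul_mem _ (σ x - x)⁻¹ h3
      rwa [smul_smul, inv_mul_cancel₀ (sub_ne_zero.mpr hx), one_smul] at this
    simpa using sub_mem h1 h4
  obtain ⟨S, hSW, hSspan, hSli⟩ := exists_linearIndependent F W
  haveI : Fintype S := Fintype.ofFinite S
  let b₀ : Basis S F (ι → F) := Basis.mk hSli (by rw [Subtype.range_coe, hSspan, hspan])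
  let f : S ≃ ι := Fintype.equivOfCardEq (by rw [← Module.finrank_eq_card_basis b₀, Module.finrank_pi])
  let bb := b₀.reindex f
  set B := Aschbacher.coordGL bb with hB
  have hbb : ∀ k, T (bb k) = bb k := fun k => by
    rw [show bb k = ((f.symm k : S) : ι → F) by simp [bb, b₀]]
    exact hSW (f.symm k).2
  have hBi : ∀ k, ((B⁻¹ : GL ι F) : Matrix ι ι F) *ᵥ Pi.single k 1 = bb k := fun k => by
    refine Aschbacher.mulVec_gl_inj B ?_
    show (B : Matrix ι ι F) *ᵥ _ = (B : Matrix ι ι F) *ᵥ _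
    rw [Aschbacher.mulVec_inv_mulVec, hB, Aschbacher.coordGL_mulVec]
    ext j
    simp [Pi.single_apply, eq_comm]
  have hKB : K' * ((B⁻¹ : GL ι F) : Matrix ι ι F).map σ = ((B⁻¹ : GL ι F) : Matrix ι ι F) := by
    refine Matrix.ext_of_mulVec_single fun k => ?_
    rw [← Matrix.mulVec_mulVec, hBi, ← Aschbacher.single_comp σ k, ← Aschbacher.mulVec_comp, hBi]
    exact hbb k
  exact ⟨B, hKB⟩

/-- A group fixing a bilinear and a sesquilinear form is realisable over the fixed field. -/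
theorem realisable_of_two_forms {σ : F →+* F} (hσ : σ ≠ RingHom.id F) (hσ2 : ∀ a, σ (σ a) = a)
    {P : Subgroup (GL ι F)} (habs : Geo.ActsAbsolutelyIrreducibly (Geo.matrixSet P))
    {J G : GL ι F} (hJ : ∀ s ∈ P, (s : Matrix ι ι F)ᵀ * (J : Matrix ι ι F) * (s : Matrix ι ι F) = (J : Matrix ι ι F))
    (hG : ∀ s ∈ P, (s : Matrix ι ι F)ᵀ * (G : Matrix ι ι F) * (s : Matrix ι ι F).map σ = (G : Matrix ι ι F)) :
    ∃ F₀ : Subfield F, F₀ ≠ ⊤ ∧ Geo.RealisableOver F₀ (Geo.matrixSet P) := by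
  classical
  set K := ((J⁻¹ : GL ι F) : Matrix ι ι F) * (G : Matrix ι ι F) with hK
  have hKs : ∀ s ∈ P, K * (s : Matrix ι ι F).map σ = (s : Matrix ι ι F) * K := by
    intro s hs
    have h1 : ((J⁻¹ : GL ι F) : Matrix ι ι F) * (s : Matrix ι ι F)ᵀ * (J : Matrix ι ι F) * (s : Matrix ι ι F) = 1 := by
      rw [mul_assoc, mul_assoc, ← mul_assoc ((s : Matrix ι ι F)ᵀ), hJ s hs, Units.inv_mul]
    have h2 := mul_eq_one_comm.mp h1
    calc K * (s : Matrix ι ι F).map σ = (s : Matrix ι ι F) * (((J⁻¹ : GL ι F) : Matrix ι ι F) *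
          (s : Matrix ι ι F)ᵀ * (J : Matrix ι ι F)) * K * (s : Matrix ι ι F).map σ := by rw [h2, one_mul]
      _ = (s : Matrix ι ι F) * ((J⁻¹ : GL ι F) : Matrix ι ι F) * ((s : Matrix ι ι F)ᵀ *
          ((J : Matrix ι ι F) * ((J⁻¹ : GL ι F) : Matrix ι ι F)) * (G : Matrix ι ι F) * (s : Matrix ι ι F).map σ) := by
            rw [hK]; simp only [mul_assoc]
      _ = _ := by rw [Units.mul_inv, mul_one, hG s hs, hK, mul_assoc]
  have hKu : IsUnit K := (J⁻¹).isUnit.mul G.isUnit
  have hσσ : ∀ M : Matrix ι ι F, (M.map σ).map σ = M := fun M => by ext i j; simp [hσ2]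
  obtain ⟨a, ha⟩ := habs.2 (K * K.map σ) (by
    rintro _ ⟨s, hs, rfl⟩
    show K * K.map σ * (s : Matrix ι ι F) = (s : Matrix ι ι F) * (K * K.map σ)
    have h1 := congrArg (fun M => M.map σ) (hKs s hs)
    simp only [Matrix.map_mul, hσσ] at h1
    rw [mul_assoc, h1, ← mul_assoc, hKs s hs, mul_assoc])
  have ha0 : a ≠ 0 := by
    rintro rfl
    rw [zero_smul] at ha
    have hu := hKu.mul (hKu.map σ.mapMatrix)
    rw [show σ.mapMatrix K = K.map σ from rfl, ha] at hu
    exact not_isUnit_zero hu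
  have haσ : σ a = a := by
    have h1 := congrArg (fun M => M.map σ) ha
    simp only [Matrix.map_mul, hσσ] at h1
    rw [show (a • (1 : Matrix ι ι F)).map σ = σ a • 1 by ext i j; simp [Matrix.one_apply, apply_ite σ]] at h1
    have h2 : K * (K.map σ * K) = (K * K.map σ) * K := (mul_assoc _ _ _).symm
    rw [h1, ha, Matrix.mul_smul, mul_one, Matrix.smul_mul, one_mul] at h2
    by_contra hne
    exact hKu.ne_zero ((smul_eq_zero.mp (show (σ a - a) • K = 0 by rw [sub_smul, h2, sub_self])).resolve_left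
      (sub_ne_zero.mpr hne))
  obtain ⟨b, hb⟩ := Cfsg.Agent.Forms.exists_norm_eq hσ hσ2 haσ
  have hb0 : b ≠ 0 := by rintro rfl; exact ha0 (by simpa using hb.symm)
  set K' := b⁻¹ • K with hK'
  have hK'σ : K' * K'.map σ = 1 := by
    rw [hK', show (b⁻¹ • K).map σ = σ b⁻¹ • K.map σ by ext i j; simp, smul_mul_smul_comm, ha, smul_smul, map_inv₀, ← hb]
    convert one_smul F (1 : Matrix ι ι F) using 2
    have := (map_ne_zero σ).mpr hb0
    field_simp
  obtain ⟨x, hx⟩ : ∃ x, σ x ≠ x := by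
    by_contra hcon
    push Not at hcon
    exact hσ (RingHom.ext hcon)
  obtain ⟨B, hKB⟩ := exists_fixed_basis hσ hσ2 hK'σ
  let F₀ : Subfield F := RingHom.eqLocusField σ (RingHom.id F)
  refine ⟨F₀, fun htop => hx (show x ∈ F₀ from htop ▸ Subfield.mem_top x), B, ?_⟩
  rintro _ ⟨s, hs, rfl⟩ i j
  set N := (B : Matrix ι ι F) * (s : Matrix ι ι F) * ((B⁻¹ : GL ι F) : Matrix ι ι F) with hN
  have hN' : N.map σ = N := by
    set Bi := ((B⁻¹ : GL ι F) : Matrix ι ι F) with hBidef
    have h3 : K' * (s : Matrix ι ι F).map σ = (s : Matrix ι ι F) * K' := by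
      rw [hK', Matrix.smul_mul, hKs s hs, Matrix.mul_smul]
    have h4 : Bi * N.map σ = Bi * N := by
      have hBB : Bi.map σ * (B : Matrix ι ι F).map σ = 1 := by
        rw [← Matrix.map_mul, hBidef, Units.inv_mul]
        exact Matrix.map_one _ (map_zero _) (map_one _)
      calc Bi * N.map σ = K' * (Bi.map σ * (B : Matrix ι ι F).map σ) * (s : Matrix ι ι F).map σ * Bi.map σ := by
            rw [show Bi * N.map σ = K' * Bi.map σ * N.map σ by rw [hKB], hN, Matrix.map_mul, Matrix.map_mul]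
            simp only [mul_assoc]
        _ = (s : Matrix ι ι F) * Bi := by rw [hBB, mul_one, h3, mul_assoc, hKB]
        _ = Bi * N := by rw [hN, hBidef, ← mul_assoc, ← mul_assoc, Units.inv_mul, one_mul]
    have h5 := congrArg ((B : Matrix ι ι F) * ·) h4
    simpa [← mul_assoc, hBidef] using h5
  exact (RingHom.mem_eqLocusField.mpr (congrFun (congrFun hN' i) j))

end Cfsg.Agent.MaxSub.Asch
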