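import Mathlib
import Cfsg.Agent.MaxSub.Asch.Main

/-!
Adjoints with respect to a non-degenerate sesquilinear form with a symmetry, and their interaction with Clifford
theory: idempotents, normalised fields, tensor decompositions.
-/

set_option autoImplicit false
set_option linter.unusedSectionVars false
set_option linter.style.haveILetI false

namespace Cfsg.Agent.MaxSub.Asch

open scoped MatrixGroups Matrix Kronecker
open Module
open Cfsg.Agent.Aschbacher (NormalIn Inv Irr)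

variable {ι : Type} [Fintype ι] [DecidableEq ι] {F : Type*} [Field F]

/-- A sesquilinear form given by an invertible Gram matrix, with symmetry `ε`. -/
structure FormData (ι : Type) [Fintype ι] [DecidableEq ι] (F : Type*) [Field F] where
  σ : F →+* F
  gram : GL ι F
  ε : F
  invol : ∀ a, σ (σ a) = a
  herm : ((gram : Matrix ι ι F)ᵀ).map σ = ε • (gram : Matrix ι ι F)

namespace FormData

variable (Φ : FormData ι F)

/-- The form. -/
def form (u v : ι → F) : F := u ⬝ᵥ ((Φ.gram : Matrix ι ι F) *ᵥ fun i => Φ.σ (v i))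

theorem isGram : Aschbacher.IsGram Φ.σ Φ.form (Φ.gram : Matrix ι ι F) := fun _ _ => rfl

/-- The adjoint of a matrix. -/
def adj (a : Matrix ι ι F) : Matrix ι ι F :=
  (((Φ.gram⁻¹ : GL ι F) : Matrix ι ι F) * aᵀ * (Φ.gram : Matrix ι ι F)).map Φ.σ

theorem map_map (a : Matrix ι ι F) : (a.map Φ.σ).map Φ.σ = a := by
  ext i j; simp [Φ.invol]

theorem adj_mul (a b : Matrix ι ι F) : Φ.adj (a * b) = Φ.adj b * Φ.adj a := by
  rw [adj, adj, adj, ← Matrix.map_mul, Matrix.transpose_mul]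
  congr 1
  simp [mul_assoc]

theorem adj_add (a b : Matrix ι ι F) : Φ.adj (a + b) = Φ.adj a + Φ.adj b := by
  rw [adj, adj, adj, ← Matrix.map_add _ (map_add Φ.σ), Matrix.transpose_add, mul_add, add_mul]

theorem adj_smul (c : F) (a : Matrix ι ι F) : Φ.adj (c • a) = Φ.σ c • Φ.adj a := by
  rw [adj, adj, Matrix.transpose_smul, Matrix.mul_smul, Matrix.smul_mul]
  ext i j
  exact map_mul Φ.σ c _

theorem adj_one : Φ.adj 1 = 1 := by
  rw [adj, Matrix.transpose_one, mul_one, ← Units.val_mul, inv_mul_cancel, Units.val_one]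
  exact Matrix.map_one _ (map_zero _) (map_one _)

theorem adj_zero : Φ.adj 0 = 0 := by
  simp [adj]

theorem adj_sub (a b : Matrix ι ι F) : Φ.adj (a - b) = Φ.adj a - Φ.adj b := by
  have := Φ.adj_add (a - b) b
  rw [sub_add_cancel] at this
  rw [this, add_sub_cancel_right]

theorem adj_pow (a : Matrix ι ι F) (k : ℕ) : Φ.adj (a ^ k) = Φ.adj a ^ k := by
  induction k with
  | zero => simp [Φ.adj_one]
  | succ k ih => rw [pow_succ, adj_mul, ih, ← pow_succ']

theorem map_gram : (Φ.gram : Matrix ι ι F).map Φ.σ = Φ.ε • (Φ.gram : Matrix ι ι F)ᵀ := by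
  have := congrArg Matrix.transpose Φ.herm
  rwa [← Matrix.transpose_map, Matrix.transpose_transpose, Matrix.transpose_smul] at this

theorem eps_ne_zero [Nonempty ι] : Φ.ε ≠ 0 := by
  intro h
  have h1 := Φ.map_gram
  rw [h, zero_smul] at h1
  have h2 : IsUnit ((Φ.gram : Matrix ι ι F).map Φ.σ) := Φ.gram.isUnit.map Φ.σ.mapMatrix
  rw [h1] at h2
  exact not_isUnit_zero h2

theorem adj_adj [Nonempty ι] (a : Matrix ι ι F) : Φ.adj (Φ.adj a) = a := by
  set T := (Φ.gram : Matrix ι ι F) with hT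
  set T' := ((Φ.gram⁻¹ : GL ι F) : Matrix ι ι F) with hT'
  have hinv : T * T' = 1 := by rw [hT, hT', ← Units.val_mul, mul_inv_cancel, Units.val_one]
  have hT1 : T'.map Φ.σ * T.map Φ.σ = 1 := by
    rw [← Matrix.map_mul, hT, hT', ← Units.val_mul, inv_mul_cancel, Units.val_one]
    exact Matrix.map_one _ (map_zero _) (map_one _)
  have hT2 : T'.map Φ.σ = Φ.ε⁻¹ • T'ᵀ := by
    have h1 : T.map Φ.σ * (Φ.ε⁻¹ • T'ᵀ) = 1 := by
      rw [hT, Φ.map_gram, smul_mul_smul_comm, mul_inv_cancel₀ Φ.eps_ne_zero, one_smul, hT', ← Matrix.transpose_mul,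
        ← Units.val_mul, inv_mul_cancel, Units.val_one, Matrix.transpose_one]
    exact left_inv_eq_right_inv hT1 h1
  have hdouble : Φ.adj (Φ.adj a) = T'.map Φ.σ * ((T' * aᵀ * T)ᵀ) * T.map Φ.σ := by
    rw [adj, adj, Matrix.map_mul, Matrix.map_mul, ← Matrix.transpose_map, Φ.map_map]
  rw [hdouble, hT2, Matrix.transpose_mul, Matrix.transpose_mul, Matrix.transpose_transpose]
  conv_lhs => rw [hT, Φ.map_gram, ← hT]
  simp only [Matrix.smul_mul, Matrix.mul_smul, smul_smul, mul_inv_cancel₀ Φ.eps_ne_zero, inv_mul_cancel₀ Φ.eps_ne_zero,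
    one_smul]
  calc T'ᵀ * (Tᵀ * (a * T'ᵀ)) * Tᵀ = (T * T')ᵀ * a * (T * T')ᵀ := by simp [Matrix.transpose_mul, mul_assoc]
    _ = a := by rw [hinv, Matrix.transpose_one, one_mul, mul_one]

theorem form_adj (a : Matrix ι ι F) (u v : ι → F) : Φ.form (a *ᵥ u) v = Φ.form u (Φ.adj a *ᵥ v) := by
  have hv : (fun i => Φ.σ ((Φ.adj a *ᵥ v) i)) =
      (((Φ.gram⁻¹ : GL ι F) : Matrix ι ι F) * aᵀ * (Φ.gram : Matrix ι ι F)) *ᵥ fun i => Φ.σ (v i) := by
    rw [Aschbacher.mulVec_comp, adj, Φ.map_map]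
  rw [form, form, hv, Matrix.mulVec_mulVec, ← mul_assoc, ← mul_assoc, ← Units.val_mul, mul_inv_cancel, Units.val_one,
    one_mul, ← Matrix.mulVec_mulVec, Matrix.dotProduct_mulVec u aᵀ, Matrix.vecMul_transpose]

/-- The similitudes of the form, as a condition on Gram matrices. -/
def IsSim (g : GL ι F) : Prop :=
  ∃ c : F, c ≠ 0 ∧ (g : Matrix ι ι F)ᵀ * (Φ.gram : Matrix ι ι F) * (g : Matrix ι ι F).map Φ.σ =
    c • (Φ.gram : Matrix ι ι F)

theorem adj_of_sim {g : GL ι F} {c : F}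
    (h : (g : Matrix ι ι F)ᵀ * (Φ.gram : Matrix ι ι F) * (g : Matrix ι ι F).map Φ.σ = c • (Φ.gram : Matrix ι ι F)) :
    Φ.adj (g : Matrix ι ι F) = Φ.σ c • ((g⁻¹ : GL ι F) : Matrix ι ι F) := by
  have hgm : (g : Matrix ι ι F).map Φ.σ * ((g⁻¹ : GL ι F) : Matrix ι ι F).map Φ.σ = 1 := by
    rw [← Matrix.map_mul, ← Units.val_mul, mul_inv_cancel, Units.val_one]
    exact Matrix.map_one _ (map_zero _) (map_one _)
  have h1 : ((Φ.gram⁻¹ : GL ι F) : Matrix ι ι F) * (g : Matrix ι ι F)ᵀ * (Φ.gram : Matrix ι ι F) =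
      c • ((g⁻¹ : GL ι F) : Matrix ι ι F).map Φ.σ := by
    calc _ = ((Φ.gram⁻¹ : GL ι F) : Matrix ι ι F) * ((g : Matrix ι ι F)ᵀ * (Φ.gram : Matrix ι ι F) *
          ((g : Matrix ι ι F).map Φ.σ * ((g⁻¹ : GL ι F) : Matrix ι ι F).map Φ.σ)) := by rw [hgm]; simp [mul_assoc]
      _ = ((Φ.gram⁻¹ : GL ι F) : Matrix ι ι F) * ((g : Matrix ι ι F)ᵀ * (Φ.gram : Matrix ι ι F) *
          (g : Matrix ι ι F).map Φ.σ) * ((g⁻¹ : GL ι F) : Matrix ι ι F).map Φ.σ := by simp [mul_assoc]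
      _ = _ := by rw [h, Matrix.mul_smul, ← Units.val_mul, inv_mul_cancel, Units.val_one, Matrix.smul_mul, one_mul]
  rw [adj, h1]
  ext i j
  simp [Φ.invol]

theorem adj_conj [Nonempty ι] {g : GL ι F} (hg : Φ.IsSim g) (a : Matrix ι ι F) :
    Φ.adj (conjHom g a) = conjHom g (Φ.adj a) := by
  obtain ⟨c, hc0, hc⟩ := hg
  have h1 := Φ.adj_of_sim hc
  have h2 : Φ.adj ((g⁻¹ : GL ι F) : Matrix ι ι F) = (Φ.σ c)⁻¹ • (g : Matrix ι ι F) := by
    have h3 := congrArg Φ.adj h1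
    rw [Φ.adj_adj, Φ.adj_smul, Φ.invol] at h3
    have h4 : Φ.adj ((g⁻¹ : GL ι F) : Matrix ι ι F) = c⁻¹ • (g : Matrix ι ι F) := by
      rw [h3, smul_smul, inv_mul_cancel₀ hc0, one_smul]
    have h5 : Φ.adj ((g⁻¹ : GL ι F) : Matrix ι ι F) * Φ.adj (g : Matrix ι ι F) = 1 := by
      rw [← Φ.adj_mul, ← Units.val_mul, mul_inv_cancel, Units.val_one, Φ.adj_one]
    rw [h1, h4, smul_mul_smul_comm, ← Units.val_mul, mul_inv_cancel, Units.val_one] at h5
    have h6 : c⁻¹ * Φ.σ c = 1 := smul_one_inj (ι := ι) (by rw [h5, one_smul])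
    rw [h4, inv_eq_of_mul_eq_one_right (a := Φ.σ c) (b := c⁻¹) (by rw [mul_comm]; exact h6)]
  rw [conjHom_apply, conjHom_apply, Φ.adj_mul, Φ.adj_mul, h1, h2]
  have hσc : Φ.σ c ≠ 0 := (map_ne_zero Φ.σ).mpr hc0
  simp only [Matrix.smul_mul, Matrix.mul_smul, smul_smul, mul_inv_cancel₀ hσc, inv_mul_cancel₀ hσc, one_smul,
    mul_assoc]

theorem adj_mem_alg [Nonempty ι] {L : Subgroup (GL ι F)} (hL : ∀ g ∈ L, Φ.IsSim g) {a : Matrix ι ι F}
    (ha : a ∈ alg L) : Φ.adj a ∈ alg L := by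
  induction ha using Algebra.adjoin_induction with
  | mem y hy =>
    obtain ⟨x, hx, rfl⟩ := hy
    obtain ⟨c, -, hc⟩ := hL x hx
    rw [Φ.adj_of_sim hc]
    exact Subalgebra.smul_mem _ (coe_mem_alg (inv_mem hx)) _
  | algebraMap r =>
    rw [Algebra.algebraMap_eq_smul_one, Φ.adj_smul, Φ.adj_one]
    exact Subalgebra.smul_mem _ (one_mem _) _
  | add a b _ _ ha hb => rw [Φ.adj_add]; exact add_mem ha hb
  | mul a b _ _ ha hb => rw [Φ.adj_mul]; exact mul_mem hb ha

theorem adj_mem_zalg [Nonempty ι] {L : Subgroup (GL ι F)} (hL : ∀ g ∈ L, Φ.IsSim g) {z : Matrix ι ι F}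
    (hz : z ∈ zalg L) : Φ.adj z ∈ zalg L := by
  rw [mem_zalg] at hz ⊢
  refine ⟨Φ.adj_mem_alg hL hz.1, fun a ha => ?_⟩
  conv_lhs => rw [← Φ.adj_adj a]
  conv_rhs => rw [← Φ.adj_adj a]
  rw [← Φ.adj_mul, ← Φ.adj_mul, hz.2 _ (Φ.adj_mem_alg hL ha)]

end FormData

/-! ### Idempotents -/

/-- A finite set of orthogonal idempotents with sum one, permuted transitively by `G`. -/
structure IdemSystem (G : Subgroup (GL ι F)) (S : Finset (Matrix ι ι F)) : Prop where
  idem : ∀ e ∈ S, e * e = e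
  ne_zero : ∀ e ∈ S, e ≠ 0
  orth : ∀ e ∈ S, ∀ f ∈ S, e ≠ f → e * f = 0
  sum : ∑ e ∈ S, e = 1
  perm : ∀ g ∈ G, ∀ e ∈ S, conjHom g e ∈ S
  trans : ∀ e ∈ S, ∀ f ∈ S, ∃ g ∈ G, conjHom g e = f

/-- The subspaces of a system of idempotents. -/
noncomputable def IdemSystem.parts {G : Subgroup (GL ι F)} {S : Finset (Matrix ι ι F)} (_ : IdemSystem G S)
    (i : Fin S.card) : Submodule F (ι → F) :=
  LinearMap.range (Matrix.toLin' (S.equivFin.symm i : Matrix ι ι F))

theorem IdemSystem.decomposition {G : Subgroup (GL ι F)} {S : Finset (Matrix ι ι F)} (h : IdemSystem G S)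
    (h2 : 2 ≤ S.card) :
    ∃ m, Geo.IsMDecomposition m h.parts ∧ G ≤ Geo.decompositionStabilizer h.parts := by
  classical
  let en := S.equivFin.symm
  have hfix : ∀ i v, v ∈ h.parts i → (en i : Matrix ι ι F) *ᵥ v = v := by
    rintro i v ⟨u, rfl⟩
    rw [Matrix.toLin'_apply, Matrix.mulVec_mulVec, h.idem _ (en i).2]
  have hkill : ∀ i j, i ≠ j → ∀ v ∈ h.parts j, (en i : Matrix ι ι F) *ᵥ v = 0 := by
    rintro i j hij v ⟨u, rfl⟩
    rw [Matrix.toLin'_apply, Matrix.mulVec_mulVec,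
      h.orth _ (en i).2 _ (en j).2 (fun e => hij (en.injective (Subtype.ext e))), Matrix.zero_mulVec]
  have hsum : ∑ i, (en i : Matrix ι ι F) = 1 := by
    rw [en.sum_comp (fun e : S => (e : Matrix ι ι F)), Finset.sum_coe_sort S (fun e => e), h.sum]
  have htop : iSup h.parts = ⊤ := by
    refine top_le_iff.mp fun v _ => ?_
    rw [← Matrix.one_mulVec v, ← hsum, Matrix.sum_mulVec]
    exact Submodule.sum_mem _ fun i _ => le_iSup h.parts i ⟨v, Matrix.toLin'_apply _ _⟩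
  have hindep : iSupIndep h.parts := by
    intro i
    rw [disjoint_iff, Submodule.eq_bot_iff]
    rintro v ⟨hv, hv'⟩
    rw [← hfix i v hv]
    have hle : (⨆ (j) (_ : j ≠ i), h.parts j) ≤ LinearMap.ker (Matrix.toLin' (en i : Matrix ι ι F)) :=
      iSup₂_le fun j hj u hu => by simpa using hkill i j (Ne.symm hj) u hu
    simpa using hle hv'
  have himg : ∀ (g : GL ι F) (i : Fin S.card), (h.parts i).map (Matrix.toLin' (g : Matrix ι ι F)) =
      LinearMap.range (Matrix.toLin' (conjHom g (en i : Matrix ι ι F))) := fun g i => by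
    rw [IdemSystem.parts, ← LinearMap.range_comp, ← Matrix.toLin'_mul, conjHom_apply, range_toLin'_mul_gl]
  let i₀ : Fin S.card := ⟨0, by omega⟩
  have hne : ∀ i, h.parts i ≠ ⊥ := fun i hb => h.ne_zero _ (en i).2
    (Matrix.toLin'.map_eq_zero_iff.mp (LinearMap.range_eq_bot.mp hb))
  refine ⟨finrank F (h.parts i₀), ⟨h2, Nat.pos_of_ne_zero fun e => hne i₀ (Submodule.finrank_eq_zero.mp e),
    fun i => ?_, hindep, htop⟩, fun g hg => ?_⟩
  · obtain ⟨g, hg, hge⟩ := h.trans _ (en i₀).2 _ (en i).2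
    have : h.parts i = (h.parts i₀).map (Matrix.toLin' (g : Matrix ι ι F)) := by rw [himg, hge]; rfl
    rw [this]
    exact LinearEquiv.finrank_map_eq (Aschbacher.glEquiv g) _
  · let f : Fin S.card → Fin S.card := fun i => S.equivFin ⟨_, h.perm g hg _ (en i).2⟩
    have hf : Function.Injective f := fun i j hij => by
      have h1 := congrArg (conjHom g⁻¹) (congrArg Subtype.val (S.equivFin.injective hij))
      simp only [conjHom_apply, mul_assoc, inv_inv, Units.inv_mul, mul_one, ← mul_assoc, one_mul] at h1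
      exact en.injective (Subtype.ext (by simpa [mul_assoc] using h1))
    refine ⟨Equiv.ofBijective f (Finite.injective_iff_bijective.mp hf), fun i => ?_⟩
    rw [himg]
    simp [IdemSystem.parts, f, en]

/-- A nontrivial idempotent in a normalised commutative algebra gives a transitive system of primitive ones. -/
theorem exists_atoms [Finite F] {Z : Subalgebra F (Matrix ι ι F)}
    (hcomm : ∀ x ∈ Z, ∀ y ∈ Z, x * y = y * x) {G : Subgroup (GL ι F)} (hG : Irr G)
    (hZG : ∀ g ∈ G, ∀ z ∈ Z, conjHom g z ∈ Z) {e₀ : Matrix ι ι F} (he : e₀ ∈ Z) (hee : e₀ * e₀ = e₀)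
    (h0 : e₀ ≠ 0) (h1 : e₀ ≠ 1) :
    ∃ S : Finset (Matrix ι ι F), IdemSystem G S ∧ 2 ≤ S.card ∧ (∀ e ∈ S, e ∈ Z) ∧
      ∀ e ∈ S, ∀ f ∈ Z, f * f = f → e * f = 0 ∨ e * f = e := by
  classical
  haveI : Finite (Matrix ι ι F) := Pi.finite
  let Idem : Set (Matrix ι ι F) := {e | e ∈ Z ∧ e * e = e ∧ e ≠ 0}
  let rk : Matrix ι ι F → ℕ := fun e => finrank F (LinearMap.range (Matrix.toLin' e))
  obtain ⟨e₁, ⟨he1, he1min⟩⟩ : ∃ e, e ∈ Idem ∧ ∀ f ∈ Idem, rk e ≤ rk f := by
    obtain ⟨e, he', hmin⟩ := Set.exists_min_image Idem rk (Set.toFinite _) ⟨e₀, he, hee, h0⟩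
    exact ⟨e, he', hmin⟩
  let O : Finset (Matrix ι ι F) := (Set.toFinite {e | ∃ g ∈ G, conjHom g e₁ = e}).toFinset
  have hO : ∀ {e}, e ∈ O ↔ ∃ g ∈ G, conjHom g e₁ = e := fun {e} => by simp [O]
  have hOI : ∀ e ∈ O, e ∈ Idem ∧ rk e = rk e₁ := by
    intro e he'
    obtain ⟨g, hg, rfl⟩ := hO.mp he'
    refine ⟨⟨hZG g hg _ he1.1, by rw [← map_mul, he1.2.1], fun h => he1.2.2 ?_⟩, ?_⟩
    · have := congrArg (conjHom g⁻¹) h
      simpa [conjHom_apply, mul_assoc] using this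
    · show finrank F _ = finrank F _
      rw [conjHom_apply, range_toLin'_mul_gl, Matrix.toLin'_mul, LinearMap.range_comp]
      exact LinearEquiv.finrank_map_eq (Aschbacher.glEquiv g) _
  have hatom : ∀ e ∈ O, ∀ f ∈ Z, f * f = f → e * f = 0 ∨ e * f = e := by
    intro e he' f hfZ hff
    refine or_iff_not_imp_left.mpr fun hef => ?_
    obtain ⟨⟨heZ, hee', -⟩, hre⟩ := hOI e he'
    have hidem : e * f ∈ Idem := ⟨mul_mem heZ hfZ, by
      rw [show e * f * (e * f) = e * (f * e) * f by simp [mul_assoc], hcomm f hfZ e heZ,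
        show e * (e * f) * f = (e * e) * (f * f) by simp [mul_assoc], hee', hff], hef⟩
    have hle : LinearMap.range (Matrix.toLin' (e * f)) ≤ LinearMap.range (Matrix.toLin' e) := by
      rw [Matrix.toLin'_mul]
      exact LinearMap.range_comp_le_range _ _
    have heq := Submodule.eq_of_le_of_finrank_le hle (by
      show rk e ≤ rk (e * f)
      rw [hre]
      exact he1min _ hidem)
    refine Matrix.ext_of_mulVec_single fun i => ?_
    obtain ⟨w, hw⟩ : e *ᵥ Pi.single i 1 ∈ LinearMap.range (Matrix.toLin' (e * f)) :=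
      heq ▸ ⟨_, Matrix.toLin'_apply _ _⟩
    rw [Matrix.toLin'_apply] at hw
    calc (e * f) *ᵥ Pi.single i 1 = (e * f * e) *ᵥ Pi.single i 1 := by
          rw [mul_assoc, hcomm f hfZ e heZ, ← mul_assoc, hee']
      _ = e *ᵥ Pi.single i 1 := by
          rw [← Matrix.mulVec_mulVec, ← hw, Matrix.mulVec_mulVec, hidem.2.1]
  have horth : ∀ e ∈ O, ∀ f ∈ O, e ≠ f → e * f = 0 := by
    intro e he' f hf' hne
    rcases hatom e he' f (hOI f hf').1.1 (hOI f hf').1.2.1 with h | h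
    · exact h
    rcases hatom f hf' e (hOI e he').1.1 (hOI e he').1.2.1 with h' | h'
    · rwa [hcomm f (hOI f hf').1.1 e (hOI e he').1.1] at h'
    · rw [hcomm f (hOI f hf').1.1 e (hOI e he').1.1, h] at h'
      exact absurd h' hne
  have he1O : e₁ ∈ O := hO.mpr ⟨1, one_mem _, by simp [conjHom_apply]⟩
  have hperm : ∀ g ∈ G, ∀ e ∈ O, conjHom g e ∈ O := by
    intro g hg e he'
    obtain ⟨g', hg', rfl⟩ := hO.mp he'
    exact hO.mpr ⟨g * g', mul_mem hg hg', by simp [conjHom_apply, mul_assoc]⟩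
  have hsum : ∑ e ∈ O, e = 1 := by
    let K : Submodule F (ι → F) := LinearMap.ker (Matrix.toLin' (1 - ∑ e ∈ O, e))
    have hK : ∀ v, v ∈ K ↔ (∑ e ∈ O, e) *ᵥ v = v := fun v => by
      simp [K, Matrix.sub_mulVec, sub_eq_zero, eq_comm, Matrix.sum_mulVec]
    have hinv : Inv G K := by
      intro g hg v hv
      rw [hK] at hv ⊢
      have h2 : conjHom g (∑ e ∈ O, e) = ∑ e ∈ O, e := by
        rw [map_sum]
        refine Finset.sum_bij (fun e _ => conjHom g e) (fun e he' => hperm g hg e he') ?_ ?_ fun e _ => rfl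
        · intro a _ b _ h
          have := congrArg (conjHom g⁻¹) h
          simpa [conjHom_apply, mul_assoc] using this
        · intro b hb
          exact ⟨conjHom g⁻¹ b, hperm _ (inv_mem hg) b hb, conjHom_conjHom_inv g b⟩
      rw [← h2, conjHom_apply, Matrix.mulVec_mulVec, mul_assoc, ← Units.val_mul, inv_mul_cancel, Units.val_one,
        mul_one, ← Matrix.mulVec_mulVec, hv]
    have hmem : ∀ u, e₁ *ᵥ u ∈ K := fun u => by
      rw [hK, Matrix.mulVec_mulVec, Finset.sum_mul, Finset.sum_eq_single e₁]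
      · rw [he1.2.1]
      · exact fun e he' hne => horth e he' e₁ he1O hne
      · exact fun h => absurd he1O h
    have htop := (hG K hinv).resolve_left fun hb => he1.2.2 (Matrix.ext_of_mulVec_single fun i => by
      rw [Matrix.zero_mulVec]; exact (Submodule.eq_bot_iff K).mp hb _ (hmem _))
    refine Matrix.ext_of_mulVec_single fun i => ?_
    rw [Matrix.one_mulVec]
    exact (hK _).mp (htop ▸ Submodule.mem_top)
  refine ⟨O, ⟨fun e he' => (hOI e he').1.2.1, fun e he' => (hOI e he').1.2.2, horth, hsum, hperm,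
    fun e he' f hf' => ?_⟩, ?_, fun e he' => (hOI e he').1.1, hatom⟩
  · obtain ⟨g, hg, rfl⟩ := hO.mp he'
    obtain ⟨g', hg', rfl⟩ := hO.mp hf'
    exact ⟨g' * g⁻¹, mul_mem hg' (inv_mem hg), by simp [conjHom_apply, mul_assoc]⟩
  · by_contra hlt
    have h1' : O = {e₁} := by
      refine (Finset.eq_singleton_iff_unique_mem).mpr ⟨he1O, fun e he' => ?_⟩
      by_contra hne
      exact hlt (Finset.one_lt_card.mpr ⟨e, he', e₁, he1O, hne⟩)
    rw [h1', Finset.sum_singleton] at hsum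
    rcases hatom e₁ he1O e₀ he hee with h | h <;> rw [hsum, one_mul] at h
    · exact h0 h
    · exact h1 h

namespace FormData

variable (Φ : FormData ι F) [Finite F] [Nonempty ι]

/-- Imprimitivity compatible with a form. -/
theorem decomp_of_idempotent {Z : Subalgebra F (Matrix ι ι F)}
    (hcomm : ∀ x ∈ Z, ∀ y ∈ Z, x * y = y * x) (hadj : ∀ z ∈ Z, Φ.adj z ∈ Z) {G : Subgroup (GL ι F)}
    (hG : Irr G) (hsim : ∀ g ∈ G, Φ.IsSim g)
    (hZG : ∀ g ∈ G, ∀ z ∈ Z, conjHom g z ∈ Z) {e₀ : Matrix ι ι F} (he : e₀ ∈ Z) (hee : e₀ * e₀ = e₀)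
    (h0 : e₀ ≠ 0) (h1 : e₀ ≠ 1) :
    (∃ (t m : ℕ) (D : Fin t → Submodule F (ι → F)), Geo.IsNondegenerateMDecomposition Φ.form m D ∧
      G ≤ Geo.decompositionStabilizer D) ∨
    (∃ (m : ℕ) (D : Fin 2 → Submodule F (ι → F)), Geo.IsMDecomposition m D ∧
      (∀ i, Geo.IsTotallySingularFor Φ.form (D i)) ∧ G ≤ Geo.decompositionStabilizer D ∧
      ∃ a ∈ Z, a + Φ.adj a = 1 ∧ ∀ g ∈ G, conjHom g a = a ∨ conjHom g a = Φ.adj a) := by
  classical
  obtain ⟨S, hS, hS2, hSZ, hatom⟩ := exists_atoms hcomm hG hZG he hee h0 h1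
  have hadjidem : ∀ e ∈ S, Φ.adj e * Φ.adj e = Φ.adj e := fun e he' => by rw [← Φ.adj_mul, hS.idem e he']
  have hmem : ∀ e ∈ S, Φ.adj e ∈ S := by
    intro e he'
    obtain ⟨f, hf, hne⟩ : ∃ f ∈ S, f * Φ.adj e ≠ 0 := by
      by_contra hcon
      push Not at hcon
      have h2 : Φ.adj e = 0 := by
        rw [← one_mul (Φ.adj e), ← hS.sum, Finset.sum_mul, Finset.sum_eq_zero hcon]
      exact hS.ne_zero e he' (by rw [← Φ.adj_adj e, h2, Φ.adj_zero])
    have hf' := (hatom f hf _ (hadj e (hSZ e he')) (hadjidem e he')).resolve_left hne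
    have hef : e * Φ.adj f = Φ.adj f := by
      have := congrArg Φ.adj hf'
      rwa [Φ.adj_mul, Φ.adj_adj] at this
    rcases hatom e he' _ (hadj f (hSZ f hf)) (hadjidem f hf) with h' | h'
    · rw [hef] at h'
      exact absurd (by rw [← Φ.adj_adj f, h', Φ.adj_zero]) (hS.ne_zero f hf)
    · rw [hef] at h'
      rw [← h', Φ.adj_adj]
      exact hf
  have hform : ∀ a b : Matrix ι ι F, Φ.adj a * b = 0 → ∀ u v, Φ.form (a *ᵥ u) (b *ᵥ v) = 0 := by
    intro a b hab u v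
    rw [Φ.form_adj, Matrix.mulVec_mulVec, hab, Matrix.zero_mulVec, FormData.form]
    rw [show (fun i => Φ.σ ((0 : ι → F) i)) = 0 from funext fun i => map_zero _, Matrix.mulVec_zero, dotProduct_zero]
  have hnd : ∀ w : ι → F, w ≠ 0 → (∃ x, Φ.form x w ≠ 0) ∧ ∃ x, Φ.form w x ≠ 0 := by
    intro w hw
    constructor
    · by_contra hcon
      push Not at hcon
      have h2 : (Φ.gram : Matrix ι ι F) *ᵥ (fun i => Φ.σ (w i)) = 0 := funext fun i => by
        simpa [FormData.form] using hcon (Pi.single i 1)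
      have h3 := Aschbacher.mulVec_gl_inj Φ.gram (a₁ := fun i => Φ.σ (w i)) (a₂ := 0) (by simpa using h2)
      exact hw (funext fun i => (map_eq_zero Φ.σ).mp (congrFun h3 i))
    · by_contra hcon
      push Not at hcon
      have h2 : ((Φ.gram : Matrix ι ι F)ᵀ) *ᵥ w = 0 := funext fun i => by
        have h4 := hcon (Pi.single i 1)
        rw [FormData.form, Aschbacher.single_comp, Matrix.dotProduct_mulVec, ← Matrix.mulVec_transpose,
          dotProduct_single, mul_one] at h4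
        exact h4
      refine hw (Matrix.mulVec_injective_iff_isUnit.mpr
        ((Matrix.isUnit_transpose (A := (Φ.gram : Matrix ι ι F))).mpr Φ.gram.isUnit) ?_)
      show _ = (Φ.gram : Matrix ι ι F)ᵀ *ᵥ 0
      rw [h2, Matrix.mulVec_zero]
  -- a system of self-adjoint idempotents gives a non-degenerate decomposition
  have hself : ∀ (T : Finset (Matrix ι ι F)) (hT : IdemSystem G T), 2 ≤ T.card → (∀ e ∈ T, Φ.adj e = e) →
      ∃ (t m : ℕ) (D : Fin t → Submodule F (ι → F)), Geo.IsNondegenerateMDecomposition Φ.form m D ∧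
        G ≤ Geo.decompositionStabilizer D := by
    intro T hT hT2 hTadj
    obtain ⟨m, hm, hle⟩ := hT.decomposition hT2
    refine ⟨_, m, hT.parts, ⟨hm, fun i => ?_, fun i j hij => ?_⟩, hle⟩
    · rintro w ⟨u, hu⟩ hw0
      rw [Matrix.toLin'_apply] at hu
      set e := (T.equivFin.symm i : Matrix ι ι F)
      have hee' : e * e = e := hT.idem _ (T.equivFin.symm i).2
      have hea : Φ.adj e = e := hTadj _ (T.equivFin.symm i).2
      have hew : e *ᵥ w = w := by rw [← hu, Matrix.mulVec_mulVec, hee']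
      obtain ⟨⟨x, hx⟩, ⟨y, hy⟩⟩ := hnd w hw0
      refine ⟨⟨e *ᵥ x, ⟨x, Matrix.toLin'_apply _ _⟩, ?_⟩, ⟨e *ᵥ y, ⟨y, Matrix.toLin'_apply _ _⟩, ?_⟩⟩
      · rwa [Φ.form_adj, hea, hew]
      · rwa [show Φ.form w (e *ᵥ y) = Φ.form (e *ᵥ w) y by rw [Φ.form_adj, hea], hew]
    · rintro u ⟨a, rfl⟩ v ⟨b, rfl⟩
      rw [Matrix.toLin'_apply, Matrix.toLin'_apply]
      refine hform _ _ ?_ a b
      rw [hTadj _ (T.equivFin.symm i).2]
      exact hT.orth _ (T.equivFin.symm i).2 _ (T.equivFin.symm j).2 fun e => hij (T.equivFin.symm.injective (Subtype.ext e))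
  by_cases hfix : ∀ e ∈ S, Φ.adj e = e
  · exact Or.inl (hself S hS hS2 hfix)
  push Not at hfix
  obtain ⟨a, ha, hane⟩ := hfix
  have hmoved : ∀ e ∈ S, Φ.adj e ≠ e := by
    intro e he' hfixe
    obtain ⟨g, hg, hge⟩ := hS.trans e he' a ha
    exact hane (by rw [← hge, Φ.adj_conj (hsim g hg), hfixe])
  let P : Matrix ι ι F → Matrix ι ι F := fun e => e + Φ.adj e
  by_cases h2' : S.card = 2
  · right
    obtain ⟨m, hm, hle⟩ := hS.decomposition hS2
    have hcast : ∃ D : Fin 2 → Submodule F (ι → F), Geo.IsMDecomposition m D ∧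
        (∀ i, Geo.IsTotallySingularFor Φ.form (D i)) ∧ G ≤ Geo.decompositionStabilizer D := by
      have hsing : ∀ i, Geo.IsTotallySingularFor Φ.form (hS.parts i) := by
        rintro i u ⟨x, rfl⟩ v ⟨y, rfl⟩
        rw [Matrix.toLin'_apply, Matrix.toLin'_apply]
        exact hform _ _ (hS.orth _ (hmem _ (S.equivFin.symm i).2) _ (S.equivFin.symm i).2
          (hmoved _ (S.equivFin.symm i).2)) x y
      generalize hS.parts = D at hm hle hsing
      revert D
      rw [h2']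
      exact fun D hm hle hsing => ⟨D, hm, hsing, hle⟩
    obtain ⟨D, hD1, hD2, hD3⟩ := hcast
    have hSeq : S = {a, Φ.adj a} := by
      refine (Finset.eq_of_subset_of_card_le ?_ ?_).symm
      · simp [Finset.insert_subset_iff, ha, hmem a ha]
      · rw [h2', Finset.card_pair (hane.symm)]
    refine ⟨m, D, hD1, hD2, hD3, a, hSZ a ha, ?_, fun g hg => ?_⟩
    · have h7 := hS.sum
      rwa [hSeq, Finset.sum_pair (hane.symm)] at h7
    · simpa [hSeq] using hS.perm g hg a ha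
  left
  have hP2 : ∀ e ∈ S, ∀ f ∈ S, P e = P f ∨ P e * P f = 0 := by
    intro e he' f hf
    rcases eq_or_ne e f with rfl | hne
    · exact Or.inl rfl
    rcases eq_or_ne (Φ.adj e) f with h' | h'
    · left; show e + Φ.adj e = f + Φ.adj f; rw [← h', Φ.adj_adj, add_comm]
    right
    show (e + Φ.adj e) * (f + Φ.adj f) = 0
    have h3 : e ≠ Φ.adj f := fun h => h' (by rw [h, Φ.adj_adj])
    have h4 : Φ.adj e ≠ Φ.adj f := fun h => hne (by rw [← Φ.adj_adj e, h, Φ.adj_adj])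
    simp only [add_mul, mul_add, hS.orth e he' f hf hne, hS.orth e he' _ (hmem f hf) h3,
      hS.orth _ (hmem e he') f hf h', hS.orth _ (hmem e he') _ (hmem f hf) h4, add_zero]
  have hPi : ∀ e ∈ S, P e * P e = P e := fun e he' => by
    show (e + Φ.adj e) * (e + Φ.adj e) = e + Φ.adj e
    simp only [add_mul, mul_add, hS.idem e he', hadjidem e he', hS.orth e he' _ (hmem e he') (hmoved e he').symm,
      hS.orth _ (hmem e he') e he' (hmoved e he'), add_zero, zero_add]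
  have hP0 : ∀ e ∈ S, P e ≠ 0 := fun e he' h => hS.ne_zero e he' (by
    have := congrArg (e * ·) h
    simpa [P, mul_add, hS.idem e he', hS.orth e he' _ (hmem e he') (hmoved e he').symm] using this)
  have hsys : IdemSystem G (S.image P) := by
    refine ⟨fun x hx => ?_, fun x hx => ?_, fun x hx y hy hne => ?_, ?_, fun g hg x hx => ?_, fun x hx y hy => ?_⟩
    · obtain ⟨e, he', rfl⟩ := Finset.mem_image.mp hx; exact hPi e he'
    · obtain ⟨e, he', rfl⟩ := Finset.mem_image.mp hx; exact hP0 e he'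
    · obtain ⟨e, he', rfl⟩ := Finset.mem_image.mp hx
      obtain ⟨f, hf, rfl⟩ := Finset.mem_image.mp hy
      exact (hP2 e he' f hf).resolve_left hne
    · refine Matrix.ext_of_mulVec_single fun i => ?_
      set W := ∑ x ∈ S.image P, x
      have hWe : ∀ e ∈ S, W * e = e := by
        intro e he'
        rw [Finset.sum_mul, Finset.sum_eq_single (P e)]
        · show (e + Φ.adj e) * e = e
          rw [add_mul, hS.idem e he', hS.orth _ (hmem e he') e he' (hmoved e he'), add_zero]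
        · intro x hx hne
          obtain ⟨f, hf, rfl⟩ := Finset.mem_image.mp hx
          have hz := (hP2 f hf e he').resolve_left hne
          have h5 : P e * e = e := by
            show (e + Φ.adj e) * e = e
            rw [add_mul, hS.idem e he', hS.orth _ (hmem e he') e he' (hmoved e he'), add_zero]
          rw [← h5, ← mul_assoc, hz, zero_mul]
        · exact fun h => absurd (Finset.mem_image_of_mem P he') h
      have hW1 : W = 1 := by
        rw [← mul_one W, ← hS.sum, Finset.mul_sum, Finset.sum_congr rfl hWe]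
      rw [hW1]
    · obtain ⟨e, he', rfl⟩ := Finset.mem_image.mp hx
      exact Finset.mem_image.mpr ⟨conjHom g e, hS.perm g hg e he', by
        show _ + _ = conjHom g (e + Φ.adj e)
        rw [map_add, Φ.adj_conj (hsim g hg)]⟩
    · obtain ⟨e, he', rfl⟩ := Finset.mem_image.mp hx
      obtain ⟨f, hf, rfl⟩ := Finset.mem_image.mp hy
      obtain ⟨g, hg, hge⟩ := hS.trans e he' f hf
      exact ⟨g, hg, by show conjHom g (e + Φ.adj e) = f + Φ.adj f; rw [map_add, ← Φ.adj_conj (hsim g hg), hge]⟩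
  refine hself _ hsys ?_ fun x hx => ?_
  · obtain ⟨b, hb, hb1, hb2⟩ : ∃ b ∈ S, b ≠ a ∧ b ≠ Φ.adj a := by
      by_contra hcon
      push Not at hcon
      have hsub : S ⊆ {a, Φ.adj a} := fun x hx => by
        by_cases hxa : x = a
        · simp [hxa]
        · simp [hcon x hx hxa]
      have := (Finset.card_le_card hsub).trans Finset.card_le_two
      omega
    refine Finset.one_lt_card.mpr ⟨P a, Finset.mem_image_of_mem P ha, P b, Finset.mem_image_of_mem P hb, fun h => ?_⟩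
    have h6 := congrArg (· * b) h
    simp only [P, add_mul, hS.orth a ha b hb hb1.symm, hS.orth _ (hmem a ha) b hb hb2.symm, hS.idem b hb,
      hS.orth _ (hmem b hb) b hb (hmoved b hb), add_zero] at h6
    exact hS.ne_zero b hb h6.symm
  · obtain ⟨e, -, rfl⟩ := Finset.mem_image.mp hx
    show Φ.adj (e + Φ.adj e) = e + Φ.adj e
    rw [Φ.adj_add, Φ.adj_adj, add_comm]

end FormData

/-! ### Kronecker factorisation -/

theorem kronecker_eq_imp {d k : ℕ} {A C : Matrix (Fin d) (Fin d) F} {B D : Matrix (Fin k) (Fin k) F}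
    (h : A ⊗ₖ B = C ⊗ₖ D) (hB : B ≠ 0) : ∃ c : F, A = c • C := by
  obtain ⟨i, j, hij⟩ : ∃ i j, B i j ≠ 0 := by
    by_contra hcon
    push Not at hcon
    exact hB (Matrix.ext hcon)
  refine ⟨(B i j)⁻¹ * D i j, Matrix.ext fun a b => ?_⟩
  have h1 := congrFun (congrFun h (a, i)) (b, j)
  simp only [Matrix.kroneckerMap_apply] at h1
  rw [Matrix.smul_apply, smul_eq_mul, mul_assoc, mul_comm (D i j), ← h1]
  field_simp

namespace FormData

/-- The form in the coordinates of a basis change. -/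
noncomputable def transport (Φ : FormData ι F) {κ : Type} [Fintype κ] [DecidableEq κ] (e : ι ≃ κ) (P : GL ι F) :
    FormData κ F where
  σ := Φ.σ
  ε := Φ.ε
  invol := Φ.invol
  gram := Geo.glReindex e
    { val := (P : Matrix ι ι F)ᵀ * (Φ.gram : Matrix ι ι F) * (P : Matrix ι ι F).map Φ.σ
      inv := ((P⁻¹ : GL ι F) : Matrix ι ι F).map Φ.σ * ((Φ.gram⁻¹ : GL ι F) : Matrix ι ι F) *
        ((P⁻¹ : GL ι F) : Matrix ι ι F)ᵀ
      val_inv := by
        have h1 : (P : Matrix ι ι F).map Φ.σ * ((P⁻¹ : GL ι F) : Matrix ι ι F).map Φ.σ = 1 := by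
          rw [← Matrix.map_mul, ← Units.val_mul, mul_inv_cancel, Units.val_one]
          exact Matrix.map_one _ (map_zero _) (map_one _)
        calc (P : Matrix ι ι F)ᵀ * (Φ.gram : Matrix ι ι F) * (P : Matrix ι ι F).map Φ.σ *
              (((P⁻¹ : GL ι F) : Matrix ι ι F).map Φ.σ * ((Φ.gram⁻¹ : GL ι F) : Matrix ι ι F) *
                ((P⁻¹ : GL ι F) : Matrix ι ι F)ᵀ)
            = (P : Matrix ι ι F)ᵀ * ((Φ.gram : Matrix ι ι F) * ((P : Matrix ι ι F).map Φ.σ *
                ((P⁻¹ : GL ι F) : Matrix ι ι F).map Φ.σ) * ((Φ.gram⁻¹ : GL ι F) : Matrix ι ι F)) *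
                ((P⁻¹ : GL ι F) : Matrix ι ι F)ᵀ := by simp only [mul_assoc]
          _ = 1 := by
            rw [h1, mul_one, ← Units.val_mul, mul_inv_cancel, Units.val_one, mul_one, ← Matrix.transpose_mul,
              ← Units.val_mul, inv_mul_cancel, Units.val_one, Matrix.transpose_one]
      inv_val := by
        have h1 : ((P⁻¹ : GL ι F) : Matrix ι ι F)ᵀ * (P : Matrix ι ι F)ᵀ = 1 := by
          rw [← Matrix.transpose_mul, ← Units.val_mul, mul_inv_cancel, Units.val_one, Matrix.transpose_one]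
        calc ((P⁻¹ : GL ι F) : Matrix ι ι F).map Φ.σ * ((Φ.gram⁻¹ : GL ι F) : Matrix ι ι F) *
              ((P⁻¹ : GL ι F) : Matrix ι ι F)ᵀ *
              ((P : Matrix ι ι F)ᵀ * (Φ.gram : Matrix ι ι F) * (P : Matrix ι ι F).map Φ.σ)
            = ((P⁻¹ : GL ι F) : Matrix ι ι F).map Φ.σ * (((Φ.gram⁻¹ : GL ι F) : Matrix ι ι F) *
                (((P⁻¹ : GL ι F) : Matrix ι ι F)ᵀ * (P : Matrix ι ι F)ᵀ) * (Φ.gram : Matrix ι ι F)) *
                (P : Matrix ι ι F).map Φ.σ := by simp only [mul_assoc]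
          _ = 1 := by
            rw [h1, mul_one, ← Units.val_mul, inv_mul_cancel, Units.val_one, mul_one, ← Matrix.map_mul,
              ← Units.val_mul, inv_mul_cancel, Units.val_one]
            exact Matrix.map_one _ (map_zero _) (map_one _) }
  herm := by
    show (Matrix.reindexAlgEquiv F F e ((P : Matrix ι ι F)ᵀ * (Φ.gram : Matrix ι ι F) *
        (P : Matrix ι ι F).map Φ.σ))ᵀ.map Φ.σ = Φ.ε • Matrix.reindexAlgEquiv F F e ((P : Matrix ι ι F)ᵀ *
          (Φ.gram : Matrix ι ι F) * (P : Matrix ι ι F).map Φ.σ)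
    ext a b
    have h := congrFun (congrFun (show (((P : Matrix ι ι F)ᵀ * (Φ.gram : Matrix ι ι F) *
        (P : Matrix ι ι F).map Φ.σ)ᵀ).map Φ.σ =
        Φ.ε • ((P : Matrix ι ι F)ᵀ * (Φ.gram : Matrix ι ι F) * (P : Matrix ι ι F).map Φ.σ) by
      rw [Matrix.transpose_mul, Matrix.transpose_mul, Matrix.transpose_transpose, Matrix.map_mul, Matrix.map_mul,
        ← Matrix.transpose_map, Φ.map_map, Φ.herm, Matrix.smul_mul, Matrix.mul_smul, mul_assoc]) (e.symm a)) (e.symm b)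
    simpa using h

theorem transport_gram (Φ : FormData ι F) {κ : Type} [Fintype κ] [DecidableEq κ] (e : ι ≃ κ) (P : GL ι F) :
    ((Φ.transport e P).gram : Matrix κ κ F) = Matrix.reindexAlgEquiv F F e
      ((P : Matrix ι ι F)ᵀ * (Φ.gram : Matrix ι ι F) * (P : Matrix ι ι F).map Φ.σ) := rfl

theorem transport_form (Φ : FormData ι F) {κ : Type} [Fintype κ] [DecidableEq κ] (e : ι ≃ κ) (P : GL ι F)
    (x y : κ → F) : Φ.form ((P : Matrix ι ι F) *ᵥ (x ∘ e)) ((P : Matrix ι ι F) *ᵥ (y ∘ e)) =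
      (Φ.transport e P).form x y := by
  have h1 := Φ.isGram.comp (P : Matrix ι ι F) (x ∘ e) (y ∘ e)
  refine h1.trans ?_
  set N := (P : Matrix ι ι F)ᵀ * (Φ.gram : Matrix ι ι F) * (P : Matrix ι ι F).map Φ.σ with hN
  rw [FormData.form, transport_gram, ← hN]
  simp only [dotProduct, Matrix.mulVec, Matrix.reindexAlgEquiv_apply, Matrix.reindex_apply, Matrix.submatrix_apply,
    Function.comp_apply]
  rw [← e.symm.sum_comp]
  refine Finset.sum_congr rfl fun a _ => ?_
  rw [Equiv.apply_symm_apply, ← e.symm.sum_comp]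
  simp only [Equiv.apply_symm_apply]
  rfl

theorem tr_map {κ : Type} [Fintype κ] [DecidableEq κ] (e : ι ≃ κ) (σ : F →+* F) (X : Matrix κ κ F) :
    (Matrix.reindexAlgEquiv F F e.symm X).map σ = Matrix.reindexAlgEquiv F F e.symm (X.map σ) := rfl

theorem transport_sim (Φ : FormData ι F) {κ : Type} [Fintype κ] [DecidableEq κ] (e : ι ≃ κ) (P : GL ι F)
    {g : GL ι F} {h : GL κ F} (hgh : (g : Matrix ι ι F) = tr e P (h : Matrix κ κ F)) {c : F}
    (hc : (g : Matrix ι ι F)ᵀ * (Φ.gram : Matrix ι ι F) * (g : Matrix ι ι F).map Φ.σ = c • (Φ.gram : Matrix ι ι F)) :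
    (h : Matrix κ κ F)ᵀ * ((Φ.transport e P).gram : Matrix κ κ F) * (h : Matrix κ κ F).map Φ.σ =
      c • ((Φ.transport e P).gram : Matrix κ κ F) := by
  set X := Matrix.reindexAlgEquiv F F e.symm (h : Matrix κ κ F) with hX
  set N := (P : Matrix ι ι F)ᵀ * (Φ.gram : Matrix ι ι F) * (P : Matrix ι ι F).map Φ.σ with hN
  have hgP : (g : Matrix ι ι F) * (P : Matrix ι ι F) = (P : Matrix ι ι F) * X := by
    rw [hgh, tr_apply, mul_assoc, ← Units.val_mul, inv_mul_cancel, Units.val_one, mul_one]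
  have hkey : Xᵀ * N * X.map Φ.σ = c • N := by
    calc Xᵀ * N * X.map Φ.σ = ((P : Matrix ι ι F) * X)ᵀ * (Φ.gram : Matrix ι ι F) * ((P : Matrix ι ι F) * X).map Φ.σ := by
          rw [Matrix.transpose_mul, Matrix.map_mul, hN]; simp [mul_assoc]
      _ = ((g : Matrix ι ι F) * (P : Matrix ι ι F))ᵀ * (Φ.gram : Matrix ι ι F) *
            ((g : Matrix ι ι F) * (P : Matrix ι ι F)).map Φ.σ := by rw [hgP]
      _ = (P : Matrix ι ι F)ᵀ * ((g : Matrix ι ι F)ᵀ * (Φ.gram : Matrix ι ι F) * (g : Matrix ι ι F).map Φ.σ) *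
            (P : Matrix ι ι F).map Φ.σ := by rw [Matrix.transpose_mul, Matrix.map_mul]; simp [mul_assoc]
      _ = c • N := by rw [hc, Matrix.mul_smul, Matrix.smul_mul, hN]
  apply (Matrix.reindexAlgEquiv F F e.symm).injective
  have hG : Matrix.reindexAlgEquiv F F e.symm ((Φ.transport e P).gram : Matrix κ κ F) = N := by
    rw [transport_gram, ← hN]; ext i j; simp
  have hXT : Matrix.reindexAlgEquiv F F e.symm (h : Matrix κ κ F)ᵀ = Xᵀ := by rw [hX]; ext i j; simp
  rw [map_mul, map_mul, map_smul, hG, hXT, ← tr_map, ← hX]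
  exact hkey

theorem transport_isSim (Φ : FormData ι F) {κ : Type} [Fintype κ] [DecidableEq κ] (e : ι ≃ κ) (P : GL ι F)
    {g : GL ι F} {h : GL κ F} (hgh : (g : Matrix ι ι F) = tr e P (h : Matrix κ κ F)) (hg : Φ.IsSim g) :
    (Φ.transport e P).IsSim h := by
  obtain ⟨c, hc0, hc⟩ := hg
  exact ⟨c, hc0, Φ.transport_sim e P hgh hc⟩

theorem transport_adj (Φ : FormData ι F) {κ : Type} [Fintype κ] [DecidableEq κ] (e : ι ≃ κ) (P : GL ι F)
    (X : Matrix κ κ F) : tr e P ((Φ.transport e P).adj X) = Φ.adj (tr e P X) := by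
  set R := Matrix.reindexAlgEquiv F F e.symm with hR
  set N := (P : Matrix ι ι F)ᵀ * (Φ.gram : Matrix ι ι F) * (P : Matrix ι ι F).map Φ.σ with hN
  have hG : R ((Φ.transport e P).gram : Matrix κ κ F) = N := by
    rw [transport_gram, ← hN]; ext i j; simp [hR]
  have hGi : R (((Φ.transport e P).gram⁻¹ : GL κ F) : Matrix κ κ F) =
      ((P⁻¹ : GL ι F) : Matrix ι ι F).map Φ.σ * ((Φ.gram⁻¹ : GL ι F) : Matrix ι ι F) *
        ((P⁻¹ : GL ι F) : Matrix ι ι F)ᵀ := by
    show R (Matrix.reindexAlgEquiv F F e _) = _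
    rw [hR]
    ext i j
    simp only [Matrix.coe_reindexAlgEquiv, Matrix.reindex_apply, Matrix.submatrix_apply, Equiv.symm_symm,
      Equiv.symm_apply_apply]
  have hXT : R Xᵀ = (R X)ᵀ := by ext i j; simp [hR]
  have key : R ((Φ.transport e P).adj X) =
      (((P⁻¹ : GL ι F) : Matrix ι ι F).map Φ.σ * (((Φ.gram⁻¹ : GL ι F) : Matrix ι ι F) *
        (tr e P X)ᵀ * (Φ.gram : Matrix ι ι F)) * (P : Matrix ι ι F).map Φ.σ).map Φ.σ := by
    rw [FormData.adj, show (Φ.transport e P).σ = Φ.σ from rfl, ← tr_map, map_mul, map_mul, hG, hGi, hXT, hN,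
      tr_apply, Matrix.transpose_mul, Matrix.transpose_mul]
    simp [mul_assoc]
    rfl
  rw [tr_apply, key, Matrix.map_mul, Matrix.map_mul, Φ.map_map, Φ.map_map]
  calc (P : Matrix ι ι F) * (((P⁻¹ : GL ι F) : Matrix ι ι F) * Φ.adj (tr e P X) * (P : Matrix ι ι F)) *
        ((P⁻¹ : GL ι F) : Matrix ι ι F)
      = ((P : Matrix ι ι F) * ((P⁻¹ : GL ι F) : Matrix ι ι F)) * Φ.adj (tr e P X) *
          ((P : Matrix ι ι F) * ((P⁻¹ : GL ι F) : Matrix ι ι F)) := by simp only [mul_assoc]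
    _ = _ := by rw [← Units.val_mul, mul_inv_cancel, Units.val_one, one_mul, mul_one]

/-- In coordinates where a self-adjoint factor algebra is `M_d ⊗ 1`, the Gram matrix is a Kronecker product. -/
theorem exists_gram_factor {d k : ℕ} (hd : 0 < d) (hk : 0 < k) (Φ : FormData (Fin d × Fin k) F)
    (hA : ∀ M : Matrix (Fin d) (Fin d) F, ∃ M', Φ.adj (M ⊗ₖ (1 : Matrix (Fin k) (Fin k) F)) =
      M' ⊗ₖ (1 : Matrix (Fin k) (Fin k) F)) :
    ∃ (G₁ : GL (Fin d) F) (G₂ : GL (Fin k) F),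
      (Φ.gram : Matrix (Fin d × Fin k) (Fin d × Fin k) F) = (G₁ : Matrix (Fin d) (Fin d) F) ⊗ₖ (G₂ : Matrix (Fin k) (Fin k) F) := by
  haveI : Nonempty (Fin d) := ⟨⟨0, hd⟩⟩
  haveI : Nonempty (Fin k) := ⟨⟨0, hk⟩⟩
  choose τ hτ using hA
  have hinj : ∀ {A B : Matrix (Fin d) (Fin d) F},
      A ⊗ₖ (1 : Matrix (Fin k) (Fin k) F) = B ⊗ₖ (1 : Matrix (Fin k) (Fin k) F) → A = B := fun {A B} h => by
    ext a b
    have := congrFun (congrFun h (a, ⟨0, hk⟩)) (b, ⟨0, hk⟩)
    simpa using this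
  have hkr : ∀ A B : Matrix (Fin d) (Fin d) F, (A + B) ⊗ₖ (1 : Matrix (Fin k) (Fin k) F) =
      A ⊗ₖ (1 : Matrix (Fin k) (Fin k) F) + B ⊗ₖ (1 : Matrix (Fin k) (Fin k) F) := fun A B => Matrix.add_kronecker A B _
  let ψ : Matrix (Fin d) (Fin d) F →ₐ[F] Matrix (Fin d) (Fin d) F :=
    AlgHom.ofLinearMap
      { toFun := fun M => τ (Mᵀ.map Φ.σ)
        map_add' := fun A B => hinj (by
          rw [hkr, ← hτ, ← hτ, ← hτ, Matrix.transpose_add, Matrix.map_add _ (map_add Φ.σ), hkr, Φ.adj_add])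
        map_smul' := fun c A => hinj (by
          rw [RingHom.id_apply, Matrix.smul_kronecker, ← hτ, ← hτ, Matrix.transpose_smul,
            show (c • Aᵀ).map Φ.σ = Φ.σ c • Aᵀ.map Φ.σ by ext i j; simp, Matrix.smul_kronecker, Φ.adj_smul,
            Φ.invol]) }
      (hinj (by
        show τ ((1 : Matrix (Fin d) (Fin d) F)ᵀ.map Φ.σ) ⊗ₖ (1 : Matrix (Fin k) (Fin k) F) = _
        rw [← hτ, Matrix.transpose_one, Matrix.map_one _ (map_zero _) (map_one _), Matrix.one_kronecker_one, Φ.adj_one]))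
      fun A B => hinj (by
        show τ ((A * B)ᵀ.map Φ.σ) ⊗ₖ (1 : Matrix (Fin k) (Fin k) F) =
          (τ (Aᵀ.map Φ.σ) * τ (Bᵀ.map Φ.σ)) ⊗ₖ (1 : Matrix (Fin k) (Fin k) F)
        conv_rhs => rw [← one_mul (1 : Matrix (Fin k) (Fin k) F), Matrix.mul_kronecker_mul, ← hτ, ← hτ, ← Φ.adj_mul,
          ← Matrix.mul_kronecker_mul, one_mul]
        rw [← hτ, Matrix.transpose_mul, Matrix.map_mul])
  obtain ⟨B, hB⟩ := exists_conj ψ
  set S := (Φ.gram : Matrix (Fin d × Fin k) (Fin d × Fin k) F).map Φ.σ with hS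
  set S' := ((Φ.gram⁻¹ : GL (Fin d × Fin k) F) : Matrix (Fin d × Fin k) (Fin d × Fin k) F).map Φ.σ with hS'
  have hSS : S * S' = 1 := by
    rw [hS, hS', ← Matrix.map_mul, ← Units.val_mul, mul_inv_cancel, Units.val_one]
    exact Matrix.map_one _ (map_zero _) (map_one _)
  have hmain : ∀ M, S' * (M ⊗ₖ (1 : Matrix (Fin k) (Fin k) F)) * S =
      ((B : Matrix (Fin d) (Fin d) F) * M * ((B⁻¹ : GL (Fin d) F) : Matrix (Fin d) (Fin d) F)) ⊗ₖ
        (1 : Matrix (Fin k) (Fin k) F) := fun M => by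
    rw [← hB M]
    show _ = τ (Mᵀ.map Φ.σ) ⊗ₖ (1 : Matrix (Fin k) (Fin k) F)
    rw [← hτ, FormData.adj, Matrix.map_mul, Matrix.map_mul, hS, hS']
    congr 2
    ext ⟨a, i⟩ ⟨b, j⟩
    rcases eq_or_ne i j with rfl | hij
    · simp [Φ.invol]
    · simp [hij, Ne.symm hij]
  obtain ⟨N, hN⟩ := eq_one_kronecker (T := S * ((B : Matrix (Fin d) (Fin d) F) ⊗ₖ (1 : Matrix (Fin k) (Fin k) F))) fun x y => by
    set E := Matrix.single x y (1 : F) ⊗ₖ (1 : Matrix (Fin k) (Fin k) F) with hE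
    calc S * ((B : Matrix (Fin d) (Fin d) F) ⊗ₖ (1 : Matrix (Fin k) (Fin k) F)) * E
        = S * (((B : Matrix (Fin d) (Fin d) F) * Matrix.single x y 1 * ((B⁻¹ : GL (Fin d) F) : Matrix (Fin d) (Fin d) F)) ⊗ₖ
            (1 : Matrix (Fin k) (Fin k) F)) * ((B : Matrix (Fin d) (Fin d) F) ⊗ₖ (1 : Matrix (Fin k) (Fin k) F)) := by
          rw [mul_assoc, mul_assoc, hE, ← Matrix.mul_kronecker_mul, ← Matrix.mul_kronecker_mul]
          simp [mul_assoc]
      _ = (S * S') * E * (S * ((B : Matrix (Fin d) (Fin d) F) ⊗ₖ (1 : Matrix (Fin k) (Fin k) F))) := by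
          rw [← hmain, hE]; simp [mul_assoc]
      _ = _ := by rw [hSS, one_mul]
  have hval : (Φ.gram : Matrix (Fin d × Fin k) (Fin d × Fin k) F) =
      ((B⁻¹ : GL (Fin d) F) : Matrix (Fin d) (Fin d) F).map Φ.σ ⊗ₖ N.map Φ.σ := by
    have h1 := congrArg (fun T => (T * (((B⁻¹ : GL (Fin d) F) : Matrix (Fin d) (Fin d) F) ⊗ₖ
      (1 : Matrix (Fin k) (Fin k) F))).map Φ.σ) hN
    simp only [mul_assoc, ← Matrix.mul_kronecker_mul, Units.mul_inv, mul_one, one_mul, Matrix.one_kronecker_one] at h1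
    rw [hS, Φ.map_map] at h1
    rw [h1]
    ext ⟨a, i⟩ ⟨b, j⟩
    simp
  have hu := Φ.gram.isUnit
  rw [hval, Matrix.isUnit_iff_isUnit_det, Matrix.det_kronecker] at hu
  have hN0 : (N.map Φ.σ).det ≠ 0 := fun h0 => by
    rw [h0, zero_pow Fintype.card_ne_zero, mul_zero] at hu
    exact not_isUnit_zero hu
  exact ⟨Units.map (Φ.σ.mapMatrix : Matrix (Fin d) (Fin d) F →+* _).toMonoidHom B⁻¹,
    Matrix.GeneralLinearGroup.mkOfDetNeZero _ hN0, hval⟩

end FormData

end Cfsg.Agent.MaxSub.Asch
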