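import Mathlib
import Cfsg.Agent.MaxSub.Asch.Adjoint
import Cfsg.Agent.MaxSub.Orth
import Cfsg.Agent.MaxSub.Alt
import Cfsg.Agent.Aschbacher.LinearPrime

/-!
The subgroup structure of the symplectic groups: reducible, imprimitive, extension field and tensor cases.
-/

set_option autoImplicit false
set_option linter.unusedSectionVars false
set_option linter.style.haveILetI false

namespace Cfsg.Agent.MaxSub.Asch

open scoped MatrixGroups Matrix Kronecker
open Module
open Cfsg.Agent.Aschbacher (NormalIn Inv Irr img mem_img)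

variable {F : Type*} [Field F] [Fintype F] {m : ℕ}

/-- Containment in a member of one of the symplectic classes. -/
abbrev InSp (H : Subgroup (GL (Fin m ⊕ Fin m) F)) : Prop :=
  ∃ M, Geo.InSymplecticClass m F M ∧ H ≤ M

/-- The symplectic form as form data. -/
noncomputable def spData (m : ℕ) (F : Type*) [Field F] : FormData (Fin m ⊕ Fin m) F where
  σ := RingHom.id F
  ε := -1
  invol _ := rfl
  gram := ⟨Matrix.J (Fin m) F, -Matrix.J (Fin m) F, by rw [mul_neg, Matrix.J_squared, neg_neg],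
    by rw [neg_mul, Matrix.J_squared, neg_neg]⟩
  herm := by
    show (Matrix.J (Fin m) F)ᵀ.map (RingHom.id F) = (-1 : F) • Matrix.J (Fin m) F
    rw [Matrix.J_transpose, neg_one_smul]
    ext i j
    rfl

theorem spData_form : (spData m F).form = sympForm m F := rfl

theorem spData_gram : ((spData m F).gram : Matrix (Fin m ⊕ Fin m) (Fin m ⊕ Fin m) F) = Matrix.J (Fin m) F := rfl

theorem sympForm_swap (u v : Fin m ⊕ Fin m → F) : sympForm m F u v = - sympForm m F v u :=
  (isSymplecticForm_sympForm (m := m) (F := F)).skew u v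

theorem mem_spGL {g : GL (Fin m ⊕ Fin m) F} :
    g ∈ spGL m F ↔ ∀ u v, sympForm m F ((g : Matrix (Fin m ⊕ Fin m) (Fin m ⊕ Fin m) F) *ᵥ u)
      ((g : Matrix (Fin m ⊕ Fin m) (Fin m ⊕ Fin m) F) *ᵥ v) = sympForm m F u v := by
  rw [spGL_eq_isom]
  exact mem_isom

theorem gram_of_mem_spGL {g : GL (Fin m ⊕ Fin m) F} (hg : g ∈ spGL m F) :
    (g : Matrix (Fin m ⊕ Fin m) (Fin m ⊕ Fin m) F)ᵀ * Matrix.J (Fin m) F *
      (g : Matrix (Fin m ⊕ Fin m) (Fin m ⊕ Fin m) F).map (RingHom.id F) = Matrix.J (Fin m) F :=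
  (Aschbacher.preserves_iff_gram (σ := RingHom.id F) (f := sympForm m F) (fun _ _ => rfl) _).mp (mem_spGL.mp hg)

theorem isSim_of_mem {H : Subgroup (GL (Fin m ⊕ Fin m) F)} (hH : H ≤ spGL m F) {g : GL (Fin m ⊕ Fin m) F}
    (hg : g ∈ H ⊔ Geo.scalars (Fin m ⊕ Fin m) F) : (spData m F).IsSim g := by
  obtain ⟨h, hh, z, hz, rfl⟩ := (Subgroup.mem_sup_of_normal_right (ht := Geo.scalars_normal)).mp hg
  obtain ⟨c, hc⟩ := (Geo.mem_scalars_iff z).mp hz
  refine ⟨(c : F) * c, mul_ne_zero c.ne_zero c.ne_zero, ?_⟩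
  rw [spData_gram, show (spData m F).σ = RingHom.id F from rfl, Units.val_mul, hc, Matrix.mul_smul, mul_one]
  have h1 := gram_of_mem_spGL (hH hh)
  rw [Matrix.transpose_smul, Matrix.smul_mul, Matrix.smul_mul,
    show ((c : F) • (h : Matrix (Fin m ⊕ Fin m) (Fin m ⊕ Fin m) F)).map (RingHom.id F) =
      (c : F) • (h : Matrix (Fin m ⊕ Fin m) (Fin m ⊕ Fin m) F).map (RingHom.id F) by ext i j; simp,
    Matrix.mul_smul, h1, smul_smul]

variable {H : Subgroup (GL (Fin m ⊕ Fin m) F)}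

theorem inSp_singular (hH : H ≤ spGL m F) {W : Submodule F (Fin m ⊕ Fin m → F)} (h0 : W ≠ ⊥)
    (hts : Geo.IsTotallySingularFor (sympForm m F) W) (hle : H ≤ Geo.subspaceStabilizer W) : InSp H :=
  ⟨_, Or.inl <| Or.inl ⟨W, h0, hts, rfl⟩, le_inf hle hH⟩

theorem inSp_nondeg (hH : H ≤ spGL m F) {W : Submodule F (Fin m ⊕ Fin m → F)} (h0 : W ≠ ⊥)
    (hnd : Geo.IsNondegenerateOn (sympForm m F) W) (hlt : finrank F W < m) (hle : H ≤ Geo.subspaceStabilizer W) :
    InSp H :=
  ⟨_, Or.inl <| Or.inr <| Or.inl ⟨W, h0, hnd, hlt, rfl⟩, le_inf hle hH⟩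

theorem inSp_decomp (hH : H ≤ spGL m F) {t k : ℕ} {D : Fin t → Submodule F (Fin m ⊕ Fin m → F)}
    (hD : Geo.IsNondegenerateMDecomposition (sympForm m F) k D) (hle : H ≤ Geo.decompositionStabilizer D) : InSp H :=
  ⟨_, Or.inl <| Or.inr <| Or.inr <| Or.inl ⟨t, k, D, hD, rfl⟩, le_inf hle hH⟩

theorem inSp_pair (hH : H ≤ spGL m F) (hodd : Odd (Fintype.card F)) {D : Fin 2 → Submodule F (Fin m ⊕ Fin m → F)}
    (hD : Geo.IsMDecomposition m D) (hts : ∀ i, Geo.IsTotallySingularFor (sympForm m F) (D i))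
    (hle : H ≤ Geo.decompositionStabilizer D) : InSp H :=
  ⟨_, Or.inl <| Or.inr <| Or.inr <| Or.inr <| Or.inl ⟨D, hodd, hD, hts, rfl⟩, le_inf hle hH⟩

theorem inSp_subfield (hH : H ≤ spGL m F) {F₀ : Subfield F} {r : ℕ} {P : GL (Fin m ⊕ Fin m) F} {ζ : F}
    (hr : r.Prime) (hc : Fintype.card F = Nat.card F₀ ^ r) (hζ : ζ ≠ 0)
    (hP : Geo.IsFormRationalStructure (sympForm m F) F₀ ζ P) (hle : H ≤ Geo.subfieldSubgroup F₀ P) : InSp H :=
  ⟨_, Or.inl <| Or.inr <| Or.inr <| Or.inr <| Or.inr <| Or.inl ⟨F₀, r, P, ζ, hr, hc, hζ, hP, rfl⟩, le_inf hle hH⟩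

theorem inSp_quad (hH : H ≤ spGL m F) (heven : ¬ Odd (Fintype.card F)) {Q : (Fin m ⊕ Fin m → F) → F}
    (hsmul : ∀ (c : F) v, Q (c • v) = c ^ 2 * Q v)
    (hpol : ∀ u v, QuadraticMap.polar Q u v = sympForm m F u v)
    (hQH : ∀ g ∈ H, ∀ v, Q ((g : Matrix (Fin m ⊕ Fin m) (Fin m ⊕ Fin m) F) *ᵥ v) = Q v) : InSp H := by
  have hfun : QuadraticMap.polar Q = sympForm m F := funext fun u => funext fun v => hpol u v
  have hQ : Geo.IsNondegenerateQuadraticForm Q := ⟨hsmul, by rw [hfun]; exact (isSymplecticForm_sympForm (m := m) (F := F)).bilinear,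
    by rw [hfun]; exact (isSymplecticForm_sympForm (m := m) (F := F)).nondegenerate⟩
  exact ⟨_, Or.inl <| Or.inr <| Or.inr <| Or.inr <| Or.inr <| Or.inr <| Or.inr ⟨Q, heven, hQ, hpol, rfl⟩,
    le_inf (fun g hg => ⟨1, fun v => by rw [hQH g hg v, Units.val_one, one_mul]⟩) hH⟩

theorem inSp_selfAdjointField (hH : H ≤ spGL m F) {r : ℕ}
    {K : Subalgebra F (Matrix (Fin m ⊕ Fin m) (Fin m ⊕ Fin m) F)} (hr : r.Prime) (hK : Geo.IsFieldSubalgebra r K)
    (hsa : Geo.IsSelfAdjointFor (sympForm m F) K) (halt : ∀ k ∈ K, ∀ v, sympForm m F (k *ᵥ v) v = 0)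
    (hle : H ≤ Geo.subalgebraNormalizer K) : InSp H :=
  ⟨_, Or.inr <| Or.inl ⟨r, K, hr, hK, hsa, halt, rfl⟩, le_inf hle hH⟩

theorem inSp_unitaryField (hH : H ≤ spGL m F) (hodd : Odd (Fintype.card F))
    {K : Subalgebra F (Matrix (Fin m ⊕ Fin m) (Fin m ⊕ Fin m) F)} (hK : Geo.IsFieldSubalgebra 2 K)
    (hac : Geo.IsAdjointClosedFor (sympForm m F) K) (hns : ¬ Geo.IsSelfAdjointFor (sympForm m F) K)
    (hle : H ≤ Geo.subalgebraNormalizer K) : InSp H :=
  ⟨_, Or.inr <| Or.inr <| Or.inl ⟨K, hodd, hK, hac, hns, rfl⟩, le_inf hle hH⟩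

theorem neg_eq_self_of_even (h : ¬ Odd (Fintype.card F)) (a : F) : -a = a :=
  neg_eq_of_add_eq_zero_left (by rw [← two_mul, Aschbacher.two_eq_zero_of_not_odd h, zero_mul])

/-- An element with `k + adj k = 1` normalised up to adjoint gives an orthogonal group in characteristic two. -/
theorem inSp_of_split (hH : H ≤ spGL m F) (heven : ¬ Odd (Fintype.card F)) [Nonempty (Fin m ⊕ Fin m)]
    {k : Matrix (Fin m ⊕ Fin m) (Fin m ⊕ Fin m) F} (hk : k + (spData m F).adj k = 1)
    (hperm : ∀ g ∈ H, conjHom g k = k ∨ conjHom g k = (spData m F).adj k) : InSp H := by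
  have hneg := neg_eq_self_of_even heven
  have hf := (isSymplecticForm_sympForm (m := m) (F := F)).bilinear
  have hsym : ∀ u v, sympForm m F u v = sympForm m F v u := fun u v => by rw [sympForm_swap, hneg]
  have hadj : ∀ u v, sympForm m F (k *ᵥ u) v = sympForm m F u ((spData m F).adj k *ᵥ v) := fun u v => by
    rw [← spData_form]; exact (spData m F).form_adj k u v
  refine inSp_quad hH heven (Q := fun v => sympForm m F (k *ᵥ v) v) (fun c v => ?_) (fun u v => ?_) fun g hg v => ?_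
  · rw [Matrix.mulVec_smul, hf.smul_left, hf.smul_right]; ring
  · simp only [QuadraticMap.polar, Matrix.mulVec_add, hf.add_left, hf.add_right]
    have h1 : sympForm m F (k *ᵥ v) u = sympForm m F ((spData m F).adj k *ᵥ u) v := by
      rw [hadj, hsym]
    have h2 : sympForm m F (k *ᵥ u) v + sympForm m F ((spData m F).adj k *ᵥ u) v = sympForm m F u v := by
      rw [← hf.add_left, ← Matrix.add_mulVec, hk, Matrix.one_mulVec]
    rw [← h2, ← h1]
    ring
  · have hg' := mem_spGL.mp (hH hg)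
    set k' := conjHom g⁻¹ k with hk'
    have h1 : k *ᵥ ((g : Matrix (Fin m ⊕ Fin m) (Fin m ⊕ Fin m) F) *ᵥ v) =
        (g : Matrix (Fin m ⊕ Fin m) (Fin m ⊕ Fin m) F) *ᵥ (k' *ᵥ v) := by
      rw [Matrix.mulVec_mulVec, Matrix.mulVec_mulVec]
      congr 1
      simp [hk', conjHom_apply, ← mul_assoc]
    rw [h1, hg']
    rcases hperm g⁻¹ (inv_mem hg) with h | h <;> rw [hk', h]
    rw [hsym, ← hadj]

/-- Two complementary subspaces form a decomposition. -/
theorem isMDecomposition_pair {ι : Type} [Fintype ι] [DecidableEq ι] {k : ℕ}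
    {W U : Submodule F (ι → F)} (hk : 0 < k) (hW : finrank F W = k) (hU : finrank F U = k)
    (hd : W ⊓ U = ⊥) (hs : W ⊔ U = ⊤) : Geo.IsMDecomposition k ![W, U] := by
  refine ⟨le_rfl, hk, fun i => by
    fin_cases i
    · exact hW
    · exact hU, ?_, ?_⟩
  · intro i
    rw [disjoint_iff, eq_bot_iff]
    refine (inf_le_inf_left _ (iSup₂_le (a := if i = 0 then U else W) fun j hj => ?_)).trans ?_
    · fin_cases i <;> fin_cases j <;> simp at hj ⊢
    · fin_cases i <;> simp [hd, inf_comm U W]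
  · refine top_le_iff.mp ?_
    rw [← hs]
    exact sup_le (le_iSup ![W, U] 0) (le_iSup ![W, U] 1)

theorem finrank_of_pair {ι : Type} [Fintype ι] [DecidableEq ι] {k : ℕ} {D : Fin 2 → Submodule F (ι → F)}
    (hD : Geo.IsMDecomposition k D) : 2 * k = Fintype.card ι := by
  have h0 : D 0 ⊓ D 1 = ⊥ := disjoint_iff.mp (hD.indep.pairwiseDisjoint (show (0 : Fin 2) ≠ 1 by decide))
  have h1 : D 0 ⊔ D 1 = ⊤ := top_le_iff.mp (hD.iSup_eq_top ▸ iSup_le fun i => by
    fin_cases i
    · exact le_sup_left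
    · exact le_sup_right)
  have h := Submodule.finrank_sup_add_finrank_inf_eq (D 0) (D 1)
  rw [h0, h1, finrank_bot, finrank_top, hD.finrank_eq, hD.finrank_eq, Module.finrank_pi] at h
  omega

theorem inSp_reducible (hH : H ≤ spGL m F) (hirr : ¬ Irr H) : InSp H := by
  classical
  have hb := (isSymplecticForm_sympForm (m := m) (F := F)).bilinear
  simp only [Irr, not_forall, not_or] at hirr
  obtain ⟨W₀, hW₀, hW₀b, hW₀t⟩ := hirr
  obtain ⟨W, hle, ⟨hWi, hW0⟩, hWmin⟩ := exists_minimal_le_of_wellFoundedLT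
    (fun W : Submodule F (Fin m ⊕ Fin m → F) => Inv H W ∧ W ≠ ⊥) W₀ ⟨hW₀, hW₀b⟩
  have hWt : W ≠ ⊤ := fun h => hW₀t (top_le_iff.mp (h ▸ hle))
  let U : Submodule F (Fin m ⊕ Fin m → F) :=
    { carrier := {x | ∀ w ∈ W, sympForm m F w x = 0}
      add_mem' := fun {a b} ha hb' w hw => by rw [hb.add_right, ha w hw, hb' w hw, add_zero]
      zero_mem' := fun w _ => form_zero_right hb w
      smul_mem' := fun c a ha w hw => by rw [hb.smul_right, ha w hw, mul_zero] }
  have hUi : Inv H U := by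
    intro g hg x hx w hw
    have h1 := hWi g⁻¹ (inv_mem hg) w hw
    rw [← Aschbacher.mulVec_inv_mulVec g w, mem_spGL.mp (hH hg)]
    exact hx _ h1
  have hUdim : finrank F W + finrank F U = 2 * m := by
    let B : LinearMap.BilinForm F (Fin m ⊕ Fin m → F) := LinearMap.mk₂ F (sympForm m F)
      hb.add_left (fun c x v => hb.smul_left c x v) hb.add_right (fun c v x => hb.smul_right c v x)
    have hB : B.Nondegenerate := ⟨fun x hx => by_contra fun h0 =>
        ((isSymplecticForm_sympForm (m := m) (F := F)).nondegenerate x h0).2.elim fun y hy => hy (hx y),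
      fun x hx => by_contra fun h0 =>
        ((isSymplecticForm_sympForm (m := m) (F := F)).nondegenerate x h0).1.elim fun y hy => hy (hx y)⟩
    have hrefl : B.IsRefl := fun x y h => by
      show sympForm m F y x = 0
      rw [sympForm_swap, show sympForm m F x y = 0 from h, neg_zero]
    have hUeq : U = B.orthogonal W := by
      ext x; rfl
    have h2 := LinearMap.BilinForm.finrank_orthogonal hB W
    rw [← hUeq, Module.finrank_pi, Fintype.card_sum, Fintype.card_fin] at h2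
    have h3 : finrank F W ≤ 2 * m := by
      have := Submodule.finrank_le W
      rw [Module.finrank_pi, Fintype.card_sum, Fintype.card_fin] at this
      omega
    omega
  by_cases hrad : W ⊓ U = ⊥
  swap
  · have hle' : W ≤ W ⊓ U := hWmin ⟨fun g hg x hx => ⟨hWi g hg x hx.1, hUi g hg x hx.2⟩, hrad⟩ inf_le_left
    exact inSp_singular hH hW0 (fun u hu v hv => (hle' hv).2 u hu) (Aschbacher.inv_le_subspaceStabilizer hWi)
  have hnd : Geo.IsNondegenerateOn (sympForm m F) W := by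
    intro w hw hw0
    obtain ⟨x, hx, hxw⟩ : ∃ x ∈ W, sympForm m F x w ≠ 0 := by
      by_contra h
      push Not at h
      exact hw0 ((Submodule.eq_bot_iff _).mp hrad w ⟨hw, h⟩)
    exact ⟨⟨x, hx, hxw⟩, ⟨x, hx, by rwa [sympForm_swap, neg_ne_zero]⟩⟩
  have hsup : W ⊔ U = ⊤ := by
    refine Submodule.eq_top_of_finrank_eq ?_
    have h := Submodule.finrank_sup_add_finrank_inf_eq W U
    rw [hrad, finrank_bot] at h
    rw [Module.finrank_pi, Fintype.card_sum, Fintype.card_fin]
    omega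
  rcases Nat.lt_trichotomy (finrank F W) m with hlt | heq | hgt
  · exact inSp_nondeg hH hW0 hnd hlt (Aschbacher.inv_le_subspaceStabilizer hWi)
  · -- two orthogonal halves
    have hU : finrank F U = m := by omega
    have hm0 : 0 < m := by
      rcases Nat.eq_zero_or_pos m with h | h
      · exact absurd (Submodule.finrank_eq_zero.mp (heq.trans h)) hW0
      · exact h
    have hndU : Geo.IsNondegenerateOn (sympForm m F) U := by
      intro u hu hu0
      obtain ⟨y, hy⟩ := ((isSymplecticForm_sympForm (m := m) (F := F)).nondegenerate u hu0).1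
      obtain ⟨a, ha, b, hb', rfl⟩ := Submodule.mem_sup.mp (show y ∈ W ⊔ U from hsup ▸ Submodule.mem_top)
      rw [hb.add_left, hu a ha, zero_add] at hy
      exact ⟨⟨b, hb', hy⟩, ⟨b, hb', by rwa [sympForm_swap, neg_ne_zero]⟩⟩
    refine inSp_decomp hH (D := ![W, U])
      ⟨isMDecomposition_pair hm0 heq hU hrad hsup, fun i => by fin_cases i <;> simp [hnd, hndU], ?_⟩ fun g hg => ?_
    · intro i j hij
      fin_cases i <;> fin_cases j <;> simp at hij ⊢
      · exact fun a ha b hb' => hb' a ha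
      · exact fun a ha b hb' => by rw [sympForm_swap, ha b hb', neg_zero]
    · refine ⟨1, fun i => ?_⟩
      have hmap : ∀ X : Submodule F (Fin m ⊕ Fin m → F), Inv H X →
          X.map (Matrix.toLin' (g : Matrix (Fin m ⊕ Fin m) (Fin m ⊕ Fin m) F)) = X := by
        intro X hX
        refine le_antisymm ?_ fun x hx => ⟨_, hX g⁻¹ (inv_mem hg) x hx, by
          rw [Matrix.toLin'_apply]; exact Aschbacher.mulVec_inv_mulVec g x⟩
        rintro _ ⟨x, hx, rfl⟩
        exact hX g hg x hx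
      fin_cases i <;> simp [hmap W hWi, hmap U hUi]
  · -- the orthogonal complement is smaller
    have hU0 : U ≠ ⊥ := fun h => hWt (by rw [h, sup_bot_eq] at hsup; exact hsup)
    refine inSp_nondeg hH hU0 ?_ (by omega) (Aschbacher.inv_le_subspaceStabilizer hUi)
    intro u hu hu0
    obtain ⟨y, hy⟩ := ((isSymplecticForm_sympForm (m := m) (F := F)).nondegenerate u hu0).1
    obtain ⟨a, ha, b, hb', rfl⟩ := Submodule.mem_sup.mp (show y ∈ W ⊔ U from hsup ▸ Submodule.mem_top)
    rw [hb.add_left, hu a ha, zero_add] at hy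
    exact ⟨⟨b, hb', hy⟩, ⟨b, hb', by rwa [sympForm_swap, neg_ne_zero]⟩⟩

/-- In a finite commutative reduced algebra without non-trivial idempotents every non-zero element is invertible. -/
theorem inv_of_no_idem {ι : Type} [Fintype ι] [DecidableEq ι] {Z : Subalgebra F (Matrix ι ι F)}
    (hred : ∀ z ∈ Z, IsNilpotent z → z = 0) (hid : ¬ ∃ e ∈ Z, e * e = e ∧ e ≠ 0 ∧ e ≠ 1)
    {x : Matrix ι ι F} (hx : x ∈ Z) (h0 : x ≠ 0) : ∃ y ∈ Z, x * y = 1 := by
  haveI : Finite (Matrix ι ι F) := Pi.finite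
  obtain ⟨a, b, hab, hpow⟩ : ∃ a b : ℕ, a ≠ b ∧ x ^ a = x ^ b :=
    Finite.exists_ne_map_eq_of_infinite (fun i : ℕ => x ^ i)
  wlog hlt : a < b generalizing a b
  · exact this b a hab.symm hpow.symm (by omega)
  obtain ⟨c, rfl⟩ : ∃ c, b = a + (c + 1) := ⟨b - a - 1, by omega⟩
  have hper : ∀ i, x ^ (a + i * (c + 1)) = x ^ a := fun i => by
    induction i with
    | zero => simp
    | succ i ih =>
      rw [show a + (i + 1) * (c + 1) = a + i * (c + 1) + (c + 1) by ring, pow_add, ih, ← pow_add, ← hpow]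
  set e := x ^ ((a + 1) * (c + 1)) with he
  have hle : a ≤ (a + 1) * (c + 1) := by nlinarith
  have hee : e * e = e := by
    rw [he, ← pow_add, show (a + 1) * (c + 1) + (a + 1) * (c + 1) =
        (a + (a + 1) * (c + 1)) + ((a + 1) * (c + 1) - a) by omega, pow_add, hper, ← pow_add]
    congr 1
    omega
  have he0 : e ≠ 0 := fun h => h0 (hred x hx ⟨_, h⟩)
  have he1 : e = 1 := by
    by_contra h
    exact hid ⟨e, pow_mem hx _, hee, he0, h⟩
  refine ⟨x ^ ((a + 1) * (c + 1) - 1), pow_mem hx _, ?_⟩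
  have : 0 < (a + 1) * (c + 1) := by positivity
  rw [← pow_succ', ← he1, he, show (a + 1) * (c + 1) - 1 + 1 = (a + 1) * (c + 1) by omega]

/-- A normalised commutative reduced algebra, closed under adjoints, other than the scalars. -/
theorem inSp_algebra (hm : 1 ≤ m) (hH : H ≤ spGL m F) (hirr : Irr H)
    {Z : Subalgebra F (Matrix (Fin m ⊕ Fin m) (Fin m ⊕ Fin m) F)}
    (hcomm : ∀ x ∈ Z, ∀ y ∈ Z, x * y = y * x) (hred : ∀ z ∈ Z, IsNilpotent z → z = 0)
    (hadj : ∀ z ∈ Z, (spData m F).adj z ∈ Z) (hZH : ∀ g ∈ H, ∀ z ∈ Z, conjHom g z ∈ Z)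
    (hne : finrank F Z ≠ 1) : InSp H := by
  classical
  haveI : Nonempty (Fin m ⊕ Fin m) := ⟨Sum.inl ⟨0, hm⟩⟩
  have hsim : ∀ g ∈ H, (spData m F).IsSim g := fun g hg => isSim_of_mem hH (Subgroup.mem_sup_left hg)
  by_cases hid : ∃ e ∈ Z, e * e = e ∧ e ≠ 0 ∧ e ≠ 1
  · obtain ⟨e, he, hee, h0, h1⟩ := hid
    rcases (spData m F).decomp_of_idempotent hcomm hadj hirr hsim hZH he hee h0 h1 with
      ⟨t, k, D, hD, hle⟩ | ⟨k, D, hD, hts, hle, a, -, ha, hperm⟩
    · exact inSp_decomp hH hD hle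
    · by_cases hodd : Odd (Fintype.card F)
      · have h2 := finrank_of_pair hD
        simp only [Fintype.card_sum, Fintype.card_fin] at h2
        obtain rfl : k = m := by omega
        exact inSp_pair hH hodd hD hts hle
      · exact inSp_of_split hH hodd ha hperm
  have hinv := fun x (hx : x ∈ Z) (h0 : x ≠ 0) => inv_of_no_idem hred hid hx h0
  -- the fixed algebra of the adjoint
  let Z₀ : Subalgebra F (Matrix (Fin m ⊕ Fin m) (Fin m ⊕ Fin m) F) :=
    { carrier := {z | z ∈ Z ∧ (spData m F).adj z = z}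
      mul_mem' := fun {a b} ha hb => ⟨mul_mem ha.1 hb.1, by rw [(spData m F).adj_mul, ha.2, hb.2, hcomm b hb.1 a ha.1]⟩
      add_mem' := fun {a b} ha hb => ⟨add_mem ha.1 hb.1, by rw [(spData m F).adj_add, ha.2, hb.2]⟩
      algebraMap_mem' := fun c => ⟨Z.algebraMap_mem c, by
        rw [Algebra.algebraMap_eq_smul_one, (spData m F).adj_smul, (spData m F).adj_one]; rfl⟩ }
  have hZ₀H : ∀ g ∈ H, ∀ z ∈ Z₀, conjHom g z ∈ Z₀ := fun g hg z hz =>
    ⟨hZH g hg z hz.1, by rw [(spData m F).adj_conj (hsim g hg), hz.2]⟩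
  have hZ₀inv : ∀ x ∈ Z₀, x ≠ 0 → ∃ y ∈ Z₀, x * y = 1 := by
    intro x hx h0
    obtain ⟨y, hy, hxy⟩ := hinv x hx.1 h0
    refine ⟨y, ⟨hy, ?_⟩, hxy⟩
    have h1 : (spData m F).adj y * x = 1 := by
      conv_lhs => rw [← hx.2, ← (spData m F).adj_mul, hxy, (spData m F).adj_one]
    exact left_inv_eq_right_inv h1 hxy
  by_cases hd0 : finrank F Z₀ ≠ 1
  · obtain ⟨r, K, hr, hK, hle, hKZ⟩ := exists_prime_field (Z := Z₀) (fun x (hx : x ∈ Z₀) y (hy : y ∈ Z₀) => hcomm x hx.1 y hy.1) hZ₀inv hZ₀H hd0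
    have hsa : ∀ k ∈ K, ∀ u v, sympForm m F (k *ᵥ u) v = sympForm m F u (k *ᵥ v) := fun k hk u v => by
      rw [← spData_form, (spData m F).form_adj, (hKZ hk).2]
    refine inSp_selfAdjointField hH hr hK hsa (fun k hk v => ?_) hle
    by_cases hodd : Odd (Fintype.card F)
    · have h2 := Aschbacher.two_ne_zero_of_odd hodd
      have h3 : sympForm m F (k *ᵥ v) v = - sympForm m F (k *ᵥ v) v := by
        conv_lhs => rw [hsa k hk, sympForm_swap]
      have h4 : (2 : F) * sympForm m F (k *ᵥ v) v = 0 := by linear_combination h3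
      exact (mul_eq_zero.mp h4).resolve_left h2
    · -- every element of the field is a square
      haveI : Finite (Matrix (Fin m ⊕ Fin m) (Fin m ⊕ Fin m) F) := Pi.finite
      haveI : Finite K := Subtype.finite
      have hsq : Function.Injective fun x : K => x * x := by
        intro x y hxy
        have hxy' : (x : Matrix (Fin m ⊕ Fin m) (Fin m ⊕ Fin m) F) * x = (y : Matrix (Fin m ⊕ Fin m) (Fin m ⊕ Fin m) F) * y :=
          congrArg Subtype.val hxy
        refine Subtype.ext (sub_eq_zero.mp (hred _ (hKZ (sub_mem x.2 y.2)).1 ⟨2, ?_⟩))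
        have hc := hK.comm _ x.2 _ y.2
        rw [pow_two, sub_mul, mul_sub, mul_sub, hxy', ← hc]
        have h2 : (2 : F) = 0 := Aschbacher.two_eq_zero_of_not_odd hodd
        have h5 : ∀ M : Matrix (Fin m ⊕ Fin m) (Fin m ⊕ Fin m) F, M + M = 0 := fun M => by
          rw [← two_smul F M, h2, zero_smul]
        have h6 : ∀ a b : Matrix (Fin m ⊕ Fin m) (Fin m ⊕ Fin m) F, a - b = a + b := fun a b => by
          rw [sub_eq_add_neg, neg_eq_of_add_eq_zero_left (h5 b)]
        simp only [h6]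
        abel_nf
        simp only [← Int.cast_smul_eq_zsmul F, Int.cast_ofNat, h2, zero_smul, add_zero]
      obtain ⟨l, hl⟩ := (Finite.injective_iff_surjective.mp hsq) ⟨k, hk⟩
      have hkl : k = (l : Matrix (Fin m ⊕ Fin m) (Fin m ⊕ Fin m) F) * l := (congrArg Subtype.val hl).symm
      rw [hkl, ← Matrix.mulVec_mulVec, hsa _ l.2]
      exact (isSymplecticForm_sympForm (m := m) (F := F)).alternating _
  push Not at hd0
  have hfixF : ∀ z ∈ Z₀, ∃ c : F, z = c • 1 := fun z hz => Aschbacher.eq_smul_of_finrank_one hd0 hz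
  -- the field has degree two
  obtain ⟨z₁, hz₁, hz₁ne⟩ : ∃ z ∈ Z, (spData m F).adj z ≠ z := by
    by_contra hcon
    push Not at hcon
    exact hne (by rw [show Z = Z₀ from le_antisymm (fun z hz => ⟨hz, hcon z hz⟩) (fun z hz => hz.1)]; exact hd0)
  set s := z₁ - (spData m F).adj z₁ with hs
  have hsZ : s ∈ Z := sub_mem hz₁ (hadj _ hz₁)
  have hadjs : ∀ z, (spData m F).adj (z - (spData m F).adj z) = (spData m F).adj z - z := fun z => by
    rw [(spData m F).adj_sub, (spData m F).adj_adj]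
  obtain ⟨s', hs', hss'⟩ := hinv s hsZ (sub_ne_zero.mpr hz₁ne.symm)
  have hskew : ∀ z ∈ Z, ∃ c : F, z - (spData m F).adj z = c • s := by
    intro z hz
    set u := z - (spData m F).adj z with hu
    have huZ : u ∈ Z := sub_mem hz (hadj z hz)
    have hmem : u * s' ∈ Z₀ := by
      refine ⟨mul_mem huZ hs', ?_⟩
      have hsa' : (spData m F).adj s' = -s' := by
        have h1 : (spData m F).adj s' * (-s) = 1 := by
          rw [hs, neg_sub, ← hadjs, ← (spData m F).adj_mul, ← hs, hss', (spData m F).adj_one]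
        have h2 : (-s) * (-s') = 1 := by rw [neg_mul_neg, hss']
        exact left_inv_eq_right_inv h1 h2
      rw [(spData m F).adj_mul, hsa', hu, hadjs, ← neg_sub z, neg_mul_neg, hcomm _ hs' _ huZ]
    obtain ⟨c, hc⟩ := hfixF _ hmem
    refine ⟨c, ?_⟩
    calc u = u * (s' * s) := by rw [hcomm _ hs' _ hsZ, hss', mul_one]
      _ = c • s := by rw [← mul_assoc, hc, Matrix.smul_mul, one_mul]
  have hd2 : finrank F Z = 2 := by
    obtain ⟨v₁, hv₁⟩ : ∃ x : Z, (x : Matrix (Fin m ⊕ Fin m) (Fin m ⊕ Fin m) F) = z₁ := ⟨⟨z₁, hz₁⟩, rfl⟩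
    have hspan : ⊤ ≤ Submodule.span F (Set.range ![(1 : Z), v₁]) := by
      rintro ⟨z, hz⟩ -
      obtain ⟨c, hc⟩ := hskew z hz
      obtain ⟨a, ha⟩ := hfixF (z - c • z₁) ⟨sub_mem hz (Subalgebra.smul_mem _ hz₁ c), by
        rw [(spData m F).adj_sub, (spData m F).adj_smul, show (spData m F).σ c = c from rfl]
        rw [hs, smul_sub] at hc
        rw [eq_comm, ← sub_eq_zero]
        rw [← sub_eq_zero] at hc
        rw [← hc]
        abel⟩
      have : (⟨z, hz⟩ : Z) = a • (1 : Z) + c • v₁ := Subtype.ext (by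
        show z = a • 1 + c • (v₁ : Matrix (Fin m ⊕ Fin m) (Fin m ⊕ Fin m) F)
        rw [hv₁, ← ha, sub_add_cancel])
      rw [this]
      exact add_mem (Submodule.smul_mem _ _ (Submodule.subset_span ⟨0, rfl⟩))
        (Submodule.smul_mem _ _ (Submodule.subset_span ⟨1, rfl⟩))
    have h2 := finrank_range_le_card (R := F) ![(1 : Z), v₁]
    rw [Set.finrank, top_le_iff.mp hspan, finrank_top, Fintype.card_fin] at h2
    have h3 : 0 < finrank F Z := by
      haveI : Nontrivial Z := ⟨⟨0, 1, fun h => zero_ne_one (α := Matrix (Fin m ⊕ Fin m) (Fin m ⊕ Fin m) F) (congrArg Subtype.val h)⟩⟩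
      exact Module.finrank_pos
    omega
  by_cases hodd : Odd (Fintype.card F)
  · refine inSp_unitaryField hH hodd ⟨hcomm, hinv, hd2⟩ (fun k hk => ⟨_, hadj k hk, fun u v => ?_⟩) (fun hsa => ?_) ?_
    · rw [← spData_form, (spData m F).form_adj]
    · apply hz₁ne
      refine Matrix.ext_of_mulVec_single fun i => ?_
      by_contra hne'
      obtain ⟨x, hx⟩ := ((isSymplecticForm_sympForm (m := m) (F := F)).nondegenerate _ (sub_ne_zero.mpr hne')).1
      apply hx
      rw [(isSymplecticForm_sympForm (m := m) (F := F)).bilinear |> fun hb => form_sub_right hb]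
      rw [← hsa z₁ hz₁, ← spData_form, (spData m F).form_adj, sub_self]
    · intro g hg k
      refine ⟨fun hk => hZH g hg k hk, fun hk => ?_⟩
      have := hZH g⁻¹ (inv_mem hg) _ hk
      simpa [conjHom_apply, mul_assoc] using this
  · have h2 : (2 : F) = 0 := Aschbacher.two_eq_zero_of_not_odd hodd
    have hsub : ∀ a b : Matrix (Fin m ⊕ Fin m) (Fin m ⊕ Fin m) F, a - b = a + b := fun a b => by
      have h5 : b + b = 0 := by rw [← two_smul F b, h2, zero_smul]
      rw [sub_eq_add_neg, neg_eq_of_add_eq_zero_left h5]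
    have hsF : s ∈ Z₀ := ⟨hsZ, by rw [hs, hadjs, hsub, hsub, add_comm]⟩
    obtain ⟨c, hc⟩ := hfixF s hsF
    have hc0 : c ≠ 0 := by rintro rfl; rw [zero_smul] at hc; exact hz₁ne (sub_eq_zero.mp hc).symm
    refine inSp_of_split hH hodd (k := c⁻¹ • z₁) ?_ fun g hg => ?_
    · rw [(spData m F).adj_smul, show (spData m F).σ c⁻¹ = c⁻¹ from rfl, ← smul_add, ← hsub, ← hs, hc, smul_smul,
        inv_mul_cancel₀ hc0, one_smul]
    · set k := c⁻¹ • z₁ with hk
      have hkZ : k ∈ Z := Subalgebra.smul_mem _ hz₁ _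
      have hk1 : k + (spData m F).adj k = 1 := by
        rw [hk, (spData m F).adj_smul, show (spData m F).σ c⁻¹ = c⁻¹ from rfl, ← smul_add, ← hsub, ← hs, hc, smul_smul,
          inv_mul_cancel₀ hc0, one_smul]
      have hN : k * (spData m F).adj k ∈ Z₀ := ⟨mul_mem hkZ (hadj _ hkZ), by
        rw [(spData m F).adj_mul, (spData m F).adj_adj]⟩
      obtain ⟨N, hN⟩ := hfixF _ hN
      set k' := conjHom g k with hk'
      have hk'Z : k' ∈ Z := hZH g hg k hkZ
      have hsum : k' + conjHom g ((spData m F).adj k) = 1 := by rw [hk', ← map_add, hk1, map_one]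
      have hprod : k' * conjHom g ((spData m F).adj k) = N • 1 := by rw [hk', ← map_mul, hN, map_smul, map_one]
      have hzero : (k' - k) * (k' - (spData m F).adj k) = 0 := by
        have e1 : conjHom g ((spData m F).adj k) = 1 - k' := eq_sub_of_add_eq' hsum
        rw [e1, mul_sub, mul_one] at hprod
        rw [mul_sub, sub_mul, sub_mul, hcomm k hkZ k' hk'Z, hN, ← hprod,
          show k' * (spData m F).adj k = k' - k' * k by
            rw [eq_sub_of_add_eq' hk1, mul_sub, mul_one]]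
        abel
      by_contra hcon
      push Not at hcon
      obtain ⟨y, -, hy⟩ := hinv _ (sub_mem hk'Z hkZ) (sub_ne_zero.mpr hcon.1)
      have hk'a : (k' - (spData m F).adj k) = 0 := by
        calc k' - (spData m F).adj k = (y * (k' - k)) * (k' - (spData m F).adj k) := by
              rw [mul_eq_one_comm.mp hy, one_mul]
          _ = 0 := by rw [mul_assoc, hzero, mul_zero]
      exact hcon.2 (sub_eq_zero.mp hk'a)

end Cfsg.Agent.MaxSub.Asch
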