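import Mathlib
import Cfsg.Agent.MaxSub.Asch.Symplectic
import Cfsg.Agent.MaxSub.Asch.Rationality
import Cfsg.Agent.Aschbacher.OrthogonalOdd

/-!
The subgroup structure of the odd-dimensional orthogonal groups: reducible, imprimitive, field and subfield cases.
-/

set_option autoImplicit false
set_option linter.unusedSectionVars false
set_option linter.style.haveILetI false

namespace Cfsg.Agent.MaxSub.Asch

open scoped MatrixGroups Matrix
open Module
open Cfsg.Agent.Aschbacher (NormalIn Inv Irr Rational)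

variable {F : Type*} [Field F] {m : ℕ}

/-- The index type of the odd orthogonal groups. -/
abbrev OIdx (m : ℕ) : Type := Unit ⊕ (Fin m ⊕ Fin m)

theorem polarOdd_bilinear : Geo.IsBilinearForm (QuadraticMap.polar (quadFormOdd m F)) := by
  rw [← Aschbacher.coe_stdOdd]
  exact ⟨fun x y v => QuadraticMap.polar_add_left (Aschbacher.stdOdd m F) x y v,
    fun c x v => by rw [QuadraticMap.polar_smul_left, smul_eq_mul],
    fun v x y => QuadraticMap.polar_add_right (Aschbacher.stdOdd m F) v x y,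
    fun c v x => by rw [QuadraticMap.polar_smul_right, smul_eq_mul]⟩

theorem polarOdd_self (v : OIdx m → F) : QuadraticMap.polar (quadFormOdd m F) v v = 2 * quadFormOdd m F v := by
  rw [← Aschbacher.coe_stdOdd, QuadraticMap.polar_self, nsmul_eq_mul, Nat.cast_ofNat]

theorem polarOdd_nondegenerate (h2 : (2 : F) ≠ 0) :
    Geo.IsNondegenerateForm (QuadraticMap.polar (quadFormOdd m F)) := by
  intro v hv
  have hn := Aschbacher.stdOdd_nondegenerate (m := m) h2
  have key : ∃ x, QuadraticMap.polar (quadFormOdd m F) v x ≠ 0 := by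
    by_contra hcon
    push Not at hcon
    refine hv (hn.1 v fun x => ?_)
    rw [QuadraticMap.polarBilin_apply_apply, Aschbacher.coe_stdOdd]
    exact hcon x
  obtain ⟨x, hx⟩ := key
  exact ⟨⟨x, by rwa [QuadraticMap.polar_comm]⟩, ⟨x, hx⟩⟩

variable [Fintype F]

theorem polarOdd_isGram :
    Aschbacher.IsGram (RingHom.id F) (QuadraticMap.polar (quadFormOdd m F))
      (Geo.gramMatrix (QuadraticMap.polar (quadFormOdd m F))) :=
  Aschbacher.exists_gram _ _ polarOdd_bilinear.add_left polarOdd_bilinear.smul_left polarOdd_bilinear.add_right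
    fun c v x => polarOdd_bilinear.smul_right c v x

/-- The standard odd orthogonal form as form data. -/
noncomputable def orthData (h2 : (2 : F) ≠ 0) : FormData (OIdx m) F where
  σ := RingHom.id F
  gram := (Aschbacher.gram_isUnit polarOdd_isGram (polarOdd_nondegenerate h2)).unit
  ε := 1
  invol := fun _ => rfl
  herm := by
    rw [one_smul, IsUnit.unit_spec]
    ext i j
    exact QuadraticMap.polar_comm _ _ _

variable (h2 : (2 : F) ≠ 0)

theorem orthData_gram : ((orthData (m := m) h2).gram : Matrix (OIdx m) (OIdx m) F) =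
    Geo.gramMatrix (QuadraticMap.polar (quadFormOdd m F)) :=
  IsUnit.unit_spec _

theorem orthData_form : (orthData (m := m) h2).form = QuadraticMap.polar (quadFormOdd m F) := by
  funext u v
  rw [polarOdd_isGram u v, FormData.form, orthData_gram]
  rfl

theorem map_id_eq {ι : Type} (M : Matrix ι ι F) : M.map (RingHom.id F) = M := Matrix.ext fun _ _ => rfl

theorem iso_apply {g : GL (OIdx m) F} (hg : g ∈ isometryGroup F (quadFormOdd m F)) (u : OIdx m → F) :
    quadFormOdd m F ((g : Matrix (OIdx m) (OIdx m) F) *ᵥ u) = quadFormOdd m F u :=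
  hg u u

theorem iso_polar {g : GL (OIdx m) F} (hg : g ∈ isometryGroup F (quadFormOdd m F)) (u v : OIdx m → F) :
    QuadraticMap.polar (quadFormOdd m F) ((g : Matrix (OIdx m) (OIdx m) F) *ᵥ u)
      ((g : Matrix (OIdx m) (OIdx m) F) *ᵥ v) = QuadraticMap.polar (quadFormOdd m F) u v := by
  simp only [QuadraticMap.polar, ← Matrix.mulVec_add, iso_apply hg]

theorem gram_of_iso {g : GL (OIdx m) F} (hg : g ∈ isometryGroup F (quadFormOdd m F)) :
    (g : Matrix (OIdx m) (OIdx m) F)ᵀ * Geo.gramMatrix (QuadraticMap.polar (quadFormOdd m F)) *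
      (g : Matrix (OIdx m) (OIdx m) F) = Geo.gramMatrix (QuadraticMap.polar (quadFormOdd m F)) := by
  have h := (Aschbacher.preserves_iff_gram polarOdd_isGram _).mp (iso_polar hg)
  rwa [map_id_eq] at h

variable {H : Subgroup (GL (OIdx m) F)}

theorem orth_isSim (hH : H ≤ isometryGroup F (quadFormOdd m F)) {g : GL (OIdx m) F}
    (hg : g ∈ H ⊔ Geo.scalars (OIdx m) F) : (orthData (m := m) h2).IsSim g := by
  obtain ⟨h, hh, z, hz, rfl⟩ := (Subgroup.mem_sup_of_normal_right (ht := Geo.scalars_normal)).mp hg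
  obtain ⟨c, hc⟩ := (Geo.mem_scalars_iff z).mp hz
  refine ⟨(c : F) * c, mul_ne_zero c.ne_zero c.ne_zero, ?_⟩
  rw [orthData_gram, show (orthData (m := m) h2).σ = RingHom.id F from rfl, map_id_eq]
  simp only [Units.val_mul, hc, Matrix.mul_smul, mul_one, Matrix.transpose_smul, Matrix.smul_mul]
  rw [gram_of_iso (hH hh), smul_smul]

/-- Containment in a member of one of the odd orthogonal classes. -/
abbrev InOO (H : Subgroup (GL (OIdx m) F)) : Prop := ∃ M, Geo.InOrthogonalOddClass m F M ∧ H ≤ M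

include h2

theorem inOO_reducible (hH : H ≤ isometryGroup F (quadFormOdd m F)) (hirr : ¬ Irr H) : InOO H := by
  classical
  set f := QuadraticMap.polar (quadFormOdd m F) with hf
  have hb : Geo.IsBilinearForm f := polarOdd_bilinear
  simp only [Irr, not_forall, not_or] at hirr
  obtain ⟨W, hW, hWb, hWt⟩ := hirr
  let P : Submodule F (OIdx m → F) :=
    { carrier := {x | ∀ w ∈ W, f w x = 0}
      add_mem' := fun {a b} ha hb' w hw => by rw [hb.add_right, ha w hw, hb' w hw, add_zero]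
      zero_mem' := fun w _ => form_zero_right hb w
      smul_mem' := fun c a ha w hw => by rw [hb.smul_right, ha w hw, mul_zero] }
  have hPi : Inv H P := by
    intro g hg x hx w hw
    have h1 := hW g⁻¹ (inv_mem hg) w hw
    rw [hf, ← Aschbacher.mulVec_inv_mulVec g w, iso_polar (hH hg)]
    exact hx _ h1
  by_cases hWP : W ⊓ P = ⊥
  · refine ⟨_, Or.inr <| Or.inl ⟨W, hWb, hWt, fun w hw hw0 => ?_, rfl⟩,
      le_inf (Aschbacher.inv_le_subspaceStabilizer hW) hH⟩
    obtain ⟨x, hx, hxw⟩ : ∃ x ∈ W, f x w ≠ 0 := by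
      by_contra hcon
      push Not at hcon
      exact hw0 ((Submodule.eq_bot_iff _).mp hWP w ⟨hw, hcon⟩)
    exact ⟨⟨x, hx, hxw⟩, ⟨x, hx, by rw [QuadraticMap.polar_comm]; exact hxw⟩⟩
  · have hU : Inv H (W ⊓ P) := fun g hg x hx => ⟨hW g hg x hx.1, hPi g hg x hx.2⟩
    refine ⟨_, Or.inl ⟨W ⊓ P, hWP, fun x hx => ?_, rfl⟩, le_inf (Aschbacher.inv_le_subspaceStabilizer hU) hH⟩
    have h1 : f x x = 0 := hx.2 x hx.1
    rw [hf, polarOdd_self] at h1
    exact (mul_eq_zero.mp h1).resolve_left h2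

/-- A group in a subfield group with a rational multiple of the form. -/
theorem inOO_rational (hH : H ≤ isometryGroup F (quadFormOdd m F)) {F₁ : Subfield F} {r : ℕ}
    (hr : r.Prime) (hcard : Fintype.card F = Nat.card F₁ ^ r) {B : GL (OIdx m) F}
    (hle : H ≤ Geo.subfieldSubgroup F₁ B⁻¹) {c : F} (hc0 : c ≠ 0)
    (hc : Rational F₁ (c • (((B⁻¹ : GL (OIdx m) F) : Matrix (OIdx m) (OIdx m) F)ᵀ *
      Geo.gramMatrix (QuadraticMap.polar (quadFormOdd m F)) *
      ((B⁻¹ : GL (OIdx m) F) : Matrix (OIdx m) (OIdx m) F)))) : InOO H := by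
  classical
  set Bi := ((B⁻¹ : GL (OIdx m) F) : Matrix (OIdx m) (OIdx m) F) with hBi
  set G := Geo.gramMatrix (QuadraticMap.polar (quadFormOdd m F)) with hG
  set s := c ^ m * Bi.det with hs
  have hGu : IsUnit G := Aschbacher.gram_isUnit polarOdd_isGram (polarOdd_nondegenerate h2)
  have hG0 : G.det ≠ 0 := ((Matrix.isUnit_iff_isUnit_det _).mp hGu).ne_zero
  have hBi0 : Bi.det ≠ 0 := ((Matrix.isUnit_iff_isUnit_det _).mp (B⁻¹).isUnit).ne_zero
  have hs0 : s ≠ 0 := mul_ne_zero (pow_ne_zero _ hc0) hBi0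
  have hφ : c * s * s ∈ F₁ := by
    have h1 : (c • (Biᵀ * G * Bi)).det ∈ F₁ := Aschbacher.Rational.det hc
    rw [Matrix.det_smul, Matrix.det_mul, Matrix.det_mul, Matrix.det_transpose] at h1
    have hGF : G.det ∈ F₁ := by rw [hG, ← Aschbacher.coe_stdOdd]; exact Aschbacher.stdOdd_disc F₁
    have h3 := mul_mem h1 (inv_mem hGF)
    convert h3 using 1
    rw [show Fintype.card (OIdx m) = 2 * m + 1 by simp; omega, hs]
    field_simp
    ring
  obtain ⟨z, hz, hzc⟩ := Aschbacher.mem_scalars_smul (ι := OIdx m) (inv_ne_zero hs0)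
  have hz' : MulAut.conj (B⁻¹ * z) = MulAut.conj B⁻¹ := MulEquiv.ext fun x => by
    simp only [MulAut.conj_apply]
    calc B⁻¹ * z * x * (B⁻¹ * z)⁻¹ = B⁻¹ * (z * x * z⁻¹) * B⁻¹⁻¹ := by group
      _ = B⁻¹ * x * B⁻¹⁻¹ := by rw [← Aschbacher.scalars_central hz x, mul_inv_cancel_right]
  have hle' : H ≤ Geo.subfieldSubgroup F₁ (B⁻¹ * z) := by
    rw [Geo.subfieldSubgroup, hz']; exact hle
  refine ⟨_, Or.inr <| Or.inr <| Or.inr <| Or.inr <| Or.inr <| Or.inr <| Or.inl
    ⟨F₁, r, B⁻¹ * z, hr, hcard, fun u hu => ?_, rfl⟩, le_inf hle' hH⟩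
  have hPv : ((B⁻¹ * z : GL (OIdx m) F) : Matrix (OIdx m) (OIdx m) F) = s⁻¹ • Bi := by
    rw [Units.val_mul, hzc, Matrix.mul_smul, mul_one]
  have h5 : QuadraticMap.polar (quadFormOdd m F) (((B⁻¹ * z : GL (OIdx m) F) : Matrix (OIdx m) (OIdx m) F) *ᵥ u)
      (((B⁻¹ * z : GL (OIdx m) F) : Matrix (OIdx m) (OIdx m) F) *ᵥ u) =
      (c * s * s)⁻¹ * (u ⬝ᵥ ((c • (Biᵀ * G * Bi)) *ᵥ u)) := by
    have hg := polarOdd_isGram.comp (((B⁻¹ * z : GL (OIdx m) F) : Matrix (OIdx m) (OIdx m) F)) u u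
    simp only [RingHom.id_apply] at hg
    rw [hg, map_id_eq, hPv, Matrix.transpose_smul, Matrix.smul_mul, Matrix.smul_mul, Matrix.mul_smul, smul_smul,
      Matrix.smul_mulVec, Matrix.smul_mulVec, dotProduct_smul, dotProduct_smul, smul_eq_mul, smul_eq_mul, ← hG]
    field_simp
  rw [polarOdd_self] at h5
  have h6 : quadFormOdd m F (((B⁻¹ * z : GL (OIdx m) F) : Matrix (OIdx m) (OIdx m) F) *ᵥ u) =
      2⁻¹ * ((c * s * s)⁻¹ * (u ⬝ᵥ ((c • (Biᵀ * G * Bi)) *ᵥ u))) := by
    rw [← h5, ← mul_assoc, inv_mul_cancel₀ h2, one_mul]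
  rw [h6]
  refine mul_mem (inv_mem ?_) (mul_mem (inv_mem hφ) ?_)
  · rw [← one_add_one_eq_two]; exact add_mem (one_mem _) (one_mem _)
  · simp only [dotProduct, Matrix.mulVec, Finset.mul_sum]
    exact sum_mem fun i _ => sum_mem fun j _ => mul_mem (hu i) (mul_mem (hc i j) (hu j))

/-- A normal absolutely irreducible subgroup realisable over a subfield. -/
theorem inOO_of_realisable (hH : H ≤ isometryGroup F (quadFormOdd m F)) {P : Subgroup (GL (OIdx m) F)}
    (hPI : P ≤ isometryGroup F (quadFormOdd m F)) (hnP : NormalIn P H)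
    (habs : Geo.ActsAbsolutelyIrreducibly (Geo.matrixSet P)) {F₀ : Subfield F} (hF₀ : F₀ ≠ ⊤)
    (hreal : Geo.RealisableOver F₀ (Geo.matrixSet P)) : InOO H := by
  obtain ⟨B, hB⟩ := hreal
  obtain ⟨F₁, r, hr, hcard, hle⟩ := Aschbacher.exists_prime_index_above F₀ hF₀
  have hrat : ∀ s ∈ P, Rational F₁ ((B * s * B⁻¹ : GL (OIdx m) F) : Matrix (OIdx m) (OIdx m) F) :=
    fun s hs i j => hle (by simpa using hB _ ⟨s, hs, rfl⟩ i j)
  obtain ⟨c, hc0, hc⟩ := exists_rational_gram (σ := RingHom.id F)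
    (Aschbacher.gram_isUnit polarOdd_isGram (polarOdd_nondegenerate (m := m) h2)) habs
    (fun s hs => by rw [map_id_eq]; exact gram_of_iso (hPI hs)) hrat
  rw [map_id_eq] at hc
  exact inOO_rational h2 hH hr hcard (Aschbacher.le_subfieldSubgroup habs hnP hrat) hc0 hc

/-- An orthogonal decomposition stabilised by an irreducible group. -/
theorem inOO_decomp (hH : H ≤ isometryGroup F (quadFormOdd m F)) (hirr : Irr H) {t k : ℕ}
    {D : Fin t → Submodule F (OIdx m → F)}
    (hD : Geo.IsNondegenerateMDecomposition (QuadraticMap.polar (quadFormOdd m F)) k D)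
    (hle : H ≤ Geo.decompositionStabilizer D) : InOO H := by
  classical
  have hne : ∀ i, D i ≠ ⊥ := fun i h => by
    have := hD.decomp.finrank_eq i
    rw [h, finrank_bot] at this
    exact (hD.decomp.pos).ne this
  have hmap : ∀ g ∈ H, ∀ i, ∃ j, (D i).map (Matrix.toLin' (g : Matrix (OIdx m) (OIdx m) F)) = D j := fun g hg i => by
    obtain ⟨σ, hσ⟩ := hle hg
    exact ⟨σ i, hσ i⟩
  have htrans : ∀ i j, ∃ g ∈ H, (D i).map (Matrix.toLin' (g : Matrix (OIdx m) (OIdx m) F)) = D j := by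
    intro i
    let O : Set (Fin t) := {j | ∃ g ∈ H, (D i).map (Matrix.toLin' (g : Matrix (OIdx m) (OIdx m) F)) = D j}
    have hiO : i ∈ O := ⟨1, one_mem _, by simp⟩
    let U : Submodule F (OIdx m → F) := ⨆ (j) (_ : j ∈ O), D j
    have hU : Inv H U := by
      intro g hg x hx
      have hUle : U ≤ U.comap (Matrix.toLin' (g : Matrix (OIdx m) (OIdx m) F)) := by
        refine iSup₂_le fun j hj => ?_
        obtain ⟨h, hh, hhj⟩ := hj
        obtain ⟨l, hl⟩ := hmap g hg j
        refine Submodule.map_le_iff_le_comap.mp ?_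
        rw [hl]
        refine le_iSup₂_of_le l ⟨g * h, mul_mem hg hh, ?_⟩ le_rfl
        rw [Units.val_mul, Matrix.toLin'_mul, Submodule.map_comp, hhj, hl]
      exact hUle hx
    intro j
    by_contra hj
    rcases hirr U hU with hb | ht
    · exact hne i (le_bot_iff.mp (hb ▸ le_iSup₂_of_le i hiO le_rfl))
    · have hdis : Disjoint (D j) U := (hD.decomp.indep j).mono_right
        (iSup₂_le fun l hl => le_iSup₂_of_le l (by rintro rfl; exact hj hl) le_rfl)
      rw [ht, disjoint_top] at hdis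
      exact hne j hdis
  have hiso : ∀ i j, Geo.AreIsometricFor (quadFormOdd m F) (D i) (D j) := by
    intro i j
    obtain ⟨g, hg, hgj⟩ := htrans i j
    refine ⟨((Aschbacher.glEquiv g).submoduleMap (D i)).trans (LinearEquiv.ofEq _ _ hgj), fun w => ?_⟩
    exact iso_apply (hH hg) w
  by_cases hk : 1 < k
  · exact ⟨_, Or.inr <| Or.inr <| Or.inl ⟨t, k, D, hk, ⟨hD, hiso⟩, rfl⟩, le_inf hle hH⟩
  obtain rfl : k = 1 := by have := hD.decomp.pos; omega
  by_cases hp : (Fintype.card F).Prime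
  · exact ⟨_, Or.inr <| Or.inr <| Or.inr <| Or.inl ⟨t, D, hp, ⟨hD, hiso⟩, rfl⟩, le_inf hle hH⟩
  -- monomial groups are realised over the prime field
  let i₀ : Fin t := ⟨0, by have := hD.decomp.two_le; omega⟩
  obtain ⟨v₀, hv₀, hv₀0⟩ := (Submodule.ne_bot_iff _).mp (hne i₀)
  choose g hg hgD using htrans i₀
  let v : Fin t → (OIdx m → F) := fun j => (g j : Matrix (OIdx m) (OIdx m) F) *ᵥ v₀
  have hvD : ∀ j, v j ∈ D j := fun j => hgD j ▸ ⟨v₀, hv₀, Matrix.toLin'_apply _ _⟩
  have hv0 : ∀ j, v j ≠ 0 := fun j h => hv₀0 (Aschbacher.mulVec_gl_inj (g j) (by simpa [v] using h))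
  have hspan : ∀ j, ∀ x ∈ D j, ∃ a : F, x = a • v j := fun j x hx => by
    obtain ⟨a, ha⟩ := exists_smul_eq_of_finrank_eq_one (hD.decomp.finrank_eq j)
      (x := ⟨v j, hvD j⟩) (fun h => hv0 j (congrArg Subtype.val h)) ⟨x, hx⟩
    exact ⟨a, (congrArg Subtype.val ha).symm⟩
  have hli : LinearIndependent F v := hD.decomp.indep.linearIndependent D hvD hv0
  have htop : ⊤ ≤ Submodule.span F (Set.range v) := by
    rw [← hD.decomp.iSup_eq_top]
    refine iSup_le fun j x hx => ?_
    obtain ⟨a, rfl⟩ := hspan j x hx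
    exact Submodule.smul_mem _ _ (Submodule.subset_span ⟨j, rfl⟩)
  let b₀ := Basis.mk hli htop
  let e : Fin t ≃ OIdx m := b₀.indexEquiv (Pi.basisFun F (OIdx m))
  let b : Basis (OIdx m) F (OIdx m → F) := b₀.reindex e
  have hb : ∀ i, b i = v (e.symm i) := fun i => by simp [b, b₀]
  set B := Aschbacher.coordGL b with hB
  let F₀ : Subfield F := (⊥ : Subfield F)
  have hF₀ : F₀ ≠ ⊤ := by
    intro htop'
    refine hp ?_
    obtain ⟨p, hpc⟩ := CharP.exists F
    haveI : Fact p.Prime := ⟨CharP.char_is_prime F p⟩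
    have hb : Function.Bijective (ZMod.castHom (dvd_refl p) F) := ⟨RingHom.injective _, fun x => by
      have hle : F₀ ≤ (ZMod.castHom (dvd_refl p) F).fieldRange := bot_le
      exact RingHom.mem_fieldRange.mp (hle (htop' ▸ Subfield.mem_top x))⟩
    rw [← Fintype.card_of_bijective hb, ZMod.card]
    exact Fact.out
  obtain ⟨F₁, r, hr, hcard, hF₀₁⟩ := Aschbacher.exists_prime_index_above F₀ hF₀
  set a := quadFormOdd m F v₀ with ha
  have hQv : ∀ j, quadFormOdd m F (v j) = a := fun j => iso_apply (hH (hg j)) v₀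
  have ha0 : a ≠ 0 := by
    intro h0
    obtain ⟨x, hx, hxv⟩ := (hD.nondegenerate i₀ v₀ hv₀ hv₀0).1
    obtain ⟨s, rfl⟩ := hspan i₀ x hx
    obtain ⟨s', hs'⟩ := hspan i₀ v₀ hv₀
    refine hxv ?_
    rw [polarOdd_bilinear.smul_left]
    conv_lhs => arg 2; arg 3; rw [hs']
    rw [polarOdd_bilinear.smul_right, polarOdd_self, hQv, h0]
    ring
  have hmon : ∀ h ∈ H, Aschbacher.RationalOn F₁ b (h : Matrix (OIdx m) (OIdx m) F) := by
    intro h hh k i
    obtain ⟨j, hj⟩ := hmap h hh (e.symm k)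
    obtain ⟨s, hs⟩ := hspan j ((h : Matrix (OIdx m) (OIdx m) F) *ᵥ v (e.symm k))
      (hj ▸ ⟨v (e.symm k), hvD _, Matrix.toLin'_apply _ _⟩)
    have hs2 : s * s = 1 := by
      have h1 := iso_polar (hH hh) (v (e.symm k)) (v (e.symm k))
      rw [hs, polarOdd_bilinear.smul_left, polarOdd_bilinear.smul_right, polarOdd_self, polarOdd_self, hQv, hQv] at h1
      refine mul_right_cancel₀ (mul_ne_zero h2 ha0) ?_
      linear_combination h1
    rw [hb, hs, show v j = b (e j) by rw [hb, Equiv.symm_apply_apply], map_smul, Pi.smul_apply, smul_eq_mul,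
      Module.Basis.equivFun_self]
    rcases mul_self_eq_one_iff.mp hs2 with rfl | rfl <;> split_ifs <;> simp [one_mem, zero_mem, neg_mem]
  refine inOO_rational h2 hH hr hcard (B := B) (fun h hh => ?_) (c := (2 * a)⁻¹)
    (inv_ne_zero (mul_ne_zero h2 ha0)) fun i j => ?_
  · refine Aschbacher.mem_subfieldSubgroup one_ne_zero ?_
    rw [one_smul, inv_inv, hB]
    exact Aschbacher.rational_of_rationalOn (hmon h hh)
  · have hcol : ∀ k, ((B⁻¹ : GL (OIdx m) F) : Matrix (OIdx m) (OIdx m) F) *ᵥ Pi.single k 1 = b k := by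
      intro k
      refine Aschbacher.mulVec_gl_inj B ?_
      show _ *ᵥ _ = _ *ᵥ _
      rw [Aschbacher.mulVec_inv_mulVec, hB, Aschbacher.coordGL_mulVec]
      ext l
      simp [Pi.single_apply, eq_comm]
    have hg' := polarOdd_isGram.comp (((B⁻¹ : GL (OIdx m) F) : Matrix (OIdx m) (OIdx m) F))
      (Pi.single i 1) (Pi.single j 1)
    simp only [hcol, map_id_eq, RingHom.id_apply] at hg'
    rw [hb, hb] at hg'
    simp [-Matrix.coe_units_inv] at hg'
    rw [Matrix.smul_apply, smul_eq_mul, ← hg']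
    rcases eq_or_ne i j with rfl | hij
    · rw [polarOdd_self, hQv, inv_mul_cancel₀ (mul_ne_zero h2 ha0)]; exact one_mem _
    · rw [hD.orthogonal _ _ (fun h => hij (e.symm.injective h)) _ (hvD _) _ (hvD _), mul_zero]; exact zero_mem _

omit h2 in
theorem dvd_of_field_hom {ι : Type} [Fintype ι] [DecidableEq ι] {K : Type*} [Field K] [Algebra F K]
    (φ : K →ₐ[F] Matrix ι ι F) : finrank F K ∣ Fintype.card ι := by
  letI : Module K (ι → F) :=
    Module.compHom _ ((Matrix.toLinAlgEquiv' : Matrix ι ι F ≃ₐ[F] _).toAlgHom.comp φ).toRingHom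
  haveI : IsScalarTower F K (ι → F) := ⟨fun c k v => by
    show φ (c • k) *ᵥ v = c • (φ k *ᵥ v)
    rw [map_smul, Matrix.smul_mulVec]⟩
  refine ⟨finrank K (ι → F), ?_⟩
  rw [Module.finrank_mul_finrank, Module.finrank_pi]

omit h2 in
/-- The order of a field subalgebra divides the dimension. -/
theorem field_dvd_card {ι : Type} [Fintype ι] [DecidableEq ι] {r : ℕ} {K : Subalgebra F (Matrix ι ι F)}
    (hK : Geo.IsFieldSubalgebra r K) (hr : 0 < r) : r ∣ Fintype.card ι := by
  classical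
  haveI : Nontrivial K := Module.nontrivial_of_finrank_pos (R := F) (by rw [hK.finrank_eq]; exact hr)
  have hfld : IsField K :=
    { exists_pair_ne := exists_pair_ne K
      mul_comm := fun x y => Subtype.ext (hK.comm x x.2 y y.2)
      mul_inv_cancel := fun {x} hx => by
        obtain ⟨y, hy, hxy⟩ := hK.inv x x.2 fun h => hx (Subtype.ext h)
        exact ⟨⟨y, hy⟩, Subtype.ext hxy⟩ }
  letI : Field K := hfld.toField
  have h := dvd_of_field_hom (F := F) (ι := ι) (K := K) K.val
  rwa [hK.finrank_eq] at h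

omit h2 in
/-- A field subalgebra of full degree is its own centraliser. -/
theorem field_centraliser {ι : Type} [Fintype ι] [DecidableEq ι] [Nonempty ι]
    {K : Subalgebra F (Matrix ι ι F)} (hK : Geo.IsFieldSubalgebra (Fintype.card ι) K) {M : Matrix ι ι F}
    (hM : ∀ k ∈ K, M * k = k * M) : M ∈ K := by
  classical
  let v : ι → F := Pi.single (Classical.arbitrary ι) 1
  have hv : v ≠ 0 := by simp [v]
  let L : K →ₗ[F] (ι → F) :=
    { toFun := fun k => (k : Matrix ι ι F) *ᵥ v
      map_add' := fun a b => Matrix.add_mulVec _ _ _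
      map_smul' := fun c a => Matrix.smul_mulVec _ _ _ }
  have hinj : Function.Injective L := by
    refine (injective_iff_map_eq_zero L).mpr fun k hk => ?_
    by_contra h0
    obtain ⟨y, hy, hky⟩ := hK.inv k k.2 fun h => h0 (Subtype.ext h)
    refine hv ?_
    rw [← Matrix.one_mulVec v, ← hky, hK.comm _ k.2 _ hy, ← Matrix.mulVec_mulVec,
      show (k : Matrix ι ι F) *ᵥ v = 0 from hk, Matrix.mulVec_zero]
  have hsurj : Function.Surjective L :=
    (LinearMap.injective_iff_surjective_of_finrank_eq_finrank (by rw [hK.finrank_eq, Module.finrank_pi])).mp hinj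
  obtain ⟨k, hk⟩ := hsurj (M *ᵥ v)
  have hMk : M = (k : Matrix ι ι F) := by
    refine Matrix.ext_of_mulVec_single fun i => ?_
    obtain ⟨k', hk'⟩ := hsurj (Pi.single i 1)
    change (k' : Matrix ι ι F) *ᵥ v = _ at hk'
    change (k : Matrix ι ι F) *ᵥ v = _ at hk
    rw [← hk', Matrix.mulVec_mulVec, Matrix.mulVec_mulVec, hM _ k'.2, ← Matrix.mulVec_mulVec, ← hk,
      Matrix.mulVec_mulVec, hK.comm _ k'.2 _ k.2]
  exact hMk ▸ k.2

/-- A normalised commutative reduced algebra, closed under adjoints, other than the scalars. -/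
theorem inOO_algebra (hH : H ≤ isometryGroup F (quadFormOdd m F)) (hirr : Irr H)
    {Z : Subalgebra F (Matrix (OIdx m) (OIdx m) F)} (hcomm : ∀ x ∈ Z, ∀ y ∈ Z, x * y = y * x)
    (hred : ∀ z ∈ Z, IsNilpotent z → z = 0) (hadj : ∀ z ∈ Z, (orthData (m := m) h2).adj z ∈ Z)
    (hZH : ∀ g ∈ H, ∀ z ∈ Z, conjHom g z ∈ Z) (hne : finrank F Z ≠ 1)
    (hfull : ∀ K : Subalgebra F (Matrix (OIdx m) (OIdx m) F), K ≤ Z →
      Geo.IsFieldSubalgebra (2 * m + 1) K → (∀ k ∈ K, (orthData (m := m) h2).adj k = k) → False) :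
    InOO H := by
  classical
  haveI : Nonempty (OIdx m) := ⟨Sum.inl ()⟩
  have hsim : ∀ g ∈ H, (orthData (m := m) h2).IsSim g := fun g hg => orth_isSim h2 hH (Subgroup.mem_sup_left hg)
  have hcard : Fintype.card (OIdx m) = 2 * m + 1 := by simp; omega
  by_cases hid : ∃ e ∈ Z, e * e = e ∧ e ≠ 0 ∧ e ≠ 1
  · obtain ⟨e, he, hee, h0, h1⟩ := hid
    rcases (orthData (m := m) h2).decomp_of_idempotent hcomm hadj hirr hsim hZH he hee h0 h1 with
      ⟨t, k, D, hD, hle⟩ | ⟨k, D, hD, -, -, -⟩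
    · exact inOO_decomp h2 hH hirr (orthData_form (m := m) h2 ▸ hD) hle
    · have h := finrank_of_pair hD
      rw [hcard] at h
      omega
  have hinv := fun x (hx : x ∈ Z) (h0 : x ≠ 0) => inv_of_no_idem hred hid hx h0
  obtain ⟨r, K, hr, hK, hle, hKZ, hKmem⟩ := exists_prime_field' hcomm hinv hZH hne
  have hrodd : Odd r := by
    have h := field_dvd_card hK hr.pos
    rw [hcard] at h
    exact Odd.of_dvd_nat (by simp) h
  have hKadj : ∀ k ∈ K, (orthData (m := m) h2).adj k ∈ K := fun k hk => by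
    obtain ⟨hkZ, hkp⟩ := (hKmem k).mp hk
    exact (hKmem _).mpr ⟨hadj k hkZ, by rw [← (orthData (m := m) h2).adj_pow, hkp]⟩
  have hsa : ∀ k ∈ K, (orthData (m := m) h2).adj k = k := by
    haveI : Finite (Matrix (OIdx m) (OIdx m) F) := Pi.finite
    haveI : Finite K := Subtype.finite
    haveI : Nontrivial K := Module.nontrivial_of_finrank_pos (R := F) (by rw [hK.finrank_eq]; exact hr.pos)
    have hfld : IsField K :=
      { exists_pair_ne := exists_pair_ne K
        mul_comm := fun x y => Subtype.ext (hK.comm x x.2 y y.2)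
        mul_inv_cancel := fun {x} hx => by
          obtain ⟨y, hy, hxy⟩ := hK.inv x x.2 fun h => hx (Subtype.ext h)
          exact ⟨⟨y, hy⟩, Subtype.ext hxy⟩ }
    letI : Field K := hfld.toField
    have hτ2 : ∀ x : K, (orthData (m := m) h2).adj ((orthData (m := m) h2).adj x) = x :=
      fun x => (orthData (m := m) h2).adj_adj _
    let τ : K ≃ₐ[F] K :=
      { toFun := fun x => ⟨(orthData (m := m) h2).adj x, hKadj x x.2⟩
        invFun := fun x => ⟨(orthData (m := m) h2).adj x, hKadj x x.2⟩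
        left_inv := fun x => Subtype.ext (hτ2 x)
        right_inv := fun x => Subtype.ext (hτ2 x)
        map_mul' := fun x y => Subtype.ext (by
          show (orthData (m := m) h2).adj ((x : Matrix (OIdx m) (OIdx m) F) * y) = _
          rw [(orthData (m := m) h2).adj_mul]
          exact hK.comm _ (hKadj _ y.2) _ (hKadj _ x.2))
        map_add' := fun x y => Subtype.ext ((orthData (m := m) h2).adj_add _ _)
        commutes' := fun c => Subtype.ext (by
          show (orthData (m := m) h2).adj (algebraMap F (Matrix (OIdx m) (OIdx m) F) c) = algebraMap F _ c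
          rw [Algebra.algebraMap_eq_smul_one, (orthData (m := m) h2).adj_smul, (orthData (m := m) h2).adj_one]
          rfl) }
    have hcardAut : Nat.card (K ≃ₐ[F] K) = r := by rw [IsGalois.card_aut_eq_finrank, hK.finrank_eq]
    have hτ : τ = 1 := by
      have h1 : orderOf τ ∣ 2 := orderOf_dvd_of_pow_eq_one (AlgEquiv.ext fun x => Subtype.ext (hτ2 x))
      have h3 : orderOf τ ∣ r := hcardAut ▸ orderOf_dvd_natCard τ
      exact orderOf_eq_one_iff.mp (Nat.dvd_one.mp ((Nat.coprime_two_left.mpr hrodd) ▸ Nat.dvd_gcd h1 h3))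
    intro k hk
    exact congrArg (fun x : K => (x : Matrix (OIdx m) (OIdx m) F)) (DFunLike.congr_fun hτ ⟨k, hk⟩)
  refine ⟨_, Or.inr <| Or.inr <| Or.inr <| Or.inr <| Or.inl ⟨r, K, hr, fun h => hfull K hKZ (h ▸ hK) hsa, hK,
    fun k hk u v => ?_, rfl⟩, le_inf hle hH⟩
  rw [← orthData_form (m := m) h2, (orthData (m := m) h2).form_adj, hsa k hk]

end Cfsg.Agent.MaxSub.Asch
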