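import Mathlib
import Cfsg.Agent.MaxSub.Asch.Symplectic

/-!
Normal subgroups of a symplectic group which are not absolutely irreducible.
-/

set_option autoImplicit false
set_option linter.unusedSectionVars false
set_option linter.style.haveILetI false

namespace Cfsg.Agent.MaxSub.Asch

open scoped MatrixGroups Matrix Kronecker
open Module
open Cfsg.Agent.Aschbacher (NormalIn Inv Irr)

variable {F : Type*} [Field F]

theorem kronecker_left_cancel {d k : ℕ} {A : Matrix (Fin d) (Fin d) F} {B D : Matrix (Fin k) (Fin k) F}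
    (h : A ⊗ₖ B = A ⊗ₖ D) (hA : A ≠ 0) : B = D := by
  obtain ⟨i, j, hij⟩ : ∃ i j, A i j ≠ 0 := by
    by_contra hcon
    push Not at hcon
    exact hA (Matrix.ext hcon)
  ext a b
  have h1 := congrFun (congrFun h (i, a)) (j, b)
  simp only [Matrix.kroneckerMap_apply] at h1
  exact mul_left_cancel₀ hij h1

theorem gramMatrix_gramForm {κ : Type} [Fintype κ] [DecidableEq κ] (G : Matrix κ κ F) :
    Geo.gramMatrix (gramForm G) = G := by
  ext a b
  simp [Geo.gramMatrix, gramForm]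

/-- In characteristic two a symmetric form is the square of a linear functional on the diagonal. -/
theorem exists_diag_functional [Finite F] {κ : Type} [Fintype κ] [DecidableEq κ] (h2 : (2 : F) = 0)
    {G : Matrix κ κ F} (hG : Gᵀ = G) :
    ∃ r : κ → F, (∀ i, r i * r i = G i i) ∧ ∀ v, gramForm G v v = (∑ i, r i * v i) ^ 2 := by
  classical
  haveI := Fintype.ofFinite F
  haveI : CharP F 2 := ringChar.of_eq (by
    have hd : ringChar F ∣ 2 := (ringChar.spec F 2).mp (by simpa using h2)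
    rcases (Nat.dvd_prime Nat.prime_two).mp hd with h | h
    · exact absurd h (CharP.ringChar_ne_one)
    · exact h)
  have hsurj : Function.Surjective fun x : F => x * x := by
    refine Finite.injective_iff_surjective.mp fun x y hxy => ?_
    have h1 : (x - y) ^ 2 = 0 := by
      rw [sub_pow_char, pow_two, pow_two]
      exact sub_eq_zero.mpr hxy
    exact sub_eq_zero.mp ((pow_eq_zero_iff two_ne_zero).mp h1)
  choose s hs using hsurj
  refine ⟨fun i => s (G i i), fun i => hs _, fun v => ?_⟩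
  set D := G - Matrix.diagonal fun i => G i i with hD
  have hneg : ∀ a : F, -a = a := fun a => neg_eq_of_add_eq_zero_left (by rw [← two_mul, h2, zero_mul])
  have h0 : gramForm D v v = 0 := gramForm_self_eq_zero (by
      rw [hD, Matrix.transpose_sub, hG, Matrix.diagonal_transpose]
      ext i j; exact (hneg _).symm)
    (fun i => by simp [hD]) v
  have h1 : gramForm G v v = gramForm (Matrix.diagonal fun i => G i i) v v := by
    rw [← sub_eq_zero, ← h0, hD]
    simp [gramForm, Matrix.sub_mulVec, dotProduct_sub]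
  rw [h1, sum_pow_char 2]
  simp only [gramForm, Matrix.mulVec_diagonal, dotProduct]
  refine Finset.sum_congr rfl fun i _ => ?_
  have := hs (G i i)
  simp only at this
  linear_combination (-(v i) ^ 2) * this

/-- Exchanging the factors. -/
theorem tensor_swap_sum {ι : Type} [Fintype ι] [DecidableEq ι] {d k : ℕ} (e : ι ≃ Fin d × Fin k) (P : GL ι F) :
    Geo.tensorProductSubgroup d k e P ≤ Geo.tensorProductSubgroup k d (e.trans (Equiv.prodComm _ _)) P := by
  rintro g ⟨_, ⟨h, ⟨a, b, hab⟩, rfl⟩, rfl⟩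
  obtain ⟨h', hh'⟩ := exists_tr_preimage (e.trans (Equiv.prodComm (Fin d) (Fin k))) P
    (MulAut.conj P (Geo.glReindex e.symm h))
  refine mem_transport _ P (h := h') ⟨b, a, ?_⟩ hh'
  apply (tr (e.trans (Equiv.prodComm (Fin d) (Fin k))) P).injective
  rw [← hh', tr_eq_conj_glReindex, hab, tr_apply, tr_apply]
  congr 2
  ext i j
  simp [mul_comm]

variable [Fintype F] {m : ℕ} {H : Subgroup (GL (Fin m ⊕ Fin m) F)}

/-- The elements of a tensor product subgroup in coordinates. -/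
theorem exists_factors (hH : H ≤ spGL m F) {d k : ℕ} (hd : 0 < d) (hk : 0 < k)
    {e : (Fin m ⊕ Fin m) ≃ Fin d × Fin k} {P : GL (Fin m ⊕ Fin m) F} (hle : H ≤ Geo.tensorProductSubgroup d k e P)
    {G₁ : GL (Fin d) F} {G₂ : GL (Fin k) F}
    (hgram : (((spData m F).transport e P).gram : Matrix (Fin d × Fin k) (Fin d × Fin k) F) =
      (G₁ : Matrix (Fin d) (Fin d) F) ⊗ₖ (G₂ : Matrix (Fin k) (Fin k) F)) :
    ∀ g ∈ H, ∃ (a : GL (Fin d) F) (b : GL (Fin k) F) (c : F), c ≠ 0 ∧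
      (g : Matrix (Fin m ⊕ Fin m) (Fin m ⊕ Fin m) F) =
        tr e P ((a : Matrix (Fin d) (Fin d) F) ⊗ₖ (b : Matrix (Fin k) (Fin k) F)) ∧
      (a : Matrix (Fin d) (Fin d) F)ᵀ * (G₁ : Matrix (Fin d) (Fin d) F) * (a : Matrix (Fin d) (Fin d) F) =
        c • (G₁ : Matrix (Fin d) (Fin d) F) ∧
      (b : Matrix (Fin k) (Fin k) F)ᵀ * (G₂ : Matrix (Fin k) (Fin k) F) * (b : Matrix (Fin k) (Fin k) F) =
        c⁻¹ • (G₂ : Matrix (Fin k) (Fin k) F) := by
  haveI : Nonempty (Fin d) := ⟨⟨0, hd⟩⟩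
  haveI : Nonempty (Fin k) := ⟨⟨0, hk⟩⟩
  intro g hg
  obtain ⟨_, ⟨h, ⟨a, b, hab⟩, rfl⟩, hge⟩ := hle hg
  have hgv : (g : Matrix (Fin m ⊕ Fin m) (Fin m ⊕ Fin m) F) = tr e P (h : Matrix (Fin d × Fin k) (Fin d × Fin k) F) := by
    rw [← hge, ← tr_eq_conj_glReindex]; rfl
  have h1 := (spData m F).transport_sim e P hgv (c := 1) (by rw [one_smul]; exact gram_of_mem_spGL (hH hg))
  rw [one_smul, hgram, hab, show (spData m F).σ = RingHom.id F from rfl,
    show ((a : Matrix (Fin d) (Fin d) F) ⊗ₖ (b : Matrix (Fin k) (Fin k) F)).map (RingHom.id F) =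
      (a : Matrix (Fin d) (Fin d) F) ⊗ₖ (b : Matrix (Fin k) (Fin k) F) from Matrix.ext fun _ _ => rfl,
    ← Matrix.kroneckerMap_transpose, ← Matrix.mul_kronecker_mul, ← Matrix.mul_kronecker_mul] at h1
  have hne : (b : Matrix (Fin k) (Fin k) F)ᵀ * (G₂ : Matrix (Fin k) (Fin k) F) * (b : Matrix (Fin k) (Fin k) F) ≠ 0 := by
    intro h0
    rw [h0] at h1
    exact (((spData m F).transport e P).gram.ne_zero) (by rw [hgram, ← h1]; exact Matrix.kronecker_zero _)
  obtain ⟨c, hc⟩ := kronecker_eq_imp h1 hne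
  have hc0 : c ≠ 0 := by
    rintro rfl
    rw [zero_smul] at hc
    have hu : IsUnit ((a : Matrix (Fin d) (Fin d) F)ᵀ * (G₁ : Matrix (Fin d) (Fin d) F) * (a : Matrix (Fin d) (Fin d) F)) :=
      (((Matrix.isUnit_transpose (A := (a : Matrix (Fin d) (Fin d) F))).mpr a.isUnit).mul G₁.isUnit).mul a.isUnit
    rw [hc] at hu
    exact not_isUnit_zero hu
  refine ⟨a, b, c, hc0, by rw [hgv, hab], hc, ?_⟩
  rw [hc, Matrix.smul_kronecker, ← Matrix.kronecker_smul] at h1
  conv_rhs => rw [← kronecker_left_cancel h1 G₁.ne_zero, smul_smul, inv_mul_cancel₀ hc0, one_smul]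

/-- A two-dimensional symmetric tensor factor gives a normalised algebra. -/
theorem inSp_tensor_two (hm : 1 ≤ m) (hH : H ≤ spGL m F) (hirr : Irr H) (hodd : Odd (Fintype.card F)) {d : ℕ}
    (hd : 0 < d) {e : (Fin m ⊕ Fin m) ≃ Fin d × Fin 2} {P : GL (Fin m ⊕ Fin m) F}
    (hle : H ≤ Geo.tensorProductSubgroup d 2 e P) {G₁ : GL (Fin d) F} {G₂ : GL (Fin 2) F}
    (hgram : (((spData m F).transport e P).gram : Matrix (Fin d × Fin 2) (Fin d × Fin 2) F) =
      (G₁ : Matrix (Fin d) (Fin d) F) ⊗ₖ (G₂ : Matrix (Fin 2) (Fin 2) F))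
    (hT2 : (G₂ : Matrix (Fin 2) (Fin 2) F)ᵀ = (G₂ : Matrix (Fin 2) (Fin 2) F)) : InSp H := by
  classical
  haveI : Nonempty (Fin d) := ⟨⟨0, hd⟩⟩
  haveI : Nonempty (Fin m ⊕ Fin m) := ⟨Sum.inl ⟨0, hm⟩⟩
  have h2 := Aschbacher.two_ne_zero_of_odd hodd
  set g₂ := (G₂ : Matrix (Fin 2) (Fin 2) F) with hg₂
  set g₂' := ((G₂⁻¹ : GL (Fin 2) F) : Matrix (Fin 2) (Fin 2) F) with hg₂'
  have hinv : g₂ * g₂' = 1 := G₂.mul_inv
  have hinv' : g₂' * g₂ = 1 := G₂.inv_mul
  set A := g₂' * J2 with hA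
  set X := tr e P ((1 : Matrix (Fin d) (Fin d) F) ⊗ₖ A) with hX
  have hJT : (J2 : Matrix (Fin 2) (Fin 2) F)ᵀ = -J2 := by
    ext i j; fin_cases i <;> fin_cases j <;> simp [J2]
  have hsymm' : g₂'ᵀ = g₂' := by
    refine left_inv_eq_right_inv (a := g₂) ?_ hinv
    rw [← hT2, ← Matrix.transpose_mul, hinv, Matrix.transpose_one]
  -- the square of the generator
  obtain ⟨s, hs0, hss⟩ : ∃ s : F, s ≠ 0 ∧ A * A = s • 1 := by
    have h10 : g₂' 1 0 = g₂' 0 1 := congrFun (congrFun hsymm' 0) 1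
    refine ⟨g₂' 0 1 ^ 2 - g₂' 0 0 * g₂' 1 1, ?_, ?_⟩
    · have hu := (Matrix.isUnit_iff_isUnit_det _).mp (G₂⁻¹).isUnit
      rw [Matrix.det_fin_two, ← hg₂', h10] at hu
      intro h0
      exact hu.ne_zero (by linear_combination -h0)
    · ext i j
      fin_cases i <;> fin_cases j <;> simp [hA, J2, Matrix.mul_apply, Fin.sum_univ_two, h10] <;> ring
  have hXX : X * X = s • 1 := by
    rw [hX, ← map_mul, ← Matrix.mul_kronecker_mul, one_mul, hss, Matrix.kronecker_smul, Matrix.one_kronecker_one,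
      map_smul, map_one]
  have hadjX : (spData m F).adj X = -X := by
    rw [hX, ← FormData.transport_adj, ← map_neg]
    congr 1
    rw [FormData.adj, show ((spData m F).transport e P).σ = RingHom.id F from rfl]
    have hgi : ((((spData m F).transport e P).gram⁻¹ : GL (Fin d × Fin 2) F) : Matrix (Fin d × Fin 2) (Fin d × Fin 2) F) =
        ((G₁⁻¹ : GL (Fin d) F) : Matrix (Fin d) (Fin d) F) ⊗ₖ g₂' := by
      refine Units.inv_eq_of_mul_eq_one_right ?_
      rw [hgram, ← Matrix.mul_kronecker_mul, Units.mul_inv, hinv, Matrix.one_kronecker_one]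
    rw [hgi, hgram, ← Matrix.kroneckerMap_transpose, Matrix.transpose_one, ← Matrix.mul_kronecker_mul,
      ← Matrix.mul_kronecker_mul, mul_one, Units.inv_mul, hA, Matrix.transpose_mul, hsymm', hJT]
    rw [show g₂' * (-J2 * g₂') * g₂ = -(g₂' * J2) by simp [mul_assoc, hinv']]
    ext ⟨a, i⟩ ⟨b, j⟩
    simp
  let Z : Subalgebra F (Matrix (Fin m ⊕ Fin m) (Fin m ⊕ Fin m) F) := Algebra.adjoin F {X}
  have hZmem : ∀ z ∈ Z, ∃ a b : F, z = a • 1 + b • X := by
    intro z hz
    induction hz using Algebra.adjoin_induction with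
    | mem y hy => exact ⟨0, 1, by rw [Set.mem_singleton_iff.mp hy]; simp⟩
    | algebraMap r => exact ⟨r, 0, by simp [Algebra.algebraMap_eq_smul_one]⟩
    | add a b _ _ ha hb =>
      obtain ⟨a₁, a₂, rfl⟩ := ha; obtain ⟨b₁, b₂, rfl⟩ := hb
      exact ⟨a₁ + b₁, a₂ + b₂, by simp [add_smul]; abel⟩
    | mul a b _ _ ha hb =>
      obtain ⟨a₁, a₂, rfl⟩ := ha; obtain ⟨b₁, b₂, rfl⟩ := hb
      refine ⟨a₁ * b₁ + a₂ * b₂ * s, a₁ * b₂ + a₂ * b₁, ?_⟩
      simp only [add_mul, mul_add, smul_mul_smul_comm, one_mul, mul_one, hXX, smul_smul, add_smul]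
      abel
  have hXZ : X ∈ Z := Algebra.self_mem_adjoin_singleton F X
  refine inSp_algebra hm hH hirr (Z := Z) (fun x hx y hy => ?_) (fun z hz hn => ?_) (fun z hz => ?_) (fun g hg z hz => ?_) ?_
  · obtain ⟨a₁, a₂, rfl⟩ := hZmem x hx; obtain ⟨b₁, b₂, rfl⟩ := hZmem y hy
    simp only [add_mul, mul_add, smul_mul_smul_comm, one_mul, mul_one, mul_comm b₁, mul_comm b₂]
    abel
  · obtain ⟨a, b, rfl⟩ := hZmem z hz
    have hcomm : Commute (a • 1 + b • X) (a • 1 - b • X) := by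
      refine Commute.add_left ?_ ?_
      · exact ((Commute.one_left _).smul_left _)
      · exact ((Commute.sub_right ((Commute.one_right _).smul_right _) ((Commute.refl X).smul_right _)).smul_left _)
    have h1 : (a • 1 + b • X) * (a • 1 - b • X) = (a * a - b * b * s) • 1 := by
      simp only [add_mul, mul_sub, smul_mul_smul_comm, one_mul, mul_one, hXX, smul_smul, sub_smul, mul_comm b a]
      abel
    have h3 : a * a = b * b * s := by
      obtain ⟨j, hj⟩ := hcomm.isNilpotent_mul_right hn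
      rw [h1, smul_pow, one_pow] at hj
      have := smul_one_inj (ι := Fin m ⊕ Fin m) (hj.trans (zero_smul F _).symm)
      exact sub_eq_zero.mp ((pow_eq_zero_iff fun e => by subst e; simp at this).mp this)
    have h4 : (a • 1 + b • X) * (a • 1 + b • X) = (2 * a) • (a • 1 + b • X) := by
      simp only [add_mul, mul_add, smul_mul_smul_comm, one_mul, mul_one, hXX, smul_smul, smul_add, ← h3, mul_comm b a,
        two_mul, add_mul, add_smul]
      abel
    by_cases ha : a = 0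
    · have hb : b = 0 := by
        rw [ha, zero_mul] at h3
        rcases mul_eq_zero.mp h3.symm with h | h
        · exact mul_self_eq_zero.mp h
        · exact absurd h hs0
      simp [ha, hb]
    · obtain ⟨j, hj⟩ := hn
      have hpow : ∀ i : ℕ, (a • 1 + b • X) ^ (i + 1) = (2 * a) ^ i • (a • 1 + b • X) := by
        intro i
        induction i with
        | zero => simp
        | succ i ih => rw [pow_succ, ih, Matrix.smul_mul, h4, smul_smul, ← pow_succ]
      have h5 := hpow j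
      rw [pow_succ, hj, zero_mul] at h5
      exact (smul_eq_zero.mp h5.symm).resolve_left (pow_ne_zero _ (mul_ne_zero h2 ha))
  · obtain ⟨a, b, rfl⟩ := hZmem z hz
    rw [(spData m F).adj_add, (spData m F).adj_smul, (spData m F).adj_smul, (spData m F).adj_one, hadjX]
    exact add_mem (Subalgebra.smul_mem _ (one_mem _) _) (Subalgebra.smul_mem _ (neg_mem hXZ) _)
  · obtain ⟨a, b, rfl⟩ := hZmem z hz
    rw [map_add, map_smul, map_smul, map_one]
    refine add_mem (Subalgebra.smul_mem _ (one_mem _) _) (Subalgebra.smul_mem _ ?_ _)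
    obtain ⟨u, v, c, hc0, hgv, -, hv⟩ := exists_factors hH hd two_pos hle hgram g⁻¹ (inv_mem hg)
    have hgv' : (g : Matrix (Fin m ⊕ Fin m) (Fin m ⊕ Fin m) F) = tr e P (((u⁻¹ : GL (Fin d) F) : Matrix (Fin d) (Fin d) F) ⊗ₖ
        ((v⁻¹ : GL (Fin 2) F) : Matrix (Fin 2) (Fin 2) F)) := by
      refine left_inv_eq_right_inv (a := ((g⁻¹ : GL (Fin m ⊕ Fin m) F) : Matrix (Fin m ⊕ Fin m) (Fin m ⊕ Fin m) F)) ?_ ?_
      · exact g.mul_inv
      · rw [hgv, ← map_mul, ← Matrix.mul_kronecker_mul, Units.mul_inv, Units.mul_inv, Matrix.one_kronecker_one, map_one]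
    have hvA : ((v⁻¹ : GL (Fin 2) F) : Matrix (Fin 2) (Fin 2) F) * A * (v : Matrix (Fin 2) (Fin 2) F) =
        ((v : Matrix (Fin 2) (Fin 2) F).det * c) • A := by
      have h6 : ((v⁻¹ : GL (Fin 2) F) : Matrix (Fin 2) (Fin 2) F) * g₂' = c • (g₂' * (v : Matrix (Fin 2) (Fin 2) F)ᵀ) := by
        have h7 := congrArg (fun M => g₂' * M * (((v⁻¹ : GL (Fin 2) F) : Matrix (Fin 2) (Fin 2) F) * g₂')) hv
        simp only [Matrix.mul_smul, Matrix.smul_mul] at h7
        rw [show g₂' * ((v : Matrix (Fin 2) (Fin 2) F)ᵀ * g₂ * (v : Matrix (Fin 2) (Fin 2) F)) *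
            (((v⁻¹ : GL (Fin 2) F) : Matrix (Fin 2) (Fin 2) F) * g₂') = g₂' * (v : Matrix (Fin 2) (Fin 2) F)ᵀ *
            (g₂ * ((v : Matrix (Fin 2) (Fin 2) F) * ((v⁻¹ : GL (Fin 2) F) : Matrix (Fin 2) (Fin 2) F)) * g₂') by
          simp only [mul_assoc], Units.mul_inv, mul_one, hinv, mul_one,
          show g₂' * g₂ = 1 from hinv', one_mul] at h7
        rw [h7, smul_smul, mul_inv_cancel₀ hc0, one_smul]
      rw [hA, ← mul_assoc, h6, Matrix.smul_mul, Matrix.smul_mul,
        show g₂' * (v : Matrix (Fin 2) (Fin 2) F)ᵀ * J2 * (v : Matrix (Fin 2) (Fin 2) F) =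
          g₂' * ((v : Matrix (Fin 2) (Fin 2) F)ᵀ * J2 * (v : Matrix (Fin 2) (Fin 2) F)) by simp only [mul_assoc],
        J2_conj, Matrix.mul_smul, smul_smul, mul_comm]
    rw [conjHom_apply, hgv', hgv, hX, ← map_mul, ← map_mul, ← Matrix.mul_kronecker_mul, ← Matrix.mul_kronecker_mul,
      mul_one, Units.inv_mul, hvA, Matrix.kronecker_smul, map_smul, ← hX]
    exact Subalgebra.smul_mem _ hXZ _
  · intro hdim
    obtain ⟨c, hc⟩ := Aschbacher.eq_smul_of_finrank_one hdim hXZ
    have h1 : c • (1 : Matrix (Fin m ⊕ Fin m) (Fin m ⊕ Fin m) F) = -(c • 1) := by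
      conv_rhs => rw [← hc, ← hadjX]
      rw [hc, (spData m F).adj_smul, (spData m F).adj_one]; rfl
    rw [← neg_smul] at h1
    have hc0 : c = 0 := (mul_eq_zero.mp (show (2 : F) * c = 0 by linear_combination smul_one_inj h1)).resolve_left h2
    rw [hc0, zero_smul] at hc
    rw [hc, mul_zero] at hXX
    exact hs0 (smul_one_inj ((zero_smul F _).trans hXX)).symm

/-- The invariant hyperplane of a non-alternating tensor factor in characteristic two. -/
theorem false_of_nonalternating (hH : H ≤ spGL m F) (hirr : Irr H) (h2 : (2 : F) = 0) {d k : ℕ} (hd : 0 < d)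
    (hk : 2 ≤ k) {e : (Fin m ⊕ Fin m) ≃ Fin d × Fin k} {P : GL (Fin m ⊕ Fin m) F}
    (hle : H ≤ Geo.tensorProductSubgroup d k e P) {G₁ : GL (Fin d) F} {G₂ : GL (Fin k) F}
    (hgram : (((spData m F).transport e P).gram : Matrix (Fin d × Fin k) (Fin d × Fin k) F) =
      (G₁ : Matrix (Fin d) (Fin d) F) ⊗ₖ (G₂ : Matrix (Fin k) (Fin k) F))
    (hT2 : (G₂ : Matrix (Fin k) (Fin k) F)ᵀ = (G₂ : Matrix (Fin k) (Fin k) F))
    {l₀ : Fin k} (hl₀ : (G₂ : Matrix (Fin k) (Fin k) F) l₀ l₀ ≠ 0) : False := by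
  classical
  obtain ⟨r, hr, hrv⟩ := exists_diag_functional h2 hT2
  set Q := ((P⁻¹ : GL (Fin m ⊕ Fin m) F) : Matrix (Fin m ⊕ Fin m) (Fin m ⊕ Fin m) F) with hQ
  let lf : Fin d → ((Fin m ⊕ Fin m → F) →ₗ[F] F) := fun a =>
    ∑ j, r j • (LinearMap.proj (e.symm (a, j))).comp (Matrix.toLin' Q)
  have hlf : ∀ a v, lf a v = ∑ j, r j * (Q *ᵥ v) (e.symm (a, j)) := fun a v => by
    simp [lf, Matrix.toLin'_apply]
  let W : Submodule F (Fin m ⊕ Fin m → F) := ⨅ a, LinearMap.ker (lf a)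
  have hW : ∀ v, v ∈ W ↔ ∀ a, lf a v = 0 := fun v => by simp [W, LinearMap.mem_ker]
  have hsq : ∀ x y : F, x ^ 2 = y ^ 2 → x = y := fun x y h => by
    have h1 : (x - y) * (x - y) = 0 := by linear_combination h - (x * y - y ^ 2) * h2
    exact sub_eq_zero.mp (mul_self_eq_zero.mp h1)
  have hinv : Inv H W := by
    intro g hg v hv
    rw [hW] at hv ⊢
    intro a
    obtain ⟨u, w, c, hc0, hgv, -, hw⟩ := exists_factors hH hd (by omega) hle hgram g hg
    have hscal : ∃ t, ∀ l, ∑ j, r j * (w : Matrix (Fin k) (Fin k) F) j l = t * r l := by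
      obtain ⟨t, ht⟩ : ∃ t, t * t = c⁻¹ := by
        haveI : CharP F 2 := ringChar.of_eq (by
          have hd : ringChar F ∣ 2 := (ringChar.spec F 2).mp (by simpa using h2)
          rcases (Nat.dvd_prime Nat.prime_two).mp hd with h | h
          · exact absurd h (CharP.ringChar_ne_one)
          · exact h)
        have hs : Function.Surjective fun x : F => x * x :=
          Finite.injective_iff_surjective.mp fun x y hxy => hsq x y (by rw [pow_two, pow_two]; exact hxy)
        exact hs c⁻¹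
      refine ⟨t, fun l => hsq _ _ ?_⟩
      have h1 := congrFun (congrFun hw l) l
      have h3 : gramForm (G₂ : Matrix (Fin k) (Fin k) F) (fun j => (w : Matrix (Fin k) (Fin k) F) j l)
          (fun j => (w : Matrix (Fin k) (Fin k) F) j l) = c⁻¹ * (G₂ : Matrix (Fin k) (Fin k) F) l l := by
        rw [← smul_eq_mul, ← Matrix.smul_apply, ← h1]
        simp [gramForm, Matrix.mul_apply, Matrix.mulVec, dotProduct, Finset.mul_sum, Finset.sum_mul, mul_assoc]
        exact Finset.sum_comm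
      rw [hrv] at h3
      rw [h3, mul_pow, pow_two, pow_two, ht, hr]
    obtain ⟨t, ht⟩ := hscal
    have hQg : ∀ p, (Q *ᵥ ((g : Matrix (Fin m ⊕ Fin m) (Fin m ⊕ Fin m) F) *ᵥ v)) (e.symm p) =
        ∑ q, ((u : Matrix (Fin d) (Fin d) F) ⊗ₖ (w : Matrix (Fin k) (Fin k) F)) p q * (Q *ᵥ v) (e.symm q) := by
      intro p
      rw [Matrix.mulVec_mulVec, hgv, tr_apply, ← mul_assoc, ← mul_assoc, hQ, Units.inv_mul, one_mul,
        ← Matrix.mulVec_mulVec]
      rw [Matrix.mulVec, dotProduct, ← e.symm.sum_comp]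
      simp
    rw [hlf]
    simp only [hQg, Matrix.kroneckerMap_apply, Fintype.sum_prod_type, Finset.mul_sum]
    rw [Finset.sum_comm]
    refine Finset.sum_eq_zero fun a' _ => ?_
    rw [Finset.sum_comm]
    calc ∑ l, ∑ j, r j * ((u : Matrix (Fin d) (Fin d) F) a a' * (w : Matrix (Fin k) (Fin k) F) j l *
          (Q *ᵥ v) (e.symm (a', l)))
        = (u : Matrix (Fin d) (Fin d) F) a a' * t * ∑ l, r l * (Q *ᵥ v) (e.symm (a', l)) := by
          rw [Finset.mul_sum]
          refine Finset.sum_congr rfl fun l _ => ?_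
          have := ht l
          calc _ = (u : Matrix (Fin d) (Fin d) F) a a' * (∑ j, r j * (w : Matrix (Fin k) (Fin k) F) j l) *
                (Q *ᵥ v) (e.symm (a', l)) := by
                rw [Finset.mul_sum, Finset.sum_mul]
                exact Finset.sum_congr rfl fun j _ => by ring
            _ = _ := by rw [this]; ring
      _ = 0 := by rw [← hlf, hv a', mul_zero]
  have hrl : r l₀ ≠ 0 := fun h => hl₀ (by rw [← hr, h, mul_zero])
  obtain ⟨i₁, hi₁⟩ : ∃ i₁ : Fin k, i₁ ≠ l₀ := Fintype.exists_ne_of_one_lt_card (by simp; omega) l₀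
  have hpre : ∀ y : Fin d × Fin k → F, ∀ a, lf a ((P : Matrix (Fin m ⊕ Fin m) (Fin m ⊕ Fin m) F) *ᵥ (y ∘ e)) =
      ∑ j, r j * y (a, j) := fun y a => by
    rw [hlf, Matrix.mulVec_mulVec, hQ, Units.inv_mul, Matrix.one_mulVec]
    simp
  rcases hirr W hinv with hb | ht
  · let y : Fin d × Fin k → F := fun p => if p.1 = ⟨0, hd⟩ then
      (if p.2 = i₁ then r l₀ else if p.2 = l₀ then -r i₁ else 0) else 0
    have hy : (P : Matrix (Fin m ⊕ Fin m) (Fin m ⊕ Fin m) F) *ᵥ (y ∘ e) ∈ W := by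
      rw [hW]
      intro a
      rw [hpre]
      by_cases ha : a = ⟨0, hd⟩
      · rw [← Finset.sum_subset (Finset.subset_univ {i₁, l₀}), Finset.sum_pair hi₁]
        · simp [y, ha, hi₁, hi₁.symm]; ring
        · intro j _ hj
          simp only [Finset.mem_insert, Finset.mem_singleton, not_or] at hj
          simp [y, hj.1, hj.2]
      · simp [y, ha]
    rw [hb, Submodule.mem_bot] at hy
    have h0 := congrFun (Matrix.mulVec_injective_iff_isUnit.mpr P.isUnit (hy.trans (Matrix.mulVec_zero _).symm))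
      (e.symm (⟨0, hd⟩, i₁))
    simp [y] at h0
    exact hrl h0
  · let y : Fin d × Fin k → F := fun p => if p = (⟨0, hd⟩, l₀) then 1 else 0
    have hy : (P : Matrix (Fin m ⊕ Fin m) (Fin m ⊕ Fin m) F) *ᵥ (y ∘ e) ∈ W := ht ▸ Submodule.mem_top
    have h0 := (hW _).mp hy ⟨0, hd⟩
    rw [hpre] at h0
    simp [y] at h0
    exact hrl h0

/-- Alternating tensor factors in characteristic two give an orthogonal group. -/
theorem inSp_tensor_quad (hH : H ≤ spGL m F) (heven : ¬ Odd (Fintype.card F)) {d k : ℕ} (hd : 0 < d) (hk : 0 < k)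
    {e : (Fin m ⊕ Fin m) ≃ Fin d × Fin k} {P : GL (Fin m ⊕ Fin m) F}
    (hle : H ≤ Geo.tensorProductSubgroup d k e P) {G₁ : GL (Fin d) F} {G₂ : GL (Fin k) F}
    (hgram : (((spData m F).transport e P).gram : Matrix (Fin d × Fin k) (Fin d × Fin k) F) =
      (G₁ : Matrix (Fin d) (Fin d) F) ⊗ₖ (G₂ : Matrix (Fin k) (Fin k) F))
    (hT1 : (G₁ : Matrix (Fin d) (Fin d) F)ᵀ = (G₁ : Matrix (Fin d) (Fin d) F))
    (hT2 : (G₂ : Matrix (Fin k) (Fin k) F)ᵀ = (G₂ : Matrix (Fin k) (Fin k) F))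
    (hd1 : ∀ i, (G₁ : Matrix (Fin d) (Fin d) F) i i = 0)
    (hd2 : ∀ i, (G₂ : Matrix (Fin k) (Fin k) F) i i = 0) : InSp H := by
  classical
  have hneg := neg_eq_self_of_even heven
  set g₁ := (G₁ : Matrix (Fin d) (Fin d) F) with hg₁
  let U : Matrix (Fin d) (Fin d) F := Matrix.of fun i j => if i < j then g₁ i j else 0
  have hU : U + Uᵀ = g₁ := by
    ext i j
    rcases lt_trichotomy i j with h | rfl | h
    · simp [U, h, h.asymm]
    · simp [U, hd1]
    · have := congrFun (congrFun hT1 i) j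
      simp only [Matrix.transpose_apply] at this
      simp [U, h, h.asymm, this]
  set N := U ⊗ₖ (G₂ : Matrix (Fin k) (Fin k) F) with hN
  have hNG : N + Nᵀ = g₁ ⊗ₖ (G₂ : Matrix (Fin k) (Fin k) F) := by
    rw [hN, ← Matrix.kroneckerMap_transpose, hT2, ← Matrix.add_kronecker, hU]
  set Q' := ((P⁻¹ : GL (Fin m ⊕ Fin m) F) : Matrix (Fin m ⊕ Fin m) (Fin m ⊕ Fin m) F) with hQ'
  let cd : (Fin m ⊕ Fin m → F) → (Fin d × Fin k → F) := fun v => (Q' *ᵥ v) ∘ e.symm
  have hcd : ∀ v, (P : Matrix (Fin m ⊕ Fin m) (Fin m ⊕ Fin m) F) *ᵥ (cd v ∘ e) = v := fun v => by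
    simp [cd, Function.comp_assoc, hQ', Matrix.mulVec_mulVec]
  have hb := gramForm_bilinear N
  refine inSp_quad hH heven (Q := fun v => gramForm N (cd v) (cd v)) (fun c v => ?_) (fun u v => ?_) fun g hg v => ?_
  · have : cd (c • v) = c • cd v := by
      funext p; simp [cd, Matrix.mulVec_smul]
    rw [this, hb.smul_left, hb.smul_right]; ring
  · have hadd : cd (u + v) = cd u + cd v := by
      funext p; simp [cd, Matrix.mulVec_add]
    simp only [QuadraticMap.polar, hadd, hb.add_left, hb.add_right]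
    rw [gramForm_swap N (cd v) (cd u)]
    conv_rhs => rw [← hcd u, ← hcd v, ← spData_form, FormData.transport_form, FormData.form, hgram, ← hNG]
    simp [gramForm, Matrix.add_mulVec, show ((spData m F).transport e P).σ = RingHom.id F from rfl]
    ring
  · obtain ⟨a, b, c, hc0, hgv, ha, hb'⟩ := exists_factors hH hd hk hle hgram g hg
    have hcg : cd ((g : Matrix (Fin m ⊕ Fin m) (Fin m ⊕ Fin m) F) *ᵥ v) =
        ((a : Matrix (Fin d) (Fin d) F) ⊗ₖ (b : Matrix (Fin k) (Fin k) F)) *ᵥ cd v := by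
      funext p
      simp only [cd, Function.comp_apply]
      rw [Matrix.mulVec_mulVec, hgv, tr_apply, ← mul_assoc, ← mul_assoc, hQ', Units.inv_mul, one_mul,
        ← Matrix.mulVec_mulVec]
      rw [Matrix.mulVec, dotProduct, ← e.symm.sum_comp]
      simp [Matrix.mulVec, dotProduct]
    rw [hcg, gramForm_comp, ← sub_eq_zero]
    set D := c⁻¹ • ((a : Matrix (Fin d) (Fin d) F)ᵀ * U * (a : Matrix (Fin d) (Fin d) F)) - U with hD
    have hker : gramForm (D ⊗ₖ (G₂ : Matrix (Fin k) (Fin k) F)) (cd v) (cd v) = 0 := by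
      refine gramForm_self_eq_zero ?_ (fun p => by simp [hd2]) _
      have hDT : Dᵀ = -D := by
        rw [eq_neg_iff_add_eq_zero, hD, Matrix.transpose_sub, Matrix.transpose_smul, Matrix.transpose_mul,
          Matrix.transpose_mul, Matrix.transpose_transpose, sub_add_sub_comm, ← smul_add, ← mul_assoc, ← add_mul,
          ← mul_add, add_comm Uᵀ, hU, ha, smul_smul, inv_mul_cancel₀ hc0, one_smul, sub_self]
      rw [← Matrix.kroneckerMap_transpose, hDT, hT2]
      ext ⟨i, x⟩ ⟨j, y⟩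
      simp
    rw [← hker, hN, ← Matrix.kroneckerMap_transpose, ← Matrix.mul_kronecker_mul, ← Matrix.mul_kronecker_mul, hb',
      hD, show ∀ A B : Matrix (Fin d) (Fin d) F, (A - B) ⊗ₖ (G₂ : Matrix (Fin k) (Fin k) F) =
        A ⊗ₖ (G₂ : Matrix (Fin k) (Fin k) F) - B ⊗ₖ (G₂ : Matrix (Fin k) (Fin k) F) from fun A B => by
          ext ⟨i, x⟩ ⟨j, y⟩; simp [sub_mul], Matrix.smul_kronecker, Matrix.kronecker_smul]
    simp [gramForm, Matrix.sub_mulVec]

/-- Tensor decompositions with a skew factor first. -/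
theorem inSp_tensor_skew (hm : 1 ≤ m) (hH : H ≤ spGL m F) (hirr : Irr H) {d k : ℕ} (hd : 2 ≤ d) (hk : 2 ≤ k)
    {e : (Fin m ⊕ Fin m) ≃ Fin d × Fin k} {P : GL (Fin m ⊕ Fin m) F}
    (hle : H ≤ Geo.tensorProductSubgroup d k e P) {G₁ : GL (Fin d) F} {G₂ : GL (Fin k) F}
    (hgram : (((spData m F).transport e P).gram : Matrix (Fin d × Fin k) (Fin d × Fin k) F) =
      (G₁ : Matrix (Fin d) (Fin d) F) ⊗ₖ (G₂ : Matrix (Fin k) (Fin k) F))
    (hT1 : (G₁ : Matrix (Fin d) (Fin d) F)ᵀ = -(G₁ : Matrix (Fin d) (Fin d) F))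
    (hT2 : (G₂ : Matrix (Fin k) (Fin k) F)ᵀ = (G₂ : Matrix (Fin k) (Fin k) F))
    (hd1 : ∀ i, (G₁ : Matrix (Fin d) (Fin d) F) i i = 0) : InSp H := by
  classical
  by_cases hodd : Odd (Fintype.card F)
  · rcases Nat.lt_or_ge k 3 with hk3 | hk3
    · obtain rfl : k = 2 := by omega
      exact inSp_tensor_two hm hH hirr hodd (by omega) hle hgram hT2
    have hf₁ : Geo.IsSymplecticForm (gramForm (G₁ : Matrix (Fin d) (Fin d) F)) := by
      refine ⟨gramForm_bilinear _, fun v w => ?_, gramForm_self_eq_zero hT1 hd1, gramForm_nondegenerate G₁.isUnit⟩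
      rw [gramForm_swap _ v w, hT1]
      simp [gramForm, Matrix.neg_mulVec]
    have hf₂ : Geo.IsSymmetricForm (gramForm (G₂ : Matrix (Fin k) (Fin k) F)) :=
      ⟨gramForm_bilinear _, fun u v => by rw [gramForm_swap, hT2], gramForm_nondegenerate G₂.isUnit⟩
    refine ⟨_, Or.inr <| Or.inr <| Or.inr <| Or.inl ⟨d, k, e, P, _, _, hodd, hk3, hf₁, hf₂, ⟨1, one_ne_zero, ?_⟩, rfl⟩,
      le_inf hle hH⟩
    intro x y
    rw [gramMatrix_gramForm, gramMatrix_gramForm, ← spData_form, FormData.transport_form, FormData.form, hgram, one_mul,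
      Geo.formOfGram]
    simp [dotProduct, Matrix.mulVec, Finset.mul_sum, mul_assoc,
      show ((spData m F).transport e P).σ = RingHom.id F from rfl]
  · have h2 : (2 : F) = 0 := Aschbacher.two_eq_zero_of_not_odd hodd
    have hT1' : (G₁ : Matrix (Fin d) (Fin d) F)ᵀ = (G₁ : Matrix (Fin d) (Fin d) F) := by
      rw [hT1]; ext i j; exact neg_eq_self_of_even hodd _
    by_cases hd2 : ∀ i, (G₂ : Matrix (Fin k) (Fin k) F) i i = 0
    · exact inSp_tensor_quad hH hodd (by omega) (by omega) hle hgram hT1' hT2 hd1 hd2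
    · push Not at hd2
      obtain ⟨l₀, hl₀⟩ := hd2
      exact (false_of_nonalternating hH hirr h2 (by omega) hk hle hgram hT2 hl₀).elim

/-- A normal subgroup which is not absolutely irreducible. -/
theorem inSp_clifford (hm : 1 ≤ m) (hH : H ≤ spGL m F) (hirr : Irr H) {L : Subgroup (GL (Fin m ⊕ Fin m) F)}
    (hLG : L ≤ H ⊔ Geo.scalars (Fin m ⊕ Fin m) F) (hL : NormalIn L (H ⊔ Geo.scalars (Fin m ⊕ Fin m) F))
    (hns : ¬ L ≤ Geo.scalars (Fin m ⊕ Fin m) F) (habs : ¬ Geo.ActsAbsolutelyIrreducibly (Geo.matrixSet L)) :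
    InSp H := by
  classical
  haveI : Nonempty (Fin m ⊕ Fin m) := ⟨Sum.inl ⟨0, hm⟩⟩
  have hLH : NormalIn L H := fun g hg x hx => hL g (Subgroup.mem_sup_left hg) x hx
  have hsimL : ∀ g ∈ L, (spData m F).IsSim g := fun g hg => isSim_of_mem hH (hLG hg)
  by_cases hdim : finrank F (zalg L) = 1
  swap
  · exact inSp_algebra hm hH hirr (Z := zalg L)
      (fun x hx y hy => (mem_zalg.mp hy).2 x (mem_zalg.mp hx).1)
      (fun z hz hn => zalg_reduced hLH hirr hz hn)
      (fun z hz => (spData m F).adj_mem_zalg hsimL hz)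
      (fun g hg z hz => conj_mem_zalg hLH hg hz) hdim
  obtain ⟨d, k, e, P, φ, hd, hk, hφr, hφe, hle⟩ := exists_tensor hLH hirr hns habs hdim
  haveI : Nonempty (Fin d) := ⟨⟨0, by omega⟩⟩
  haveI : Nonempty (Fin k) := ⟨⟨0, by omega⟩⟩
  have hA : ∀ M : Matrix (Fin d) (Fin d) F, ∃ M', ((spData m F).transport e P).adj
      (M ⊗ₖ (1 : Matrix (Fin k) (Fin k) F)) = M' ⊗ₖ (1 : Matrix (Fin k) (Fin k) F) := fun M => by
    obtain ⟨M', hM'⟩ : (spData m F).adj (φ M) ∈ φ.range := by
      rw [hφr]; exact (spData m F).adj_mem_alg hsimL (hφr ▸ ⟨M, rfl⟩)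
    refine ⟨M', (tr e P).injective ?_⟩
    rw [FormData.transport_adj, ← hφe, ← hφe]
    exact hM'.symm
  obtain ⟨G₁, G₂, hgram⟩ := ((spData m F).transport e P).exists_gram_factor (by omega) (by omega) hA
  have hskew : (G₁ : Matrix (Fin d) (Fin d) F)ᵀ ⊗ₖ (G₂ : Matrix (Fin k) (Fin k) F)ᵀ =
      (G₁ : Matrix (Fin d) (Fin d) F) ⊗ₖ (-(G₂ : Matrix (Fin k) (Fin k) F)) := by
    have h := ((spData m F).transport e P).herm
    rw [hgram, show ((spData m F).transport e P).σ = RingHom.id F from rfl,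
      show ((spData m F).transport e P).ε = -1 from rfl, ← Matrix.kroneckerMap_transpose] at h
    calc _ = _ := (Matrix.ext fun _ _ => rfl)
      _ = (-1 : F) • ((G₁ : Matrix (Fin d) (Fin d) F) ⊗ₖ (G₂ : Matrix (Fin k) (Fin k) F)) := h
      _ = _ := by rw [← Matrix.kronecker_smul, neg_one_smul]
  obtain ⟨c, hc⟩ := kronecker_eq_imp hskew (by
    rw [Ne, ← Matrix.transpose_zero, Matrix.transpose_inj]; exact G₂.ne_zero)
  have hc2 : c * c = 1 := by
    have h := congrArg Matrix.transpose hc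
    rw [Matrix.transpose_transpose, Matrix.transpose_smul, hc, smul_smul] at h
    by_contra hne
    exact G₁.ne_zero ((smul_eq_zero.mp (show (c * c - 1) • (G₁ : Matrix (Fin d) (Fin d) F) = 0 by
      rw [sub_smul, ← h, one_smul, sub_self])).resolve_left (sub_ne_zero.mpr hne))
  have hc0 : c ≠ 0 := fun h => one_ne_zero (α := F) (by rw [← hc2, h, mul_zero])
  have hG2 : (G₂ : Matrix (Fin k) (Fin k) F)ᵀ = -c • (G₂ : Matrix (Fin k) (Fin k) F) := by
    rw [hc, Matrix.smul_kronecker, ← Matrix.kronecker_smul] at hskew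
    have h := congrArg (c • ·) (kronecker_left_cancel hskew G₁.ne_zero)
    simp only [smul_smul, hc2, one_smul, smul_neg] at h
    rw [h, neg_smul]
  have hswap : (((spData m F).transport (e.trans (Equiv.prodComm _ _)) P).gram :
      Matrix (Fin k × Fin d) (Fin k × Fin d) F) = (G₂ : Matrix (Fin k) (Fin k) F) ⊗ₖ (G₁ : Matrix (Fin d) (Fin d) F) := by
    ext ⟨i, a⟩ ⟨j, b⟩
    have h := congrFun (congrFun hgram (a, i)) (b, j)
    rw [FormData.transport_gram] at h ⊢
    simp only [Matrix.kroneckerMap_apply] at h ⊢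
    rw [mul_comm, ← h]
    rfl
  have hle' := hle.trans (tensor_swap_sum e P)
  by_cases hodd : Odd (Fintype.card F)
  · have h2 := Aschbacher.two_ne_zero_of_odd hodd
    have hdiag : ∀ {l : ℕ} {G : Matrix (Fin l) (Fin l) F}, Gᵀ = -G → ∀ i, G i i = 0 := fun {l G} hG i => by
      have h := congrFun (congrFun hG i) i
      simp only [Matrix.transpose_apply, Matrix.neg_apply] at h
      exact (mul_eq_zero.mp (show (2 : F) * G i i = 0 by linear_combination h)).resolve_left h2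
    rcases mul_self_eq_one_iff.mp hc2 with rfl | rfl
    · rw [one_smul] at hc
      have hG2' : (G₂ : Matrix (Fin k) (Fin k) F)ᵀ = -(G₂ : Matrix (Fin k) (Fin k) F) := by rw [hG2, neg_one_smul]
      exact inSp_tensor_skew hm hH hirr hk hd hle' hswap hG2' hc (hdiag hG2')
    · rw [neg_one_smul] at hc
      have hG2' : (G₂ : Matrix (Fin k) (Fin k) F)ᵀ = (G₂ : Matrix (Fin k) (Fin k) F) := by
        rw [hG2, neg_neg, one_smul]
      exact inSp_tensor_skew hm hH hirr hd hk hle hgram hc hG2' (hdiag hc)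
  · have hneg := neg_eq_self_of_even hodd
    have hc1 : c = 1 := by
      rcases mul_self_eq_one_iff.mp hc2 with h | h
      · exact h
      · rw [h]; exact hneg 1
    subst hc1
    rw [one_smul] at hc
    have hG2' : (G₂ : Matrix (Fin k) (Fin k) F)ᵀ = (G₂ : Matrix (Fin k) (Fin k) F) := by
      rw [hG2]; ext i j; simp [hneg]
    by_cases hd1 : ∀ i, (G₁ : Matrix (Fin d) (Fin d) F) i i = 0
    · exact inSp_tensor_skew hm hH hirr hd hk hle hgram (by rw [hc]; ext i j; exact (hneg _).symm) hG2' hd1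
    · push Not at hd1
      obtain ⟨l₀, hl₀⟩ := hd1
      exact (false_of_nonalternating hH hirr (Aschbacher.two_eq_zero_of_not_odd hodd) (by omega) hd hle' hswap hc hl₀).elim

end Cfsg.Agent.MaxSub.Asch
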