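import Mathlib
import Cfsg.Agent.MaxSub.Asch.Adjoint

/-!
The Gram matrix of a form compatible with a tensor power decomposition.
-/

set_option autoImplicit false
set_option linter.unusedSectionVars false
set_option linter.style.haveILetI false

namespace Cfsg.Agent.MaxSub.Asch

open scoped MatrixGroups Matrix
open Module

variable {F : Type*} [Field F] {d t : ℕ}

theorem slot_apply (i : Fin t) (M : Matrix (Fin d) (Fin d) F) (x y : Fin t → Fin d) :
    slot i M x y = M (x i) (y i) * ∏ j ∈ {i}ᶜ, (1 : Matrix (Fin d) (Fin d) F) (x j) (y j) := by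
  rw [slot, tens_apply, Fintype.prod_eq_mul_prod_compl i, Function.update_self]
  congr 1
  refine Finset.prod_congr rfl fun j hj => ?_
  rw [Function.update_of_ne (by simpa using hj), Pi.one_apply]

theorem slot_map (σ : F →+* F) (i : Fin t) (M : Matrix (Fin d) (Fin d) F) :
    (slot i M).map σ = slot i (M.map σ) := by
  ext x y
  simp [slot_apply, Matrix.one_apply, apply_ite σ, map_prod]

theorem slot_transpose (i : Fin t) (M : Matrix (Fin d) (Fin d) F) : (slot i M)ᵀ = slot i Mᵀ := by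
  ext x y
  simp [slot_apply, Matrix.one_apply, eq_comm]

theorem tens_map (σ : F →+* F) (a : Fin t → Matrix (Fin d) (Fin d) F) :
    (tens a).map σ = tens fun i => (a i).map σ := by
  ext x y
  simp [tens_apply, map_prod]

theorem tens_ne_zero {a : Fin t → Matrix (Fin d) (Fin d) F} (ha : ∀ i, a i ≠ 0) : tens a ≠ 0 := by
  have h : ∀ i, ∃ p q, a i p q ≠ 0 := fun i => by
    by_contra hcon
    push Not at hcon
    exact ha i (Matrix.ext hcon)
  choose p q hpq using h
  intro h0
  have := congrFun (congrFun h0 p) q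
  rw [tens_apply, Matrix.zero_apply, Finset.prod_eq_zero_iff] at this
  obtain ⟨i, -, hi⟩ := this
  exact hpq i hi

/-- Equal tensor powers have proportional factors. -/
theorem tens_const_eq (ht : 0 < t) {A C : Matrix (Fin d) (Fin d) F} {s : F}
    (h : tens (fun _ : Fin t => A) = s • tens (fun _ : Fin t => C)) (hC : C ≠ 0) (hs : s ≠ 0) :
    ∃ κ : F, A = κ • C ∧ κ ^ t = s := by
  obtain ⟨i, j, hij⟩ : ∃ i j, C i j ≠ 0 := by
    by_contra hcon
    push Not at hcon
    exact hC (Matrix.ext hcon)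
  obtain ⟨t, rfl⟩ : ∃ t', t = t' + 1 := ⟨t - 1, by omega⟩
  have key : ∀ a b, A a b * A i j ^ t = s * (C a b * C i j ^ t) := fun a b => by
    have h1 := congrFun (congrFun h (Fin.cons a fun _ => i)) (Fin.cons b fun _ => j)
    simpa [tens_apply, Fin.prod_univ_succ] using h1
  have hA : A i j ≠ 0 := by
    intro h0
    have h1 := key i j
    rw [h0, zero_mul, eq_comm] at h1
    exact mul_ne_zero hs (mul_ne_zero hij (pow_ne_zero _ hij)) h1
  set κ := s * C i j ^ t / A i j ^ t with hκ
  have hAC : A = κ • C := by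
    ext a b
    rw [Matrix.smul_apply, smul_eq_mul, hκ, div_mul_eq_mul_div, eq_div_iff (pow_ne_zero _ hA), key]
    ring
  refine ⟨κ, hAC, ?_⟩
  rw [hAC, show (fun _ : Fin (t + 1) => κ • C) = fun _ : Fin (t + 1) => (fun _ => κ) i • (fun _ => C) i from rfl,
    tens_smul, Fin.prod_const] at h
  exact smul_left_injective F (tens_ne_zero (t := t + 1) fun _ => hC) h

variable {ι : Type} [Fintype ι] [DecidableEq ι] [Nonempty ι]

/-- The Gram matrix is a multiple of a tensor power when the slot algebras are images of one algebra closed under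
adjoints by similitudes. -/
theorem FormData.exists_power_gram (Φ : FormData ι F) (hd : 0 < d) (e : ι ≃ (Fin t → Fin d)) (P : GL ι F)
    (φ : Matrix (Fin d) (Fin d) F →ₐ[F] Matrix ι ι F) (g : Fin t → GL ι F) (hsim : ∀ i, Φ.IsSim (g i))
    (hadj : ∀ M, Φ.adj (φ M) ∈ φ.range) (hslot : ∀ i M, conjHom (g i) (φ M) = tr e P (slot i M))
    (hcen : ∀ T : Matrix (Fin t → Fin d) (Fin t → Fin d) F, (∀ i M, Commute T (slot i M)) → ∃ c : F, T = c • 1) :
    ∃ (c : F) (G₁ : GL (Fin d) F), c ≠ 0 ∧ ((Φ.transport e P).gram : Matrix (Fin t → Fin d) (Fin t → Fin d) F) =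
      c • tens fun _ => (G₁ : Matrix (Fin d) (Fin d) F) := by
  haveI : Nonempty (Fin d) := ⟨⟨0, hd⟩⟩
  haveI : Nonempty (Fin t → Fin d) := ⟨fun _ => ⟨0, hd⟩⟩
  have hinj : Function.Injective φ := φ.toRingHom.injective
  choose τ hτ using hadj
  change ∀ M, φ (τ M) = Φ.adj (φ M) at hτ
  let ψ : Matrix (Fin d) (Fin d) F →ₐ[F] Matrix (Fin d) (Fin d) F :=
    AlgHom.ofLinearMap
      { toFun := fun M => τ (Mᵀ.map Φ.σ)
        map_add' := fun A B => hinj (by
          rw [map_add, hτ, hτ, hτ, Matrix.transpose_add, Matrix.map_add _ (map_add Φ.σ), map_add, Φ.adj_add])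
        map_smul' := fun c A => hinj (by
          rw [RingHom.id_apply, map_smul, hτ, hτ, Matrix.transpose_smul,
            show (c • Aᵀ).map Φ.σ = Φ.σ c • Aᵀ.map Φ.σ by ext i j; simp, map_smul, Φ.adj_smul, Φ.invol]) }
      (hinj (by
        show φ (τ ((1 : Matrix (Fin d) (Fin d) F)ᵀ.map Φ.σ)) = φ 1
        rw [hτ, Matrix.transpose_one, Matrix.map_one _ (map_zero _) (map_one _), map_one, Φ.adj_one]))
      fun A B => hinj (by
        show φ (τ ((A * B)ᵀ.map Φ.σ)) = φ (τ (Aᵀ.map Φ.σ) * τ (Bᵀ.map Φ.σ))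
        rw [map_mul, hτ, hτ, hτ, ← Φ.adj_mul, ← map_mul, Matrix.transpose_mul, Matrix.map_mul])
  obtain ⟨B, hB⟩ := exists_conj ψ
  set Φ' := Φ.transport e P with hΦ'
  have hadjslot : ∀ i M, Φ'.adj (slot i M) = slot i (τ M) := fun i M => by
    apply (tr e P).injective
    rw [hΦ', FormData.transport_adj, ← hslot, ← hslot, Φ.adj_conj (hsim i), hτ]
  set S := (Φ'.gram : Matrix (Fin t → Fin d) (Fin t → Fin d) F).map Φ'.σ with hS
  set S' := ((Φ'.gram⁻¹ : GL (Fin t → Fin d) F) : Matrix (Fin t → Fin d) (Fin t → Fin d) F).map Φ'.σ with hS'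
  have hSS : S * S' = 1 := by
    rw [hS, hS', ← Matrix.map_mul, ← Units.val_mul, mul_inv_cancel, Units.val_one]
    exact Matrix.map_one _ (map_zero _) (map_one _)
  set Bm := (B : Matrix (Fin d) (Fin d) F) with hBm
  set Bi := ((B⁻¹ : GL (Fin d) F) : Matrix (Fin d) (Fin d) F) with hBi
  have hmain : ∀ i M, S' * slot i M * S = slot i (Bm * M * Bi) := fun i M => by
    rw [← hB M]
    show _ = slot i (τ (Mᵀ.map Φ.σ))
    rw [← hadjslot, FormData.adj, Matrix.map_mul, Matrix.map_mul, hS, hS', slot_transpose, slot_map,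
      show ((Mᵀ.map Φ.σ)ᵀ).map Φ'.σ = M from by ext a b; simp [hΦ', FormData.transport, Φ.invol]]
  have hBiBm : ∀ i M, slot i (Bm * M * Bi) * tens (fun _ : Fin t => Bm) = tens (fun _ : Fin t => Bm) * slot i M := by
    intro i M
    rw [slot, slot, tens_mul, tens_mul]
    congr 1
    funext j
    simp only [Pi.mul_apply]
    rcases eq_or_ne j i with rfl | hj
    · simp [hBi, hBm, mul_assoc]
    · simp [Function.update_of_ne hj]
  obtain ⟨c, hc⟩ := hcen (S * tens fun _ : Fin t => Bm) fun i M => by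
    show S * tens _ * slot i M = slot i M * (S * tens _)
    calc S * tens (fun _ : Fin t => Bm) * slot i M = S * (slot i (Bm * M * Bi) * tens fun _ : Fin t => Bm) := by
          rw [hBiBm, mul_assoc]
      _ = (S * S') * slot i M * S * tens (fun _ : Fin t => Bm) := by rw [← hmain]; simp [mul_assoc]
      _ = _ := by rw [hSS, one_mul, mul_assoc]
  have hc0 : Φ.σ c ≠ 0 := by
    rw [map_ne_zero]
    rintro rfl
    rw [zero_smul] at hc
    have h1 := congrArg (S' * ·) hc
    simp only [mul_zero] at h1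
    rw [← mul_assoc, mul_eq_one_comm.mp hSS, one_mul] at h1
    exact tens_ne_zero (fun _ => B.ne_zero) h1
  refine ⟨Φ.σ c, Units.map (Φ.σ.mapMatrix : Matrix (Fin d) (Fin d) F →+* _).toMonoidHom B⁻¹, hc0, ?_⟩
  have h1 := congrArg (fun X => (X * tens fun _ : Fin t => Bi).map Φ.σ) hc
  simp only [mul_assoc, tens_mul] at h1
  rw [show ((fun _ : Fin t => Bm) * fun _ : Fin t => Bi) = 1 by funext j; simp [hBm, hBi], tens_one, mul_one,
    Matrix.smul_mul, one_mul, show (c • tens fun _ : Fin t => Bi).map Φ.σ = Φ.σ c • (tens fun _ : Fin t => Bi).map Φ.σ by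
      ext a b; simp, tens_map] at h1
  rw [hS] at h1
  have h2 : ((Φ'.gram : Matrix (Fin t → Fin d) (Fin t → Fin d) F).map Φ'.σ).map Φ.σ =
      (Φ'.gram : Matrix (Fin t → Fin d) (Fin t → Fin d) F) := by
    ext a b; simp [hΦ', FormData.transport, Φ.invol]
  rw [h2] at h1
  rw [h1]
  rfl

end Cfsg.Agent.MaxSub.Asch
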