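import Mathlib
import Cfsg.Agent.MaxSub.Asch.PowerGram

/-!
Elements of tensor wreath groups and the algebra generated by the slots.
-/

set_option autoImplicit false
set_option linter.unusedSectionVars false
set_option linter.style.haveILetI false

namespace Cfsg.Agent.MaxSub.Asch

open scoped MatrixGroups Matrix
open Module

/-- A subgroup whose matrices span the full algebra is absolutely irreducible. -/
theorem absIrred_of_adjoin_top {ι : Type} [Fintype ι] [DecidableEq ι] [Nonempty ι] {F : Type*} [Field F]
    {R : Subgroup (GL ι F)} (h : Algebra.adjoin F (Geo.matrixSet R) = ⊤) :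
    Geo.ActsAbsolutelyIrreducibly (Geo.matrixSet R) := by
  refine ⟨fun W hW => ?_, fun M hM => ?_⟩
  · have hall : ∀ (A : Matrix ι ι F), ∀ w ∈ W, A *ᵥ w ∈ W := by
      intro A
      have hA : A ∈ Algebra.adjoin F (Geo.matrixSet R) := h ▸ Algebra.mem_top
      induction hA using Algebra.adjoin_induction with
      | mem y hy => exact fun w hw => hW y hy ⟨w, hw, Matrix.toLin'_apply _ _⟩
      | algebraMap c =>
        intro w hw
        rw [Algebra.algebraMap_eq_smul_one, Matrix.smul_mulVec, Matrix.one_mulVec]
        exact W.smul_mem c hw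
      | add a b _ _ ha hb => exact fun w hw => by rw [Matrix.add_mulVec]; exact add_mem (ha w hw) (hb w hw)
      | mul a b _ _ ha hb => exact fun w hw => by rw [← Matrix.mulVec_mulVec]; exact ha _ (hb w hw)
    refine or_iff_not_imp_left.mpr fun hne => ?_
    obtain ⟨w, hw, hw0⟩ := (Submodule.ne_bot_iff W).mp hne
    obtain ⟨j, hj⟩ := Function.ne_iff.mp hw0
    rw [Submodule.eq_top_iff']
    intro v
    have hv : Matrix.of (fun i k => if k = j then v i / w j else 0) *ᵥ w = v := by
      funext i
      simp only [Matrix.mulVec, dotProduct, Matrix.of_apply, ite_mul, zero_mul, Finset.sum_ite_eq', Finset.mem_univ,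
        if_true]
      exact div_mul_cancel₀ _ hj
    exact hv ▸ hall _ w hw
  · have hall : ∀ A : Matrix ι ι F, Commute M A := by
      intro A
      have hA : A ∈ Algebra.adjoin F (Geo.matrixSet R) := h ▸ Algebra.mem_top
      induction hA using Algebra.adjoin_induction with
      | mem y hy => exact hM y hy
      | algebraMap c => exact (Algebra.commutes c M).symm
      | add a b _ _ ha hb => exact ha.add_right hb
      | mul a b _ _ ha hb => exact ha.mul_right hb
    obtain ⟨c, hc⟩ := Matrix.mem_range_scalar_of_commute_single (M := M) fun i j _ => (hall _).symm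
    exact ⟨c, by rw [← hc, Matrix.scalar_apply, ← Matrix.smul_one_eq_diagonal]⟩

variable {F : Type*} [Field F] {d t : ℕ}

theorem factorPerm_mul (σ τ : Equiv.Perm (Fin t)) :
    (factorPerm σ : GL (Fin t → Fin d) F) * factorPerm τ = factorPerm (σ * τ) := by
  refine Units.ext ?_
  ext x y
  simp only [Units.val_mul, factorPerm, Matrix.mul_apply, Matrix.of_apply, ite_mul, one_mul, zero_mul,
    Finset.sum_ite_eq', Finset.mem_univ, if_true]
  congr 1

theorem factorPerm_one : (factorPerm (1 : Equiv.Perm (Fin t)) : GL (Fin t → Fin d) F) = 1 := by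
  refine Units.ext ?_
  ext x y
  simp [factorPerm, Matrix.one_apply, eq_comm]

theorem factorPerm_transpose_mul (σ : Equiv.Perm (Fin t)) :
    ((factorPerm σ : GL (Fin t → Fin d) F) : Matrix (Fin t → Fin d) (Fin t → Fin d) F)ᵀ *
      ((factorPerm σ : GL (Fin t → Fin d) F) : Matrix (Fin t → Fin d) (Fin t → Fin d) F) = 1 := by
  have h : ((factorPerm σ : GL (Fin t → Fin d) F) : Matrix (Fin t → Fin d) (Fin t → Fin d) F)ᵀ =
      ((factorPerm σ : GL (Fin t → Fin d) F)⁻¹ : GL (Fin t → Fin d) F) := by
    ext x y
    simp only [Matrix.transpose_apply, factorPerm, Matrix.of_apply]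
    refine if_congr ⟨?_, ?_⟩ rfl rfl <;> rintro rfl <;> simp [Function.comp_assoc]
  rw [h, Units.inv_mul]

theorem factorPerm_map (f : F →+* F) (σ : Equiv.Perm (Fin t)) :
    ((factorPerm σ : GL (Fin t → Fin d) F) : Matrix (Fin t → Fin d) (Fin t → Fin d) F).map f =
      ((factorPerm σ : GL (Fin t → Fin d) F) : Matrix (Fin t → Fin d) (Fin t → Fin d) F) := by
  ext x y
  simp [factorPerm, apply_ite f]

theorem tensGL_mul (a b : Fin t → GL (Fin d) F) : tensGL a * tensGL b = tensGL (a * b) :=
  Units.ext (by
    show tens _ * tens _ = tens _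
    rw [tens_mul]; rfl)

theorem tensGL_one : tensGL (1 : Fin t → GL (Fin d) F) = 1 :=
  Units.ext (by
    show tens _ = (1 : Matrix (Fin t → Fin d) (Fin t → Fin d) F)
    rw [← tens_one]; rfl)

/-- The pure tensors as a homomorphism. -/
def tensHom (d t : ℕ) (F : Type*) [Field F] : (Fin t → GL (Fin d) F) →* GL (Fin t → Fin d) F where
  toFun := tensGL
  map_one' := tensGL_one
  map_mul' a b := (tensGL_mul a b).symm

theorem factorPerm_mul_tensGL (σ : Equiv.Perm (Fin t)) (a : Fin t → GL (Fin d) F) :
    factorPerm σ * tensGL a = tensGL (fun i => a (σ.symm i)) * factorPerm σ :=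
  Units.ext (factorPerm_mul_tens σ fun i => (a i : Matrix (Fin d) (Fin d) F))

/-- The elements of the standard wreath group. -/
theorem exists_wreath_elem [Finite F] {h : GL (Fin t → Fin d) F} (hh : h ∈ Geo.tensorWreathStandard d t F) :
    ∃ (a : Fin t → GL (Fin d) F) (σ : Equiv.Perm (Fin t)), h = tensGL a * factorPerm σ := by
  rw [Geo.tensorWreathStandard, ← Subgroup.mem_toSubmonoid, Subgroup.closure_toSubmonoid_of_finite] at hh
  induction hh using Submonoid.closure_induction with
  | mem g hg =>
    rcases hg with ⟨gs, hgs⟩ | ⟨σ, hσ⟩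
    · exact ⟨gs, 1, Units.ext (by rw [factorPerm_one, mul_one]; exact Matrix.ext hgs)⟩
    · exact ⟨1, σ, Units.ext (by rw [tensGL_one, one_mul]; exact Matrix.ext hσ)⟩
  | one => exact ⟨1, 1, by rw [factorPerm_one, tensGL_one, mul_one]⟩
  | mul g g' _ _ hg hg' =>
    obtain ⟨a, σ, rfl⟩ := hg
    obtain ⟨b, τ, rfl⟩ := hg'
    refine ⟨a * fun i => b (σ.symm i), σ * τ, ?_⟩
    rw [← tensGL_mul, ← factorPerm_mul, mul_assoc (tensGL a), ← mul_assoc (factorPerm σ), factorPerm_mul_tensGL]
    simp only [mul_assoc]

/-- Equal pure tensors differing in one factor only. -/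
theorem tens_update_inj {a b : Fin t → Matrix (Fin d) (Fin d) F} {i : Fin t} (h : tens a = tens b)
    (heq : ∀ j, j ≠ i → a j = b j) (hne : ∀ j, j ≠ i → a j ≠ 0) : a i = b i := by
  classical
  have hex : ∀ j, j ≠ i → ∃ p q, a j p q ≠ 0 := fun j hj => by
    by_contra hcon
    push Not at hcon
    exact hne j hj (Matrix.ext hcon)
  ext u v
  let p : Fin t → Fin d := fun j => if hj : j = i then u else (hex j hj).choose
  let q : Fin t → Fin d := fun j => if hj : j = i then v else (hex j hj).choose_spec.choose
  have h1 := congrFun (congrFun h p) q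
  rw [tens_apply, tens_apply, Fintype.prod_eq_mul_prod_compl i, Fintype.prod_eq_mul_prod_compl i] at h1
  have hpi : p i = u := by simp [p]
  have hqi : q i = v := by simp [q]
  rw [hpi, hqi] at h1
  have h2 : ∏ j ∈ ({i} : Finset (Fin t))ᶜ, b j (p j) (q j) = ∏ j ∈ ({i} : Finset (Fin t))ᶜ, a j (p j) (q j) :=
    Finset.prod_congr rfl fun j hj => by rw [heq j (by simpa using hj)]
  rw [h2] at h1
  refine mul_right_cancel₀ (Finset.prod_ne_zero_iff.mpr fun j hj => ?_) h1
  have hji : j ≠ i := by simpa using hj
  simp only [p, q, dif_neg hji]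
  exact (hex j hji).choose_spec.choose_spec

/-- A pure tensor equal to the identity has scalar factors. -/
theorem tens_eq_one_imp {a : Fin t → Matrix (Fin d) (Fin d) F} (h : tens a = 1) (i : Fin t) :
    ∃ c : F, c ≠ 0 ∧ a i = c • 1 := by
  classical
  rcases Nat.eq_zero_or_pos d with rfl | hd
  · exact ⟨1, one_ne_zero, Matrix.ext fun u => u.elim0⟩
  let z : Fin d := ⟨0, hd⟩
  set r := ∏ j ∈ ({i} : Finset (Fin t))ᶜ, a j z z with hr
  have key : ∀ u v, a i u v * r = if u = v then 1 else 0 := fun u v => by
    have h1 := congrFun (congrFun h (Function.update (fun _ => z) i u)) (Function.update (fun _ => z) i v)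
    rw [tens_apply, Fintype.prod_eq_mul_prod_compl i, Function.update_self, Function.update_self] at h1
    have hrest : ∏ j ∈ ({i} : Finset (Fin t))ᶜ,
        a j (Function.update (fun _ => z) i u j) (Function.update (fun _ => z) i v j) = r :=
      Finset.prod_congr rfl fun j hj => by
        have hji : j ≠ i := by simpa using hj
        rw [Function.update_of_ne hji, Function.update_of_ne hji]
    rw [hrest] at h1
    rw [h1, Matrix.one_apply]
    by_cases huv : u = v
    · rw [if_pos (by rw [huv]), if_pos huv]
    · rw [if_neg (fun e => huv (by simpa using congrFun e i)), if_neg huv]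
  have hr0 : r ≠ 0 := fun e => by
    have h1 := key z z
    rw [e, mul_zero, if_pos rfl] at h1
    exact zero_ne_one h1
  refine ⟨r⁻¹, inv_ne_zero hr0, ?_⟩
  ext u v
  have h1 := key u v
  rw [Matrix.smul_apply, Matrix.one_apply, smul_eq_mul]
  by_cases huv : u = v
  · rw [if_pos huv] at h1 ⊢
    rw [mul_one]
    exact eq_inv_of_mul_eq_one_left h1
  · rw [if_neg huv] at h1 ⊢
    rw [mul_zero]
    exact (mul_eq_zero.mp h1).resolve_right hr0

/-- A subalgebra containing all the slots is everything. -/
theorem eq_top_of_slots {A : Subalgebra F (Matrix (Fin t → Fin d) (Fin t → Fin d) F)}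
    (h : ∀ i M, slot i M ∈ A) : A = ⊤ := by
  classical
  have hall : ∀ (s : Finset (Fin t)) (M : Fin t → Matrix (Fin d) (Fin d) F),
      tens (fun j => if j ∈ s then M j else 1) ∈ A := by
    intro s M
    induction s using Finset.induction with
    | empty =>
      simp only [Finset.notMem_empty, if_false]
      rw [show (fun _ : Fin t => (1 : Matrix (Fin d) (Fin d) F)) = 1 from rfl, tens_one]
      exact one_mem A
    | insert a s ha ih =>
      have he : tens (fun j => if j ∈ insert a s then M j else 1) =
          slot a (M a) * tens (fun j => if j ∈ s then M j else 1) := by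
        rw [slot, tens_mul]
        congr 1
        funext j
        rcases eq_or_ne j a with rfl | hja
        · simp [ha]
        · simp [hja, Function.update_of_ne hja]
      rw [he]
      exact mul_mem (h _ _) ih
  rw [Algebra.eq_top_iff]
  intro X
  rw [Matrix.matrix_eq_sum_single X]
  refine sum_mem fun x _ => sum_mem fun y _ => ?_
  have he : Matrix.single x y (X x y) =
      X x y • tens (fun j => if j ∈ (Finset.univ : Finset (Fin t)) then Matrix.single (x j) (y j) (1 : F) else 1) := by
    ext u v
    simp only [Finset.mem_univ, if_true, Matrix.smul_apply, tens_apply, Matrix.single_apply, Finset.prod_boole,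
      forall_const, smul_eq_mul]
    by_cases hc : x = u ∧ y = v
    · rw [if_pos hc, if_pos (fun j => ⟨congrFun hc.1 j, congrFun hc.2 j⟩), mul_one]
    · rw [if_neg hc, if_neg (fun hj => hc ⟨funext fun j => (hj j).1, funext fun j => (hj j).2⟩), mul_zero]
  rw [he]
  exact A.smul_mem (hall _ _) _

/-- The common centraliser of the slots consists of the scalars. -/
theorem slot_centraliser {T : Matrix (Fin t → Fin d) (Fin t → Fin d) F} (hT : ∀ i M, Commute T (slot i M)) :
    ∃ c : F, T = c • 1 := by
  have h := eq_top_of_slots (A := Subalgebra.centralizer F {T}) fun i M => by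
    rw [Subalgebra.mem_centralizer_iff]
    intro g hg
    rw [Set.mem_singleton_iff] at hg
    subst hg
    exact (hT i M).eq
  obtain ⟨c, hc⟩ := Matrix.mem_range_scalar_of_commute_single (M := T) fun i j _ => by
    have hmem : Matrix.single i j (1 : F) ∈ Subalgebra.centralizer F {T} := h ▸ Algebra.mem_top
    exact ((Subalgebra.mem_centralizer_iff F).mp hmem T rfl).symm
  exact ⟨c, by rw [← hc, Matrix.scalar_apply, ← Matrix.smul_one_eq_diagonal]⟩

end Cfsg.Agent.MaxSub.Asch
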