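import Mathlib
import Cfsg.Agent.MaxSub.Asch.OrthOdd
import Cfsg.Agent.MaxSub.Asch.TensorAux
import Cfsg.Agent.MaxSub.Asch.SymplecticTensor
import Cfsg.Agent.MaxSub.Asch.Nonabelian
import Cfsg.Agent.Lib.Forms.Sesq

/-!
The subgroup structure of the odd-dimensional orthogonal groups: tensor decompositions.
-/

set_option autoImplicit false
set_option linter.unusedSectionVars false
set_option linter.style.haveILetI false

namespace Cfsg.Agent.MaxSub.Asch

open scoped MatrixGroups Matrix Kronecker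
open Module
open Cfsg.Agent.Aschbacher (NormalIn Inv Irr)

variable {F : Type*} [Field F]

theorem transport_change {ι κ : Type} [Fintype ι] [DecidableEq ι] [Fintype κ] [DecidableEq κ] (Φ : FormData ι F)
    (e : ι ≃ κ) (P : GL ι F) (T : GL κ F) :
    ((Φ.transport e (P * Geo.glReindex e.symm T)).gram : Matrix κ κ F) =
      (T : Matrix κ κ F)ᵀ * ((Φ.transport e P).gram : Matrix κ κ F) * (T : Matrix κ κ F).map Φ.σ := by
  set R := Matrix.reindexAlgEquiv F F e.symm with hR
  apply R.injective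
  have hG : ∀ P' : GL ι F, R ((Φ.transport e P').gram : Matrix κ κ F) =
      (P' : Matrix ι ι F)ᵀ * (Φ.gram : Matrix ι ι F) * (P' : Matrix ι ι F).map Φ.σ := fun P' => by
    rw [FormData.transport_gram]; ext i j; simp [hR]
  rw [hG, map_mul, map_mul, hG]
  have hv : ((P * Geo.glReindex e.symm T : GL ι F) : Matrix ι ι F) = (P : Matrix ι ι F) * R (T : Matrix κ κ F) := rfl
  have hRT : R (T : Matrix κ κ F)ᵀ = (R (T : Matrix κ κ F))ᵀ := by ext i j; simp [hR]
  rw [hv, Matrix.transpose_mul, Matrix.map_mul, hRT, ← FormData.tr_map]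
  simp only [mul_assoc]
  rfl

theorem tr_mulVec {ι κ : Type} [Fintype ι] [DecidableEq ι] [Fintype κ] [DecidableEq κ] (e : ι ≃ κ) (P : GL ι F)
    (M : Matrix κ κ F) (v : κ → F) :
    tr e P M *ᵥ ((P : Matrix ι ι F) *ᵥ (v ∘ e)) = (P : Matrix ι ι F) *ᵥ ((M *ᵥ v) ∘ e) := by
  rw [tr_apply, Matrix.mulVec_mulVec, mul_assoc, Units.inv_mul, mul_one, ← Matrix.mulVec_mulVec]
  congr 1
  funext i
  simp only [Matrix.mulVec, dotProduct, Function.comp_apply, Matrix.reindexAlgEquiv_apply, Matrix.reindex_apply,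
    Matrix.submatrix_apply, Equiv.symm_symm]
  exact e.sum_comp fun j => M (e i) j * v j

/-- A Gram matrix proportional to its transpose is symmetric in odd dimension. -/
theorem sym_of_proportional {d : ℕ} (hd : Odd d) (G : GL (Fin d) F) {a : F}
    (h : (G : Matrix (Fin d) (Fin d) F)ᵀ = a • (G : Matrix (Fin d) (Fin d) F)) :
    (G : Matrix (Fin d) (Fin d) F)ᵀ = (G : Matrix (Fin d) (Fin d) F) := by
  haveI : Nonempty (Fin d) := ⟨⟨0, hd.pos⟩⟩
  have h2 : a * a = 1 := by
    have h1 := congrArg Matrix.transpose h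
    rw [Matrix.transpose_transpose, Matrix.transpose_smul, h, smul_smul] at h1
    exact smul_left_injective F G.ne_zero (h1.symm.trans (one_smul F _).symm)
  have h3 := congrArg Matrix.det h
  rw [Matrix.det_transpose, Matrix.det_smul, Fintype.card_fin] at h3
  have h4 : a ^ d = 1 := mul_right_cancel₀ ((Matrix.isUnit_iff_isUnit_det _).mp G.isUnit).ne_zero
    (h3.symm.trans (one_mul _).symm)
  obtain ⟨j, rfl⟩ := hd
  rw [pow_succ, pow_mul, pow_two, h2, one_pow, one_mul] at h4
  rw [h, h4, one_smul]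

theorem gramForm_symmetric {d : ℕ} (G : GL (Fin d) F)
    (h : (G : Matrix (Fin d) (Fin d) F)ᵀ = (G : Matrix (Fin d) (Fin d) F)) :
    Geo.IsSymmetricForm (gramForm (G : Matrix (Fin d) (Fin d) F)) :=
  ⟨gramForm_bilinear _, fun u v => by rw [gramForm_swap, h], gramForm_nondegenerate G.isUnit⟩

variable [Fintype F]

/-- A change of basis inside the wreath group does not move it. -/
theorem wreath_change' {ι : Type} [Fintype ι] [DecidableEq ι] {d t : ℕ} (e : ι ≃ (Fin t → Fin d)) (P : GL ι F)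
    {T : GL (Fin t → Fin d) F} (hT : T ∈ Geo.tensorWreathStandard d t F) :
    Geo.tensorWreathSubgroup d t e P ≤ Geo.tensorWreathSubgroup d t e (P * Geo.glReindex e.symm T) := by
  rintro _ ⟨_, ⟨h, hh, rfl⟩, rfl⟩
  refine ⟨_, ⟨T⁻¹ * h * T, mul_mem (mul_mem (inv_mem hT) hh) hT, rfl⟩, ?_⟩
  simp [mul_assoc]

/-- A non-degenerate symmetric matrix of odd order over a finite field is congruent to a scalar one. -/
theorem exists_scalar_congr (h2 : (2 : F) ≠ 0) {d : ℕ} (hd : Odd d) (G : GL (Fin d) F)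
    (hG : (G : Matrix (Fin d) (Fin d) F)ᵀ = (G : Matrix (Fin d) (Fin d) F)) :
    ∃ (X : GL (Fin d) F) (s : F), s ≠ 0 ∧ (X : Matrix (Fin d) (Fin d) F)ᵀ * (G : Matrix (Fin d) (Fin d) F) *
      (X : Matrix (Fin d) (Fin d) F) = s • 1 := by
  classical
  obtain ⟨n, rfl⟩ : ∃ n, d = n + 1 := ⟨d - 1, by have := hd.pos; omega⟩
  obtain ⟨α, hα⟩ : ∃ α : F, ¬ IsSquare α := FiniteField.exists_nonsquare fun h => h2 (by
    have := ringChar.of_eq h
    exact CharP.cast_eq_zero F 2)
  have hα0 : α ≠ 0 := fun h => hα (h ▸ IsSquare.zero)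
  have family : ∀ A : GL (Fin (n + 1)) F, (A : Matrix (Fin (n + 1)) (Fin (n + 1)) F)ᵀ = A →
      ∃ (Y : Matrix (Fin (n + 1)) (Fin (n + 1)) F) (δ : F), (δ = 1 ∨ δ = α) ∧
        Yᵀ * (A : Matrix (Fin (n + 1)) (Fin (n + 1)) F) * Y =
          Matrix.diagonal (Function.update 1 (Fin.last n) δ) := by
    intro A hA
    let B : LinearMap.BilinForm F (Fin (n + 1) → F) := Matrix.toBilin' (A : Matrix (Fin (n + 1)) (Fin (n + 1)) F)
    have hB : ∀ u v, B u v = gramForm (A : Matrix (Fin (n + 1)) (Fin (n + 1)) F) u v :=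
      fun u v => Matrix.toBilin'_apply' _ _ _
    have hS : LinearMap.IsSymm B := ⟨fun u v => by rw [hB, hB, gramForm_swap, hA]; rfl⟩
    obtain ⟨b, -, horth, hone, hlast⟩ := Forms.exists_orthogonal_family_one_or_nonsquare B hS h2 α hα n ⊤
      (fun w _ h => by
        by_contra h0
        obtain ⟨x, hx⟩ := ((gramForm_symmetric A hA).nondegenerate w h0).2
        exact hx (by rw [← hB]; exact h x Submodule.mem_top))
      (by simp)
    refine ⟨Matrix.of fun k i => b i k, B (b (Fin.last n)) (b (Fin.last n)), hlast, ?_⟩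
    ext i j
    have h : ((Matrix.of fun k i => b i k)ᵀ * (A : Matrix (Fin (n + 1)) (Fin (n + 1)) F) *
        (Matrix.of fun k i => b i k)) i j = B (b i) (b j) := by
      rw [hB, mul_assoc]; rfl
    rw [h, Matrix.diagonal_apply]
    rcases eq_or_ne i j with rfl | hij
    · rw [if_pos rfl]
      rcases eq_or_ne i (Fin.last n) with rfl | hi
      · rw [Function.update_self]
      · rw [Function.update_of_ne hi, Pi.one_apply]; exact hone i hi
    · rw [if_neg hij]; exact horth i j hij
  have hdiag1 : Matrix.diagonal (Function.update (1 : Fin (n + 1) → F) (Fin.last n) 1) = 1 := by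
    rw [show Function.update (1 : Fin (n + 1) → F) (Fin.last n) 1 = 1 from
      Function.update_eq_self (Fin.last n) (1 : Fin (n + 1) → F)]
    exact Matrix.diagonal_one
  have mkGL : ∀ (X : Matrix (Fin (n + 1)) (Fin (n + 1)) F) (s : F), s ≠ 0 →
      Xᵀ * (G : Matrix (Fin (n + 1)) (Fin (n + 1)) F) * X = s • 1 →
      ∃ (X : GL (Fin (n + 1)) F) (s : F), s ≠ 0 ∧ (X : Matrix (Fin (n + 1)) (Fin (n + 1)) F)ᵀ *
        (G : Matrix (Fin (n + 1)) (Fin (n + 1)) F) * (X : Matrix (Fin (n + 1)) (Fin (n + 1)) F) = s • 1 :=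
    fun X s hs hX => by
    refine ⟨Matrix.GeneralLinearGroup.mkOfDetNeZero X fun h0 => ?_, s, hs, hX⟩
    have h1 := congrArg Matrix.det hX
    rw [Matrix.det_mul, Matrix.det_mul, Matrix.det_transpose, h0, zero_mul, zero_mul, Matrix.det_smul,
      Matrix.det_one, mul_one] at h1
    exact pow_ne_zero _ hs h1.symm
  obtain ⟨Y, δ, hδ, hY⟩ := family G hG
  rcases hδ with hδ | hδ
  · exact mkGL Y 1 one_ne_zero (by rw [hY, hδ, hdiag1, one_smul])
  obtain ⟨Y', δ', hδ', hY'⟩ := family (Units.mk0 α hα0 • G) (by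
    rw [Units.val_smul, Matrix.transpose_smul, hG])
  rw [Units.val_smul, show (Units.mk0 α hα0) • (G : Matrix (Fin (n + 1)) (Fin (n + 1)) F) =
    α • (G : Matrix (Fin (n + 1)) (Fin (n + 1)) F) from rfl, Matrix.mul_smul, Matrix.smul_mul] at hY'
  rcases hδ' with hδ' | hδ'
  · refine mkGL Y' α⁻¹ (inv_ne_zero hα0) ?_
    rw [hδ', hdiag1] at hY'
    rw [← hY', smul_smul, inv_mul_cancel₀ hα0, one_smul]
  exfalso
  rw [hδ] at hY
  rw [hδ'] at hY'
  have hdet : ∀ x : F, (Matrix.diagonal (Function.update (1 : Fin (n + 1) → F) (Fin.last n) x)).det = x := by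
    intro x
    rw [Matrix.det_diagonal, Fintype.prod_eq_single (Fin.last n) (fun i hi => by simp [Function.update_of_ne hi]),
      Function.update_self]
  have h1 := congrArg Matrix.det hY
  have h1' := congrArg Matrix.det hY'
  rw [hdet, Matrix.det_mul, Matrix.det_mul, Matrix.det_transpose] at h1
  rw [hdet, Matrix.det_smul, Matrix.det_mul, Matrix.det_mul, Matrix.det_transpose, Fintype.card_fin] at h1'
  obtain ⟨j, hj⟩ := hd
  rw [show α ^ (n + 1) = α ^ (2 * j + 1) from congrArg (α ^ ·) hj] at h1'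
  set D := Matrix.det (G : Matrix (Fin (n + 1)) (Fin (n + 1)) F)
  have hy : Y'.det ≠ 0 := fun h => hα0 (by rw [← h1', h]; ring)
  refine hα ⟨Y.det / (α ^ j * Y'.det), ?_⟩
  have hD : D ≠ 0 := fun h => hα0 (by rw [← h1, h]; ring)
  field_simp
  refine mul_right_cancel₀ hD ?_
  linear_combination h1' - h1

/-- The orthogonal group in dimension three over the field with three elements is monomial. -/
theorem ortho_three_column (hF : Fintype.card F = 3) {a : Matrix (Fin 3) (Fin 3) F} (ha : aᵀ * a = 1) (j : Fin 3) :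
    ∃ i, ∀ k, a k j ≠ 0 → k = i := by
  have hodd : Odd (Fintype.card F) := by rw [hF]; decide
  have h2 := Aschbacher.two_ne_zero_of_odd hodd
  have hsq : ∀ x : F, x ≠ 0 → x * x = 1 := fun x hx => by
    have := FiniteField.pow_card_sub_one_eq_one x hx
    rwa [hF, show 3 - 1 = 2 from rfl, pow_two] at this
  have h3 : (3 : F) = 0 := by
    have := Nat.cast_card_eq_zero F
    rw [hF] at this
    exact_mod_cast this
  have h := congrFun (congrFun ha j) j
  rw [Matrix.mul_apply, Fin.sum_univ_three, Matrix.one_apply_eq] at h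
  simp only [Matrix.transpose_apply] at h
  by_cases a0 : a 0 j = 0 <;> by_cases a1 : a 1 j = 0 <;> by_cases a2 : a 2 j = 0
  · simp [a0, a1, a2] at h
  · exact ⟨2, fun k hk => by fin_cases k <;> simp_all⟩
  · exact ⟨1, fun k hk => by fin_cases k <;> simp_all⟩
  · rw [a0, zero_mul, hsq _ a1, hsq _ a2] at h
    exact absurd (show (1 : F) = 0 by linear_combination h) one_ne_zero
  · exact ⟨0, fun k hk => by fin_cases k <;> simp_all⟩
  · rw [a1, zero_mul, hsq _ a0, hsq _ a2] at h
    exact absurd (show (1 : F) = 0 by linear_combination h) one_ne_zero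
  · rw [a2, zero_mul, hsq _ a0, hsq _ a1] at h
    exact absurd (show (1 : F) = 0 by linear_combination h) one_ne_zero
  · rw [hsq _ a0, hsq _ a1, hsq _ a2] at h
    exact absurd (show (1 : F) = 0 by linear_combination h3 - h) one_ne_zero

variable {m : ℕ} (h2 : (2 : F) ≠ 0) {H : Subgroup (GL (OIdx m) F)}

include h2

/-- Two tensor factors of different dimensions. -/
theorem inOO_tensor_lt (hH : H ≤ isometryGroup F (quadFormOdd m F)) {d k : ℕ} (hd : 3 ≤ d) (hdk : d < k)
    (e : OIdx m ≃ Fin d × Fin k) (P : GL (OIdx m) F) (hle : H ≤ Geo.tensorProductSubgroup d k e P)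
    (G₁ : GL (Fin d) F) (G₂ : GL (Fin k) F)
    (h₁ : (G₁ : Matrix (Fin d) (Fin d) F)ᵀ = (G₁ : Matrix (Fin d) (Fin d) F))
    (h₂ : (G₂ : Matrix (Fin k) (Fin k) F)ᵀ = (G₂ : Matrix (Fin k) (Fin k) F))
    (hgram : (((orthData (m := m) h2).transport e P).gram : Matrix (Fin d × Fin k) (Fin d × Fin k) F) =
      (G₁ : Matrix (Fin d) (Fin d) F) ⊗ₖ (G₂ : Matrix (Fin k) (Fin k) F)) : InOO H := by
  refine ⟨_, Or.inr <| Or.inr <| Or.inr <| Or.inr <| Or.inr <| Or.inl
    ⟨d, k, e, P, _, _, hd, hdk, gramForm_symmetric G₁ h₁, gramForm_symmetric G₂ h₂, ⟨1, one_ne_zero, ?_⟩, rfl⟩,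
    le_inf hle hH⟩
  intro x y
  rw [gramMatrix_gramForm, gramMatrix_gramForm, ← orthData_form (m := m) h2, FormData.transport_form, FormData.form,
    hgram, one_mul, show ((orthData (m := m) h2).transport e P).σ = RingHom.id F from rfl]
  simp only [Geo.formOfGram, dotProduct, Matrix.mulVec, Finset.mul_sum, id_eq, RingHom.id_apply]
  exact Finset.sum_congr rfl fun _ _ => Finset.sum_congr rfl fun _ _ => (mul_assoc _ _ _).symm

/-- Tensor powers in dimension three over the field with three elements are monomial. -/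
theorem inOO_power_three (hH : H ≤ isometryGroup F (quadFormOdd m F)) (hirr : Irr H) (hF : Fintype.card F = 3) {t : ℕ}
    (ht : 1 ≤ t) (e : OIdx m ≃ (Fin t → Fin 3)) (P' : GL (OIdx m) F) (hle : H ≤ Geo.tensorWreathSubgroup 3 t e P')
    {cc : F} (hcc0 : cc ≠ 0)
    (hgram' : (((orthData (m := m) h2).transport e P').gram : Matrix (Fin t → Fin 3) (Fin t → Fin 3) F) = cc • 1) :
    InOO H := by
  classical
  haveI : Nonempty (Fin t → Fin 3) := ⟨fun _ => 0⟩
  let ε : Fin (Fintype.card (Fin t → Fin 3)) ≃ (Fin t → Fin 3) := (Fintype.equivFin _).symm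
  let bw : Basis (Fin (Fintype.card (Fin t → Fin 3))) F (OIdx m → F) :=
    ((Pi.basisFun F (OIdx m)).map (Aschbacher.glEquiv P')).reindex (e.trans ε.symm)
  have hbw : ∀ i, bw i = (P' : Matrix (OIdx m) (OIdx m) F) *ᵥ
      ((Pi.single (ε i) (1 : F) : (Fin t → Fin 3) → F) ∘ e) := fun i => by
    have : ((Pi.single (ε i) (1 : F) : (Fin t → Fin 3) → F) ∘ e) = Pi.single (e.symm (ε i)) 1 := by
      funext x
      simp only [Function.comp_apply, Pi.single_apply]
      exact if_congr ⟨fun h => by rw [← h, Equiv.symm_apply_apply], fun h => by rw [h, Equiv.apply_symm_apply]⟩ rfl rfl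
    rw [this]
    simp [bw]
  let D : Fin (Fintype.card (Fin t → Fin 3)) → Submodule F (OIdx m → F) := fun i => F ∙ bw i
  have hform : ∀ i j, QuadraticMap.polar (quadFormOdd m F) (bw i) (bw j) = if i = j then cc else 0 := by
    intro i j
    rw [hbw, hbw, ← orthData_form (m := m) h2, FormData.transport_form, FormData.form, hgram',
      show ((orthData (m := m) h2).transport e P').σ = RingHom.id F from rfl]
    simp [Matrix.smul_mulVec, Pi.single_apply, ε.injective.eq_iff, eq_comm]
  have hdec : Geo.IsMDecomposition 1 D := by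
    refine ⟨?_, one_pos, fun i => finrank_span_singleton (bw.ne_zero i), bw.linearIndependent.iSupIndep_span_singleton,
      ?_⟩
    · rw [Fintype.card_fun, Fintype.card_fin, Fintype.card_fin]
      calc 2 ≤ 3 ^ 1 := by norm_num
        _ ≤ 3 ^ t := Nat.pow_le_pow_right (by norm_num) ht
    · rw [← Submodule.span_range_eq_iSup]; exact bw.span_eq
  have hD : Geo.IsNondegenerateMDecomposition (QuadraticMap.polar (quadFormOdd m F)) 1 D := by
    refine ⟨hdec, fun i w hw hw0 => ?_, fun i j hij u hu v hv => ?_⟩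
    · obtain ⟨a, rfl⟩ := Submodule.mem_span_singleton.mp hw
      have ha : a ≠ 0 := fun h => hw0 (by rw [h, zero_smul])
      refine ⟨⟨bw i, Submodule.mem_span_singleton_self _, ?_⟩, ⟨bw i, Submodule.mem_span_singleton_self _, ?_⟩⟩
      · rw [polarOdd_bilinear.smul_right, hform, if_pos rfl]; exact mul_ne_zero ha hcc0
      · rw [polarOdd_bilinear.smul_left, hform, if_pos rfl]; exact mul_ne_zero ha hcc0
    · obtain ⟨a, rfl⟩ := Submodule.mem_span_singleton.mp hu
      obtain ⟨a', rfl⟩ := Submodule.mem_span_singleton.mp hv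
      rw [polarOdd_bilinear.smul_left, polarOdd_bilinear.smul_right, hform, if_neg hij, mul_zero, mul_zero]
  refine inOO_decomp h2 hH hirr hD fun g hg => ?_
  obtain ⟨_, ⟨h₀, hh₀, rfl⟩, hg0⟩ := hle hg
  obtain ⟨a, σ, hh⟩ := exists_wreath_elem hh₀
  have hgv : (g : Matrix (OIdx m) (OIdx m) F) =
      tr e P' (h₀ : Matrix (Fin t → Fin 3) (Fin t → Fin 3) F) := by
    rw [← hg0, ← tr_eq_conj_glReindex]
    rfl
  have hsim := (orthData (m := m) h2).transport_sim e P' hgv (c := 1) (by
    rw [one_smul, show (orthData (m := m) h2).σ = RingHom.id F from rfl, map_id_eq, orthData_gram]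
    exact gram_of_iso (hH hg))
  rw [one_smul, hgram', show (orthData (m := m) h2).σ = RingHom.id F from rfl, map_id_eq, Matrix.mul_smul,
    Matrix.smul_mul, mul_one] at hsim
  have hu := smul_right_injective (Matrix (Fin t → Fin 3) (Fin t → Fin 3) F) hcc0 hsim
  set Ps := ((factorPerm σ : GL (Fin t → Fin 3) F) : Matrix (Fin t → Fin 3) (Fin t → Fin 3) F) with hPs
  rw [hh, Units.val_mul, ← hPs,
    show ((tensGL a : GL (Fin t → Fin 3) F) : Matrix (Fin t → Fin 3) (Fin t → Fin 3) F) =
      tens fun i => (a i : Matrix (Fin 3) (Fin 3) F) from rfl, Matrix.transpose_mul, tens_transpose, ← mul_assoc,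
    mul_assoc Psᵀ (tens _) (tens _), tens_mul] at hu
  have hM1 : tens ((fun i => (a i : Matrix (Fin 3) (Fin 3) F)ᵀ) * fun i => (a i : Matrix (Fin 3) (Fin 3) F)) = 1 := by
    have h2' : Ps * Psᵀ = 1 := mul_eq_one_comm.mp (factorPerm_transpose_mul σ)
    calc _ = (Ps * Psᵀ) * tens ((fun i => (a i : Matrix (Fin 3) (Fin 3) F)ᵀ) *
          fun i => (a i : Matrix (Fin 3) (Fin 3) F)) * (Ps * Psᵀ) := by rw [h2', one_mul, mul_one]
      _ = Ps * (Psᵀ * tens ((fun i => (a i : Matrix (Fin 3) (Fin 3) F)ᵀ) *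
          fun i => (a i : Matrix (Fin 3) (Fin 3) F)) * Ps) * Psᵀ := by simp only [mul_assoc]
      _ = 1 := by rw [hu, mul_one, h2']
  have hsq : ∀ x : F, x ≠ 0 → x * x = 1 := fun x hx => by
    have := FiniteField.pow_card_sub_one_eq_one x hx
    rwa [hF, show 3 - 1 = 2 from rfl, pow_two] at this
  have hcol : ∀ i j, ∃ l, ∀ k, (a i : Matrix (Fin 3) (Fin 3) F) k j ≠ 0 → k = l := by
    intro i
    obtain ⟨κ, hκ0, hκ⟩ := tens_eq_one_imp hM1 i
    simp only [Pi.mul_apply] at hκ
    have hκ1 : κ = 1 := by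
      have h1 := congrArg Matrix.det hκ
      rw [Matrix.det_mul, Matrix.det_transpose, hsq _ ((Matrix.isUnit_iff_isUnit_det _).mp (a i).isUnit).ne_zero,
        Matrix.det_smul, Matrix.det_one, mul_one, Fintype.card_fin, pow_succ, pow_two, hsq κ hκ0, one_mul] at h1
      exact h1.symm
    rw [hκ1, one_smul] at hκ
    exact ortho_three_column hF hκ
  choose π hπ using hcol
  have hmono : ∀ y : Fin t → Fin 3, ∃ (x : Fin t → Fin 3) (r : F),
      ((tens fun i => (a i : Matrix (Fin 3) (Fin 3) F)) * Ps) *ᵥ Pi.single y 1 = r • Pi.single x 1 := by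
    intro y
    let z : Fin t → Fin 3 := y ∘ σ.symm
    let x : Fin t → Fin 3 := fun i => π i (z i)
    refine ⟨x, tens (fun i => (a i : Matrix (Fin 3) (Fin 3) F)) x z, ?_⟩
    have hz : Ps *ᵥ Pi.single y (1 : F) = Pi.single z 1 := by
      funext u
      rw [Matrix.mulVec_single_one, Matrix.col_apply]
      simp only [hPs, factorPerm, Matrix.of_apply, Pi.single_apply, z]
      refine if_congr ⟨?_, ?_⟩ rfl rfl <;> rintro rfl <;> simp [Function.comp_assoc]
    rw [← Matrix.mulVec_mulVec, hz]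
    funext u
    rw [Matrix.mulVec_single_one, Matrix.col_apply, Pi.smul_apply, Pi.single_apply, smul_eq_mul, mul_ite, mul_one,
      mul_zero]
    by_cases hu : u = x
    · rw [if_pos hu, hu]
    · rw [if_neg hu, tens_apply]
      obtain ⟨i, hi⟩ := Function.ne_iff.mp hu
      exact Finset.prod_eq_zero (Finset.mem_univ i) (not_not.mp fun h => hi (hπ i (z i) _ h))
  have hmap : ∀ i, ∃ j, (D i).map (Matrix.toLin' (g : Matrix (OIdx m) (OIdx m) F)) = D j := by
    intro i
    obtain ⟨x, r, hr⟩ := hmono (ε i)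
    refine ⟨ε.symm x, ?_⟩
    have hgb : (g : Matrix (OIdx m) (OIdx m) F) *ᵥ bw i = r • bw (ε.symm x) := by
      rw [hbw, hbw, Equiv.apply_symm_apply, hgv, tr_mulVec, hh, Units.val_mul, ← hPs,
        show ((tensGL a : GL (Fin t → Fin 3) F) : Matrix (Fin t → Fin 3) (Fin t → Fin 3) F) =
          tens fun i => (a i : Matrix (Fin 3) (Fin 3) F) from rfl, hr, ← Matrix.mulVec_smul]
      rfl
    have hr0 : r ≠ 0 := fun h => bw.ne_zero i (Aschbacher.mulVec_gl_inj g (by
      show _ *ᵥ _ = _ *ᵥ _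
      rw [hgb, h, zero_smul, Matrix.mulVec_zero]))
    show (F ∙ bw i).map _ = F ∙ bw (ε.symm x)
    rw [Submodule.map_span, Set.image_singleton, Matrix.toLin'_apply, hgb,
      Submodule.span_singleton_smul_eq (IsUnit.mk0 r hr0)]
  choose π' hπ' using hmap
  have hinj : Function.Injective π' := fun i j hij => by
    by_contra hne
    have h1 : (D i).map (Matrix.toLin' (g : Matrix (OIdx m) (OIdx m) F)) =
        (D j).map (Matrix.toLin' (g : Matrix (OIdx m) (OIdx m) F)) := by rw [hπ', hπ', hij]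
    have h2' : D i = D j := Submodule.map_injective_of_injective (Aschbacher.glEquiv g).injective h1
    have h3 := hdec.indep.pairwiseDisjoint hne
    rw [Function.onFun, h2', disjoint_self] at h3
    exact bw.ne_zero j ((Submodule.eq_bot_iff _).mp h3 _ (Submodule.mem_span_singleton_self _))
  exact ⟨Equiv.ofBijective π' (Finite.injective_iff_bijective.mp hinj), hπ'⟩

/-- A tensor power decomposition. -/
theorem inOO_power (hH : H ≤ isometryGroup F (quadFormOdd m F)) (hirr : Irr H) {d t : ℕ} (hd : 3 ≤ d) (hdodd : Odd d)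
    (ht : 2 ≤ t) (e : OIdx m ≃ (Fin t → Fin d)) (P : GL (OIdx m) F) (hle : H ≤ Geo.tensorWreathSubgroup d t e P)
    {c : F} (hc : c ≠ 0) (G : Fin t → GL (Fin d) F)
    (hG : ∀ i, (G i : Matrix (Fin d) (Fin d) F)ᵀ = (G i : Matrix (Fin d) (Fin d) F))
    (hgram : (((orthData (m := m) h2).transport e P).gram : Matrix (Fin t → Fin d) (Fin t → Fin d) F) =
      c • tens fun i => (G i : Matrix (Fin d) (Fin d) F)) : InOO H := by
  classical
  choose X s hs hX using fun i => exists_scalar_congr h2 hdodd (G i) (hG i)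
  set T := tensGL X with hT
  have hTm : T ∈ Geo.tensorWreathStandard d t F := Subgroup.subset_closure (Or.inl ⟨X, fun _ _ => rfl⟩)
  set P' := P * Geo.glReindex e.symm T with hP'
  set cc := c * ∏ i, s i with hcc
  have hcc0 : cc ≠ 0 := mul_ne_zero hc (Finset.prod_ne_zero_iff.mpr fun i _ => hs i)
  have hgram' : (((orthData (m := m) h2).transport e P').gram : Matrix (Fin t → Fin d) (Fin t → Fin d) F) = cc • 1 := by
    rw [hP', transport_change, hgram, show (orthData (m := m) h2).σ = RingHom.id F from rfl, map_id_eq,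
      show (T : Matrix (Fin t → Fin d) (Fin t → Fin d) F) = tens fun i => (X i : Matrix (Fin d) (Fin d) F) from rfl,
      tens_transpose, Matrix.mul_smul, Matrix.smul_mul, tens_mul, tens_mul, hcc, ← smul_smul]
    congr 1
    rw [← tens_one, ← tens_smul]
    congr 1
    exact funext hX
  have hle' : H ≤ Geo.tensorWreathSubgroup d t e P' := hle.trans (wreath_change' e P hTm)
  by_cases hex : Fintype.card F = 3 ∧ d = 3
  · obtain ⟨hF, rfl⟩ := hex
    exact inOO_power_three h2 hH hirr hF (by omega) e P' hle' hcc0 hgram'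
  refine ⟨_, Or.inr <| Or.inr <| Or.inr <| Or.inr <| Or.inr <| Or.inr <| Or.inr
    ⟨d, t, e, P', _, hd, ht, hex, gramForm_symmetric (1 : GL (Fin d) F) (by simp), ⟨cc, hcc0, ?_⟩, rfl⟩,
    le_inf hle' hH⟩
  intro x y
  rw [gramMatrix_gramForm, ← orthData_form (m := m) h2, FormData.transport_form, FormData.form, hgram',
    ← tens_one (d := d) (t := t)]
  simp [dotProduct, Matrix.mulVec, Finset.mul_sum, tens_apply,
    show ((orthData (m := m) h2).transport e P').σ = RingHom.id F from rfl]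
  exact Finset.sum_congr rfl fun _ _ => Finset.sum_congr rfl fun _ _ => by ring

/-- A tensor power of a perfect group. -/
theorem inOO_wreath (hH : H ≤ isometryGroup F (quadFormOdd m F)) (hirr : Irr H) {d t : ℕ}
    {e : OIdx m ≃ (Fin t → Fin d)} {P : GL (OIdx m) F}
    {φ : Matrix (Fin d) (Fin d) F →ₐ[F] Matrix (OIdx m) (OIdx m) F} {M₀ : Subgroup (GL (OIdx m) F)}
    {g : Fin t → GL (OIdx m) F} (hw : PowerData (H ⊔ Geo.scalars (OIdx m) F) d t e P φ M₀ g) : InOO H := by
  classical
  haveI : Nonempty (OIdx m) := ⟨Sum.inl ()⟩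
  have hd := hw.two_le_dim
  have ht := hw.two_le
  have hcard : 2 * m + 1 = d ^ t := by
    have h := Fintype.card_congr e
    simp at h
    omega
  have hdodd : Odd d := (Nat.odd_pow_iff (show t ≠ 0 by omega)).mp (show Odd (d ^ t) from ⟨m, hcard.symm⟩)
  have hd3 : 3 ≤ d := by obtain ⟨j, rfl⟩ := hdodd; omega
  haveI : Nonempty (Fin d) := ⟨⟨0, by omega⟩⟩
  obtain ⟨c, G₁, hc0, hgram⟩ := (orthData (m := m) h2).exists_power_gram (by omega) e P φ g
    (fun i => orth_isSim h2 hH (hw.conj_mem i)) (fun M => by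
      rw [hw.range_eq]
      exact (orthData (m := m) h2).adj_mem_alg (fun x hx => orth_isSim h2 hH (hw.base_le hx))
        (hw.range_eq ▸ ⟨M, rfl⟩))
    hw.slot_eq (fun T hT => slot_centraliser hT)
  have hsym : tens (fun _ : Fin t => (G₁ : Matrix (Fin d) (Fin d) F)ᵀ) =
      (1 : F) • tens (fun _ : Fin t => (G₁ : Matrix (Fin d) (Fin d) F)) := by
    have h := ((orthData (m := m) h2).transport e P).herm
    rw [hgram, show ((orthData (m := m) h2).transport e P).σ = RingHom.id F from rfl,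
      show ((orthData (m := m) h2).transport e P).ε = 1 from rfl, one_smul, map_id_eq, Matrix.transpose_smul,
      tens_transpose] at h
    rw [one_smul]
    exact smul_right_injective _ hc0 h
  obtain ⟨a, ha, -⟩ := tens_const_eq (by omega) hsym G₁.ne_zero one_ne_zero
  exact inOO_power h2 hH hirr hd3 hdodd ht e P (le_sup_left.trans hw.le_wreath) hc0 (fun _ => G₁)
    (fun _ => sym_of_proportional hdodd G₁ ha) hgram

/-- A normal subgroup that is not absolutely irreducible. -/
theorem inOO_clifford (hH : H ≤ isometryGroup F (quadFormOdd m F)) (hirr : Irr H) {L : Subgroup (GL (OIdx m) F)}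
    (hLG : L ≤ H ⊔ Geo.scalars (OIdx m) F) (hL : NormalIn L (H ⊔ Geo.scalars (OIdx m) F))
    (hns : ¬ L ≤ Geo.scalars (OIdx m) F) (habs : ¬ Geo.ActsAbsolutelyIrreducibly (Geo.matrixSet L)) : InOO H := by
  classical
  haveI : Nonempty (OIdx m) := ⟨Sum.inl ()⟩
  have hLH : NormalIn L H := fun g hg x hx => hL g (Subgroup.mem_sup_left hg) x hx
  have hsimL : ∀ g ∈ L, (orthData (m := m) h2).IsSim g := fun g hg => orth_isSim h2 hH (hLG hg)
  by_cases hdim : finrank F (zalg L) = 1
  swap
  · refine inOO_algebra h2 hH hirr (Z := zalg L)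
      (fun x hx y hy => (mem_zalg.mp hy).2 x (mem_zalg.mp hx).1)
      (fun z hz hn => zalg_reduced hLH hirr hz hn)
      (fun z hz => (orthData (m := m) h2).adj_mem_zalg hsimL hz)
      (fun g hg z hz => conj_mem_zalg hLH hg hz) hdim fun K hKZ hK hsa => hns fun x hx => ?_
    rw [show 2 * m + 1 = Fintype.card (OIdx m) by simp; omega] at hK
    have hxK : (x : Matrix (OIdx m) (OIdx m) F) ∈ K := field_centraliser hK fun k hk =>
      (mem_zalg.mp (hKZ hk)).2 _ (coe_mem_alg hx)
    obtain ⟨h, hh, z, hz, rfl⟩ := (Subgroup.mem_sup_of_normal_right (ht := Geo.scalars_normal)).mp (hLG hx)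
    obtain ⟨u, hu⟩ := (Geo.mem_scalars_iff z).mp hz
    have hhK : (h : Matrix (OIdx m) (OIdx m) F) ∈ K := by
      have := K.smul_mem hxK (u : F)⁻¹
      rw [Units.val_mul, hu, Matrix.mul_smul, mul_one, smul_smul, inv_mul_cancel₀ u.ne_zero, one_smul] at this
      exact this
    have hinv : ((h⁻¹ : GL (OIdx m) F) : Matrix (OIdx m) (OIdx m) F) = (h : Matrix (OIdx m) (OIdx m) F) := by
      have h1 := (orthData (m := m) h2).adj_of_sim (g := h) (c := 1) (by
        rw [one_smul, show (orthData (m := m) h2).σ = RingHom.id F from rfl, map_id_eq, orthData_gram]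
        exact gram_of_iso (hH hh))
      rw [hsa _ hhK, map_one, one_smul] at h1
      exact h1.symm
    have hprod : ((h : Matrix (OIdx m) (OIdx m) F) - 1) * ((h : Matrix (OIdx m) (OIdx m) F) + 1) = 0 := by
      have h1 : (h : Matrix (OIdx m) (OIdx m) F) * (h : Matrix (OIdx m) (OIdx m) F) = 1 := by
        nth_rw 2 [← hinv]
        exact h.mul_inv
      rw [mul_add, mul_one, sub_mul, h1, one_mul]
      abel
    refine mul_mem (Aschbacher.mem_scalars_of_smul ?_ (c := if (h : Matrix (OIdx m) (OIdx m) F) = 1 then 1 else -1)) hz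
    split_ifs with h1
    · rw [h1, one_smul]
    · obtain ⟨y, -, hy⟩ := hK.inv _ (sub_mem hhK (one_mem K)) (sub_ne_zero.mpr h1)
      have hy' := mul_eq_one_comm.mp hy
      have h3 := congrArg (y * ·) hprod
      simp only [← mul_assoc, hy', one_mul, mul_zero] at h3
      rw [neg_one_smul]
      exact eq_neg_of_add_eq_zero_left h3
  obtain ⟨d, k, e, P, φ, hd, hk, hφr, hφe, hle⟩ := exists_tensor hLH hirr hns habs hdim
  haveI : Nonempty (Fin d) := ⟨⟨0, by omega⟩⟩
  haveI : Nonempty (Fin k) := ⟨⟨0, by omega⟩⟩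
  have hA : ∀ M : Matrix (Fin d) (Fin d) F, ∃ M', ((orthData (m := m) h2).transport e P).adj
      (M ⊗ₖ (1 : Matrix (Fin k) (Fin k) F)) = M' ⊗ₖ (1 : Matrix (Fin k) (Fin k) F) := fun M => by
    obtain ⟨M', hM'⟩ : (orthData (m := m) h2).adj (φ M) ∈ φ.range := by
      rw [hφr]; exact (orthData (m := m) h2).adj_mem_alg hsimL (hφr ▸ ⟨M, rfl⟩)
    refine ⟨M', (tr e P).injective ?_⟩
    rw [FormData.transport_adj, ← hφe, ← hφe]
    exact hM'.symm
  obtain ⟨G₁, G₂, hgram⟩ := ((orthData (m := m) h2).transport e P).exists_gram_factor (by omega) (by omega) hA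
  have hsym : (G₁ : Matrix (Fin d) (Fin d) F)ᵀ ⊗ₖ (G₂ : Matrix (Fin k) (Fin k) F)ᵀ =
      (G₁ : Matrix (Fin d) (Fin d) F) ⊗ₖ (G₂ : Matrix (Fin k) (Fin k) F) := by
    have h := ((orthData (m := m) h2).transport e P).herm
    rw [hgram, show ((orthData (m := m) h2).transport e P).σ = RingHom.id F from rfl,
      show ((orthData (m := m) h2).transport e P).ε = 1 from rfl, one_smul, map_id_eq,
      ← Matrix.kroneckerMap_transpose] at h
    exact h
  obtain ⟨a, ha⟩ := kronecker_eq_imp hsym (by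
    rw [Ne, ← Matrix.transpose_zero, Matrix.transpose_inj]; exact G₂.ne_zero)
  have hdk : Odd (d * k) := by
    have h := Fintype.card_congr e
    simp at h
    rw [← h]
    exact ⟨m, by omega⟩
  obtain ⟨hdo, hko⟩ := Nat.odd_mul.mp hdk
  have hG1 := sym_of_proportional hdo G₁ ha
  have hG2 : (G₂ : Matrix (Fin k) (Fin k) F)ᵀ = (G₂ : Matrix (Fin k) (Fin k) F) := by
    rw [hG1] at hsym
    exact kronecker_left_cancel hsym G₁.ne_zero
  have hd3 : 3 ≤ d := by obtain ⟨j, rfl⟩ := hdo; omega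
  have hk3 : 3 ≤ k := by obtain ⟨j, rfl⟩ := hko; omega
  have hswap : (((orthData (m := m) h2).transport (e.trans (Equiv.prodComm _ _)) P).gram :
      Matrix (Fin k × Fin d) (Fin k × Fin d) F) = (G₂ : Matrix (Fin k) (Fin k) F) ⊗ₖ (G₁ : Matrix (Fin d) (Fin d) F) := by
    ext ⟨i, a⟩ ⟨j, b⟩
    have h := congrFun (congrFun hgram (a, i)) (b, j)
    rw [FormData.transport_gram] at h ⊢
    simp only [Matrix.kroneckerMap_apply] at h ⊢
    rw [mul_comm, ← h]
    rfl
  rcases Nat.lt_trichotomy d k with hlt | heq | hgt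
  · exact inOO_tensor_lt h2 hH hd3 hlt e P hle G₁ G₂ hG1 hG2 hgram
  · subst heq
    have hle' : H ≤ Geo.tensorWreathSubgroup d 2 (e.trans (finTwoArrowEquiv (Fin d)).symm) P := by
      refine hle.trans ?_
      rintro g ⟨_, ⟨h, ⟨a, b, hab⟩, rfl⟩, rfl⟩
      obtain ⟨h', hh'⟩ := exists_tr_preimage (e.trans (finTwoArrowEquiv (Fin d)).symm) P
        (MulAut.conj P (Geo.glReindex e.symm h))
      refine mem_transport _ P (h := h') (Subgroup.subset_closure (Or.inl ⟨![a, b], ?_⟩)) hh'
      suffices hh : (h' : Matrix (Fin 2 → Fin d) (Fin 2 → Fin d) F) =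
          tens fun i => ((![a, b] i : GL (Fin d) F) : Matrix (Fin d) (Fin d) F) from fun x y => congrFun (congrFun hh x) y
      apply (tr (e.trans (finTwoArrowEquiv (Fin d)).symm) P).injective
      rw [← hh', tr_eq_conj_glReindex, hab, tr_apply, tr_apply]
      congr 2
      ext i j
      simp [tens_apply, Fin.prod_univ_two]
    have hgram2 : (((orthData (m := m) h2).transport (e.trans (finTwoArrowEquiv (Fin d)).symm) P).gram :
        Matrix (Fin 2 → Fin d) (Fin 2 → Fin d) F) =
        (1 : F) • tens fun i => ((![G₁, G₂] i : GL (Fin d) F) : Matrix (Fin d) (Fin d) F) := by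
      ext x y
      have h := congrFun (congrFun hgram (x 0, x 1)) (y 0, y 1)
      rw [FormData.transport_gram] at h ⊢
      rw [one_smul, tens_apply, Fin.prod_univ_two]
      simp only [Matrix.kroneckerMap_apply] at h
      exact h
    have hsymm : ∀ i, ((![G₁, G₂] i : GL (Fin d) F) : Matrix (Fin d) (Fin d) F)ᵀ =
        ((![G₁, G₂] i : GL (Fin d) F) : Matrix (Fin d) (Fin d) F) := fun i => by
      fin_cases i
      · exact hG1
      · exact hG2
    exact inOO_power h2 hH hirr hd3 hdo le_rfl _ P hle' one_ne_zero ![G₁, G₂] hsymm hgram2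
  · exact inOO_tensor_lt h2 hH hk3 hgt _ P (hle.trans (tensor_swap_sum e P)) G₂ G₁ hG2 hG1 hswap

end Cfsg.Agent.MaxSub.Asch
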