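import Mathlib
import Cfsg.Agent.MaxSub.Asch.Symplectic
import Cfsg.Agent.MaxSub.Asch.Rationality

/-!
Absolutely irreducible normal subgroups of a symplectic group that are abelian modulo scalars.
-/

set_option autoImplicit false
set_option linter.unusedSectionVars false
set_option linter.style.haveILetI false

namespace Cfsg.Agent.MaxSub.Asch

open scoped MatrixGroups Matrix commutatorElement
open Module
open Cfsg.Agent.Aschbacher (NormalIn Inv Irr irr_iff Rational)

variable {F : Type*} [Field F] [Fintype F] {m : ℕ} {H : Subgroup (GL (Fin m ⊕ Fin m) F)}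

/-- A normal absolutely irreducible subgroup of isometries realisable over a subfield gives a subfield group. -/
theorem inSp_of_realisable (hm : 1 ≤ m) (hH : H ≤ spGL m F) {P : Subgroup (GL (Fin m ⊕ Fin m) F)}
    (hPI : P ≤ spGL m F) (hn : NormalIn P H) (habs : Geo.ActsAbsolutelyIrreducibly (Geo.matrixSet P))
    {F₀ : Subfield F} (hF₀ : F₀ ≠ ⊤) (hreal : Geo.RealisableOver F₀ (Geo.matrixSet P)) : InSp H := by
  classical
  haveI : Nonempty (Fin m ⊕ Fin m) := ⟨Sum.inl ⟨0, hm⟩⟩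
  obtain ⟨B, hB⟩ := hreal
  obtain ⟨F₁, r, hr, hc, hle⟩ := Aschbacher.exists_prime_index_above F₀ hF₀
  have hrat : ∀ s ∈ P, Rational F₁ ((B * s * B⁻¹ : GL (Fin m ⊕ Fin m) F) : Matrix (Fin m ⊕ Fin m) (Fin m ⊕ Fin m) F) :=
    fun s hs i j => hle (by simpa using hB _ ⟨s, hs, rfl⟩ i j)
  obtain ⟨c, hc0, hcr⟩ := exists_rational_gram (σ := RingHom.id F) ((spData m F).gram.isUnit) habs
    (fun s hs => gram_of_mem_spGL (hPI hs)) hrat
  refine inSp_subfield hH hr hc hc0 (fun u v hu hv => ?_) (Aschbacher.le_subfieldSubgroup habs hn hrat)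
  have hg := (spData m F).isGram.comp (((B⁻¹ : GL (Fin m ⊕ Fin m) F)) : Matrix (Fin m ⊕ Fin m) (Fin m ⊕ Fin m) F) u v
  simp only at hg
  rw [← spData_form, hg, show (spData m F).σ = RingHom.id F from rfl]
  simp only [RingHom.id_apply, dotProduct, Matrix.mulVec, Finset.mul_sum]
  refine sum_mem fun i _ => sum_mem fun j _ => ?_
  rw [mul_left_comm, mul_comm _ (v j), ← mul_assoc, mul_comm (u i) , mul_comm (v j)]
  have := mul_mem (mul_mem (hcr i j) (hu i)) (hv j)
  simp only [Matrix.smul_apply, smul_eq_mul] at this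
  convert this using 1
  ring

/-- Commuting involutions of a group of symplectic type preserving an alternating form are few. -/
theorem minus_type (hm : 1 ≤ m) (h2 : (2 : F) ≠ 0) {R : Subgroup (GL (Fin m ⊕ Fin m) F)} (hp : PreTypeTwo 2 R)
    (hR : R ≤ spGL m F) (hsq : ∀ x ∈ R, x * x = 1 ∨ x * x = -1) (hcard : Nat.card R = 2 * (2 * m) ^ 2)
    {A : Subgroup R} (hA : IsMulCommutative A) (hA2 : ∀ x ∈ A, x * x = 1) : Nat.card A < 2 * (2 * m) := by
  classical
  by_contra hbig
  push Not at hbig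
  haveI : Nonempty (Fin m ⊕ Fin m) := ⟨Sum.inl ⟨0, hm⟩⟩
  haveI : Fintype R := Fintype.ofFinite R
  haveI : Fintype A := Fintype.ofFinite A
  have hf := (isSymplecticForm_sympForm (m := m) (F := F))
  have hcs_mul : ∀ (a y y' : R), hp.cs a (y * y') = hp.cs a y * hp.cs a y' := by
    intro a y y'
    have e1 := hp.cs_spec a y
    have e2 := hp.cs_spec a y'
    have e3 := hp.cs_spec a (y * y')
    simp only [Subgroup.coe_mul, Units.val_mul] at e3
    rw [← mul_assoc, e1, Matrix.smul_mul, mul_assoc, e2, Matrix.mul_smul, smul_smul, ← mul_assoc] at e3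
    have hne : ((y : GL (Fin m ⊕ Fin m) F) : Matrix (Fin m ⊕ Fin m) (Fin m ⊕ Fin m) F) *
        ((y' : GL (Fin m ⊕ Fin m) F) : Matrix (Fin m ⊕ Fin m) (Fin m ⊕ Fin m) F) *
        ((a : GL (Fin m ⊕ Fin m) F) : Matrix (Fin m ⊕ Fin m) (Fin m ⊕ Fin m) F) ≠ 0 := by
      rw [← Units.val_mul, ← Units.val_mul]; exact Units.ne_zero _
    exact (smul_left_injective F hne e3).symm
  have hcs_one : ∀ a : R, hp.cs a 1 = 1 := fun a => by
    have h := hp.cs_spec a 1
    simp only [OneMemClass.coe_one, Units.val_one, mul_one, one_mul] at h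
    refine smul_left_injective F (a : GL (Fin m ⊕ Fin m) F).ne_zero ?_
    simpa using h.symm
  have hcomm_of : ∀ a y : R, hp.cs a y = 1 → (a : GL (Fin m ⊕ Fin m) F) * y = y * a := fun a y h =>
    Units.ext (by rw [Units.val_mul, Units.val_mul, hp.cs_spec, h, one_smul])
  have hcs_of : ∀ a y : R, (a : GL (Fin m ⊕ Fin m) F) * y = y * a → hp.cs a y = 1 := fun a y h => by
    have e := hp.cs_spec a y
    rw [← Units.val_mul, h, ← Units.val_mul] at e
    refine smul_left_injective F (y * a : GL (Fin m ⊕ Fin m) F).ne_zero ?_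
    simpa using e.symm
  let χ : R → (R →* F) := fun a =>
    { toFun := hp.cs a, map_one' := hcs_one a, map_mul' := hcs_mul a }
  -- the common centraliser
  let C : Subgroup R := Subgroup.centralizer (A : Set R)
  have hAC : A ≤ C := fun x hx y hy => by
    exact congrArg Subtype.val (hA.is_comm.comm (⟨y, hy⟩ : A) ⟨x, hx⟩)
  let S : Finset (R →* F) := Finset.univ.image fun a : A => χ a
  have hfib : Fintype.card A ≤ 2 * S.card := by
    refine (Finset.card_le_mul_card_image (s := (Finset.univ : Finset A)) (f := fun a : A => χ a) 2 fun b hb => ?_)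
    obtain ⟨a₀, -, rfl⟩ := Finset.mem_image.mp hb
    have hneg : (-1 : GL (Fin m ⊕ Fin m) F) ≠ 1 := fun h => h2 (by
      have := congrArg (fun g : GL (Fin m ⊕ Fin m) F =>
        (g : Matrix (Fin m ⊕ Fin m) (Fin m ⊕ Fin m) F) (Sum.inl ⟨0, hm⟩) (Sum.inl ⟨0, hm⟩)) h
      simp at this
      linear_combination -this)
    have hkey : ∀ a : A, χ a = χ a₀ → (((a₀ : R) : GL (Fin m ⊕ Fin m) F))⁻¹ * ((a : R) : GL (Fin m ⊕ Fin m) F) = 1 ∨
        (((a₀ : R) : GL (Fin m ⊕ Fin m) F))⁻¹ * ((a : R) : GL (Fin m ⊕ Fin m) F) = -1 := by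
      intro a ha
      have hcen : ((a₀ : R)⁻¹ * (a : R)) ∈ Subgroup.center R := by
        rw [Subgroup.mem_center_iff]
        intro y
        have hy := hp.cs_spec (a : R) y
        rw [show hp.cs (a : R) y = hp.cs (a₀ : R) y from DFunLike.congr_fun ha y] at hy
        have hy₀ := hp.cs_spec (a₀ : R) y
        have hc0 : hp.cs (a₀ : R) y ≠ 0 := fun h0 => by
          rw [h0, zero_smul, ← Units.val_mul] at hy₀
          exact Units.ne_zero _ hy₀
        have k : ((y : R) : GL (Fin m ⊕ Fin m) F) * ((a₀ : R) : GL (Fin m ⊕ Fin m) F) *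
            (((a₀ : R) : GL (Fin m ⊕ Fin m) F) * y)⁻¹ = ((y : R) : GL (Fin m ⊕ Fin m) F) * ((a : R) : GL (Fin m ⊕ Fin m) F) *
            (((a : R) : GL (Fin m ⊕ Fin m) F) * y)⁻¹ := by
          refine Units.ext (smul_right_injective _ hc0 ?_)
          show hp.cs (a₀ : R) y • _ = hp.cs (a₀ : R) y • _
          simp only [Units.val_mul]
          rw [← Matrix.smul_mul, ← hy₀, ← Matrix.smul_mul, ← hy, ← Units.val_mul, ← Units.val_mul, ← Units.val_mul, ← Units.val_mul, mul_inv_cancel,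
            mul_inv_cancel]
        refine Subtype.ext ?_
        simp only [Subgroup.coe_mul, Subgroup.coe_inv]
        generalize ((a₀ : R) : GL (Fin m ⊕ Fin m) F) = u at k ⊢
        generalize ((a : R) : GL (Fin m ⊕ Fin m) F) = w at k ⊢
        generalize (y : GL (Fin m ⊕ Fin m) F) = z at k ⊢
        have k1 : z * u * z⁻¹ * u⁻¹ = z * w * z⁻¹ * w⁻¹ := by simpa [mul_assoc] using k
        obtain ⟨t, ht⟩ : ∃ t, t = z * u * z⁻¹ * u⁻¹ := ⟨_, rfl⟩
        calc z * (u⁻¹ * w) = (z * u * z⁻¹ * u⁻¹ * u)⁻¹ * (z * w * z⁻¹ * w⁻¹ * w) * z := by group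
          _ = u⁻¹ * w * z := by rw [k1]; group
      obtain ⟨c, hc⟩ := (Geo.mem_scalars_iff _).mp ((hp.center_iff _).mp hcen)
      rcases hsq _ ((a₀ : R)⁻¹ * (a : R)).2 with h | h <;>
        have h' := congrArg Units.val h <;>
        rw [Units.val_mul, hc, smul_mul_smul_comm, one_mul] at h'
      · rcases mul_self_eq_one_iff.mp (smul_one_inj (h'.trans (one_smul F _).symm)) with hc1 | hc1
        · left; exact Units.ext (by simpa [hc1] using hc)
        · right; exact Units.ext (by simpa [hc1] using hc)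
      · exfalso
        have hAmem : ((a₀ : R)⁻¹ * (a : R)) ∈ A := mul_mem (inv_mem a₀.2) a.2
        have h3 := congrArg (fun r : R => ((r : GL (Fin m ⊕ Fin m) F))) (hA2 _ hAmem)
        simp only [Subgroup.coe_mul, OneMemClass.coe_one] at h3
        exact hneg ((h.symm.trans h3))
    calc _ ≤ ({1, -1} : Finset (GL (Fin m ⊕ Fin m) F)).card := by
          refine Finset.card_le_card_of_injOn (fun a : A => (((a₀ : R) : GL (Fin m ⊕ Fin m) F))⁻¹ * ((a : R) : GL (Fin m ⊕ Fin m) F))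
            (fun a ha => ?_) fun a _ b _ hab => Subtype.ext (Subtype.ext (mul_left_cancel hab))
          simp only [Finset.coe_filter, Set.mem_setOf_eq] at ha
          simp only [Finset.coe_insert, Finset.coe_singleton, Set.mem_insert_iff, Set.mem_singleton_iff]
          exact hkey a ha.2
      _ ≤ 2 := Finset.card_le_two
  haveI : Fintype (R ⧸ C) := Fintype.ofFinite _
  have hS : S.card ≤ Fintype.card (R ⧸ C) := by
    have hind : LinearIndependent F (fun φ : S => fun q : R ⧸ C => (φ : R →* F) q.out) := by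
      have hl := (linearIndependent_monoidHom R F).comp (Subtype.val : S → (R →* F)) Subtype.val_injective
      refine LinearIndependent.of_comp (LinearMap.funLeft F F (QuotientGroup.mk : R → R ⧸ C)) ?_
      suffices e : (LinearMap.funLeft F F (QuotientGroup.mk : R → R ⧸ C)) ∘ (fun φ : S => fun q : R ⧸ C => (φ : R →* F) q.out) =
          (fun f : R →* F => (f : R → F)) ∘ Subtype.val by rw [e]; exact hl
      funext φ y
      obtain ⟨a, -, ha⟩ := Finset.mem_image.mp φ.2
      obtain ⟨z, hz⟩ := QuotientGroup.mk_out_eq_mul C y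
      show (φ : R →* F) ((QuotientGroup.mk y : R ⧸ C).out) = (φ : R →* F) y
      rw [hz, map_mul, ← ha]
      show hp.cs a y * hp.cs a z = _
      rw [hcs_of _ _ (congrArg Subtype.val (z.2 a a.2)), mul_one]
      rfl
    have := hind.fintype_card_le_finrank
    simpa using this
  have hRC : Nat.card R = Fintype.card (R ⧸ C) * Nat.card C := by
    rw [← Nat.card_eq_fintype_card]; exact Subgroup.card_eq_card_quotient_mul_card_subgroup C
  have hCA : C = A := by
    refine (Subgroup.eq_of_le_of_card_ge hAC ?_).symm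
    rw [← Nat.card_eq_fintype_card] at hfib
    by_contra hlt
    push Not at hlt
    nlinarith
  -- a common eigenvector
  set M : R → Matrix (Fin m ⊕ Fin m) (Fin m ⊕ Fin m) F := fun x => ((x : GL (Fin m ⊕ Fin m) F) : Matrix _ _ F) with hM
  have hMmul : ∀ x y, M (x * y) = M x * M y := fun x y => rfl
  obtain ⟨W, ⟨hW0, hWi⟩, hWmin⟩ := exists_minimal_of_wellFoundedLT
    (fun W : Submodule F (Fin m ⊕ Fin m → F) => W ≠ ⊥ ∧ ∀ a ∈ A, ∀ w ∈ W, M a *ᵥ w ∈ W)
    ⟨⊤, by simp, fun _ _ _ _ => Submodule.mem_top⟩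
  have hev : ∀ a ∈ A, ∃ c : F, c * c = 1 ∧ ∀ w ∈ W, M a *ᵥ w = c • w := by
    intro a ha
    obtain ⟨w₀, hw₀, hw₀0⟩ := (Submodule.ne_bot_iff W).mp hW0
    have haa : ∀ w, M a *ᵥ (M a *ᵥ w) = w := fun w => by
      rw [Matrix.mulVec_mulVec, ← hMmul, hA2 a ha]; simp [hM]
    obtain ⟨c, hc, u, hu, hu0, hau⟩ : ∃ c : F, c * c = 1 ∧ ∃ u ∈ W, u ≠ 0 ∧ M a *ᵥ u = c • u := by
      by_cases h : M a *ᵥ w₀ + w₀ = 0
      · exact ⟨-1, by norm_num, w₀, hw₀, hw₀0, by rw [neg_one_smul]; exact eq_neg_of_add_eq_zero_left h⟩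
      · exact ⟨1, one_mul 1, _, add_mem (hWi a ha w₀ hw₀) hw₀, h, by rw [Matrix.mulVec_add, haa, one_smul, add_comm]⟩
    refine ⟨c, hc, fun w hw => ?_⟩
    let U : Submodule F (Fin m ⊕ Fin m → F) := W ⊓ LinearMap.ker (Matrix.toLin' (M a) - c • LinearMap.id)
    have hU : ∀ w, w ∈ U ↔ w ∈ W ∧ M a *ᵥ w = c • w := fun w => by simp [U, sub_eq_zero]
    refine ((hU w).mp (hWmin ⟨fun e => hu0 ((Submodule.eq_bot_iff U).mp e u ((hU u).mpr ⟨hu, hau⟩)), fun b hb w' hw' => ?_⟩
      inf_le_left hw)).2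
    rw [hU] at hw' ⊢
    refine ⟨hWi b hb w' hw'.1, ?_⟩
    rw [Matrix.mulVec_mulVec, ← hMmul, show a * b = b * a from congrArg Subtype.val (hA.is_comm.comm (⟨a, ha⟩ : A) ⟨b, hb⟩),
      hMmul, ← Matrix.mulVec_mulVec, hw'.2, Matrix.mulVec_smul]
  obtain ⟨v, hv, hv0⟩ := (Submodule.ne_bot_iff W).mp hW0
  have hisom : ∀ x : R, ∀ u w, sympForm m F (M x *ᵥ u) (M x *ᵥ w) = sympForm m F u w := fun x => mem_spGL.mp (hR x.2)
  have horth : ∀ y : R, sympForm m F v (M y *ᵥ v) = 0 := by
    intro y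
    by_cases hy : y ∈ C
    · rw [hCA] at hy
      obtain ⟨c, -, hc⟩ := hev y hy
      rw [hc v hv, hf.bilinear.smul_right, hf.alternating, mul_zero]
    · obtain ⟨a, ha, hay⟩ : ∃ a ∈ A, a * y ≠ y * a := by
        by_contra hcon
        push Not at hcon
        exact hy (Subgroup.mem_centralizer_iff.mpr hcon)
      obtain ⟨c, hc, hcv⟩ := hev a ha
      set s := hp.cs a y with hs
      have hs1 : s ≠ 1 := fun h => hay (Subtype.ext (hcomm_of a y h))
      have h1 := hisom a v (M y *ᵥ v)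
      rw [Matrix.mulVec_mulVec, show M a * M y = s • (M y * M a) from hp.cs_spec a y, Matrix.smul_mulVec,
        ← Matrix.mulVec_mulVec, hcv v hv, Matrix.mulVec_smul, hf.bilinear.smul_left, hf.bilinear.smul_right,
        hf.bilinear.smul_right] at h1
      by_contra hne
      have h3 : (s - 1) * sympForm m F v (M y *ᵥ v) = 0 := by linear_combination h1 - s * sympForm m F v (M y *ᵥ v) * hc
      exact hne ((mul_eq_zero.mp h3).resolve_left (sub_ne_zero.mpr hs1))
  obtain ⟨z, hz⟩ := (hf.nondegenerate v hv0).2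
  let U : Submodule F (Fin m ⊕ Fin m → F) := Submodule.span F (Set.range fun y : R => M y *ᵥ v)
  have hUi : Inv R U := by
    intro g hg w hw
    have hle : U ≤ U.comap (Matrix.toLin' (g : Matrix (Fin m ⊕ Fin m) (Fin m ⊕ Fin m) F)) := by
      refine Submodule.span_le.mpr ?_
      rintro _ ⟨y, rfl⟩
      rw [SetLike.mem_coe, Submodule.mem_comap, Matrix.toLin'_apply, Matrix.mulVec_mulVec]
      exact Submodule.subset_span ⟨⟨g, hg⟩ * y, rfl⟩
    exact hle hw
  rcases irr_iff.mpr hp.absIrred.1 U hUi with hb | ht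
  · exact hv0 ((Submodule.eq_bot_iff U).mp hb v (Submodule.subset_span ⟨1, by simp [hM]⟩))
  · refine hz ?_
    have hker : ∀ w ∈ U, sympForm m F v w = 0 := by
      intro w hw
      induction hw using Submodule.span_induction with
      | mem w hw => obtain ⟨y, rfl⟩ := hw; exact horth y
      | zero => exact form_zero_right hf.bilinear v
      | add a b _ _ ha hb => rw [hf.bilinear.add_right, ha, hb, add_zero]
      | smul c a _ ha => rw [hf.bilinear.smul_right, ha, mul_zero]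
    exact hker z (ht ▸ Submodule.mem_top)

/-- The abelian-modulo-scalars case. -/
theorem inSp_typeTwo (hm : 1 ≤ m) (hH : H ≤ spGL m F) {L : Subgroup (GL (Fin m ⊕ Fin m) F)}
    (hLG : L ≤ H ⊔ Geo.scalars (Fin m ⊕ Fin m) F) (hL : NormalIn L (H ⊔ Geo.scalars (Fin m ⊕ Fin m) F))
    (hZ : Geo.scalars (Fin m ⊕ Fin m) F ≤ L) (habs : Geo.ActsAbsolutelyIrreducibly (Geo.matrixSet L))
    (hmin : ∀ M ≤ L, NormalIn M (H ⊔ Geo.scalars (Fin m ⊕ Fin m) F) → Geo.scalars (Fin m ⊕ Fin m) F ≤ M →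
      M = Geo.scalars (Fin m ⊕ Fin m) F ∨ M = L)
    (h2 : ⁅L, L⁆ ≤ Geo.scalars (Fin m ⊕ Fin m) F) : InSp H := by
  classical
  haveI : Nonempty (Fin m ⊕ Fin m) := ⟨Sum.inl ⟨0, hm⟩⟩
  set Z := Geo.scalars (Fin m ⊕ Fin m) F with hZdef
  set G := H ⊔ Z with hG
  have hn : 1 < Fintype.card (Fin m ⊕ Fin m) := by simp; omega
  set R := L ⊓ spGL m F with hRdef
  have hscal : ∀ x ∈ Z ⊓ spGL m F, x = 1 ∨ x = -1 := by
    rintro x ⟨hx, hxI⟩
    obtain ⟨c, hc⟩ := (Geo.mem_scalars_iff x).mp hx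
    have h1 := gram_of_mem_spGL hxI
    rw [hc, Matrix.transpose_smul, Matrix.transpose_one, Matrix.smul_mul, one_mul,
      show ((c : F) • (1 : Matrix (Fin m ⊕ Fin m) (Fin m ⊕ Fin m) F)).map (RingHom.id F) = (c : F) • 1 from
        Matrix.ext fun _ _ => rfl, Matrix.mul_smul, mul_one, smul_smul] at h1
    have h1' : ((c : F) * c - 1) • Matrix.J (Fin m) F = 0 := by rw [sub_smul, one_smul, h1, sub_self]
    rcases mul_self_eq_one_iff.mp (sub_eq_zero.mp ((smul_eq_zero.mp h1').resolve_right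
      ((spData_gram (m := m) (F := F)) ▸ (spData m F).gram.ne_zero))) with h | h
    · exact Or.inl (Units.ext (by rw [hc, h, one_smul, Units.val_one]))
    · exact Or.inr (Units.ext (by rw [hc, h, neg_one_smul, Units.val_neg, Units.val_one]))
  have hdec : ∀ x ∈ L, ∃ r ∈ R, ∃ z ∈ Z, x = r * z := by
    intro x hx
    obtain ⟨h, hh, z, hz, rfl⟩ := (Subgroup.mem_sup_of_normal_right (ht := Geo.scalars_normal)).mp (hLG hx)
    refine ⟨h, ⟨?_, hH hh⟩, z, hz, rfl⟩
    simpa using mul_mem hx (inv_mem (hZ hz))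
  have hRirr : Geo.ActsAbsolutelyIrreducibly (Geo.matrixSet R) := by
    refine absIrred_of_alg_eq_top (top_le_iff.mp (alg_eq_top habs ▸ Algebra.adjoin_le ?_))
    rintro _ ⟨x, hx, rfl⟩
    obtain ⟨a, ha, z, hz, rfl⟩ := hdec x hx
    obtain ⟨c, hc⟩ := (Geo.mem_scalars_iff z).mp hz
    show ((a * z : GL (Fin m ⊕ Fin m) F) : Matrix (Fin m ⊕ Fin m) (Fin m ⊕ Fin m) F) ∈ alg R
    rw [Units.val_mul, hc, Matrix.mul_smul, mul_one]
    exact Subalgebra.smul_mem _ (coe_mem_alg ha) _
  have hRG : NormalIn R G := by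
    intro g hg x hx
    refine ⟨hL g hg x hx.1, ?_⟩
    obtain ⟨h, hh, z, hz, rfl⟩ := (Subgroup.mem_sup_of_normal_right (ht := Geo.scalars_normal)).mp hg
    rw [show h * z * x * (h * z)⁻¹ = h * (z * x * z⁻¹) * h⁻¹ by group,
      show z * x * z⁻¹ = x by rw [← Aschbacher.scalars_central hz x, mul_inv_cancel_right]]
    exact (spGL m F).mul_mem ((spGL m F).mul_mem (hH hh) hx.2) ((spGL m F).inv_mem (hH hh))
  have hcomm : ∀ a ∈ R, ∀ b ∈ R, ⁅a, b⁆ = 1 ∨ ⁅a, b⁆ = -1 := fun a ha b hb =>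
    hscal _ ⟨h2 (Subgroup.commutator_mem_commutator ha.1 hb.1),
      (spGL m F).mul_mem ((spGL m F).mul_mem ((spGL m F).mul_mem ha.2 hb.2) ((spGL m F).inv_mem ha.2)) ((spGL m F).inv_mem hb.2)⟩
  have hnc : ¬ ∀ a ∈ R, ∀ b ∈ R, a * b = b * a := fun hab =>
    Aschbacher.irr_not_le_scalars (irr_iff.mpr hRirr.1) hn fun x hx =>
      Aschbacher.mem_scalars_of_commute hRirr fun y hy => hab x hx y hy
  have hodd : Odd (Fintype.card F) := by
    by_contra hodd
    refine hnc fun a ha b hb => commutatorElement_eq_one_iff_mul_comm.mp ?_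
    rcases hcomm a ha b hb with h | h
    · exact h
    · rw [h]; exact Units.ext (by ext i j; simp [neg_eq_self_of_even hodd])
  have h2F := Aschbacher.two_ne_zero_of_odd hodd
  have hsqR : ∀ x ∈ R, x * x = 1 ∨ x * x = -1 := by
    intro x hx
    refine hscal _ ⟨Aschbacher.mem_scalars_of_commute hRirr fun y hy => ?_, mul_mem hx.2 hx.2⟩
    have hxy : x * y = ⁅x, y⁆ * (y * x) := by rw [commutatorElement_def]; group
    have hc : ⁅x, y⁆ * ⁅x, y⁆ = 1 := by rcases hcomm x hx y hy with h | h <;> simp [h]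
    have hz : ∀ g, g * ⁅x, y⁆ = ⁅x, y⁆ * g :=
      fun g => Aschbacher.scalars_central (h2 (Subgroup.commutator_mem_commutator hx.1 hy.1)) g
    calc x * x * y = x * (⁅x, y⁆ * (y * x)) := by rw [mul_assoc, ← hxy]
      _ = ⁅x, y⁆ * (x * y) * x := by rw [← mul_assoc, hz x]; simp [mul_assoc]
      _ = ⁅x, y⁆ * (⁅x, y⁆ * (y * x)) * x := by rw [← hxy]
      _ = y * (x * x) := by rw [← mul_assoc ⁅x, y⁆, hc, one_mul, mul_assoc]
  have hp : PreTypeTwo 2 R := by
    refine ⟨Nat.prime_two, hRirr, fun x hx => ?_, fun x hx y hy => h2 (Subgroup.commutator_mem_commutator hx.1 hy.1)⟩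
    rw [show 2 * Nat.gcd 2 2 = 2 * 2 from rfl, pow_mul, pow_two, pow_two]
    rcases hsqR x hx with h | h <;> simp [h]
  have hneg : (-1 : GL (Fin m ⊕ Fin m) F) ∈ R := by
    refine ⟨hZ ((Geo.mem_scalars_iff _).mpr ⟨-1, by simp⟩), mem_spGL.mpr fun u v => ?_⟩
    have hb := (isSymplecticForm_sympForm (m := m) (F := F)).bilinear
    rw [show ((-1 : GL (Fin m ⊕ Fin m) F) : Matrix (Fin m ⊕ Fin m) (Fin m ⊕ Fin m) F) = (-1 : F) • 1 by simp,
      Matrix.smul_mulVec, Matrix.smul_mulVec, Matrix.one_mulVec, Matrix.one_mulVec, hb.smul_left, hb.smul_right]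
    ring
  have hne1 : (-1 : GL (Fin m ⊕ Fin m) F) ≠ 1 := fun h => h2F (by
    have := congrArg (fun g : GL (Fin m ⊕ Fin m) F =>
      (g : Matrix (Fin m ⊕ Fin m) (Fin m ⊕ Fin m) F) (Sum.inl ⟨0, hm⟩) (Sum.inl ⟨0, hm⟩)) h
    simp at this
    linear_combination -this)
  have hcenter : Nat.card (Subgroup.center R) = 2 := by
    refine Nat.card_eq_two_iff.mpr ⟨⟨1, one_mem _⟩,
      ⟨⟨-1, hneg⟩, (hp.center_iff _).mpr ((Geo.mem_scalars_iff _).mpr ⟨-1, by simp⟩)⟩,
      fun h => hne1 (congrArg (fun x : Subgroup.center R => ((x : R) : GL (Fin m ⊕ Fin m) F)) h).symm, ?_⟩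
    refine Set.eq_univ_of_forall fun x => ?_
    rcases hscal _ ⟨(hp.center_iff _).mp x.2, (x : R).2.2⟩ with h | h
    · left; exact Subtype.ext (Subtype.ext h)
    · right; exact Subtype.ext (Subtype.ext h)
  have hcard : Nat.card R = 2 * (2 * m) ^ 2 := by
    rw [hp.card_eq, hcenter, Fintype.card_sum, Fintype.card_fin]; ring
  obtain ⟨k, hk1, hk⟩ := hp.exists_pow hn
  rw [Fintype.card_sum, Fintype.card_fin, ← two_mul] at hk
  have hsim : R ≤ Geo.similarityGroup (sympForm m F) := fun g hg =>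
    ⟨1, fun u v => by rw [Units.val_one, one_mul, mem_spGL.mp hg.2]⟩
  -- the field has prime order
  obtain ⟨p, hpc⟩ := CharP.exists F
  haveI : Fact p.Prime := ⟨CharP.char_is_prime F p⟩
  by_cases hFp : Fintype.card F = p
  swap
  · let F₀ : Subfield F := (ZMod.castHom dvd_rfl F).fieldRange
    have hF₀ : F₀ ≠ ⊤ := by
      intro htop
      refine hFp ?_
      have hb : Function.Bijective (ZMod.castHom (dvd_refl p) F) := ⟨RingHom.injective _, fun x => by
        have hx : x ∈ F₀ := htop ▸ Subfield.mem_top x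
        exact RingHom.mem_fieldRange.mp hx⟩
      rw [← Fintype.card_of_bijective hb, ZMod.card]
    refine inSp_of_realisable hm hH inf_le_right (fun g hg => hRG g (Subgroup.mem_sup_left hg)) hRirr hF₀
      (realisable_of_trace hRirr ?_ fun x hx => ?_)
    · rw [Fintype.card_sum, Fintype.card_fin, ← two_mul, hk]
      push_cast
      exact pow_ne_zero _ h2F
    · by_cases hxc : ∀ y ∈ R, x * y = y * x
      · rcases hscal x ⟨Aschbacher.mem_scalars_of_commute hRirr hxc, hx.2⟩ with rfl | rfl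
        · rw [Units.val_one, Matrix.trace_one]; exact natCast_mem F₀ _
        · rw [Units.val_neg, Units.val_one, Matrix.trace_neg, Matrix.trace_one]; exact neg_mem (natCast_mem F₀ _)
      · push Not at hxc
        obtain ⟨y, hy, hne⟩ := hxc
        have hxy : x * y = -1 * (y * x) := by
          rcases hcomm x hx y hy with h | h
          · exact absurd (commutatorElement_eq_one_iff_mul_comm.mp h) hne
          · rw [← h, commutatorElement_def]; group
        have h0 : (x : Matrix (Fin m ⊕ Fin m) (Fin m ⊕ Fin m) F) =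
            -((y : Matrix (Fin m ⊕ Fin m) (Fin m ⊕ Fin m) F) * (x : Matrix (Fin m ⊕ Fin m) (Fin m ⊕ Fin m) F) *
              ((y⁻¹ : GL (Fin m ⊕ Fin m) F) : Matrix (Fin m ⊕ Fin m) (Fin m ⊕ Fin m) F)) := by
          have := congrArg (fun g : GL (Fin m ⊕ Fin m) F => ((g * y⁻¹ : GL (Fin m ⊕ Fin m) F) : Matrix (Fin m ⊕ Fin m) (Fin m ⊕ Fin m) F)) hxy
          simpa [mul_assoc] using this
        have h1 : Matrix.trace (x : Matrix (Fin m ⊕ Fin m) (Fin m ⊕ Fin m) F) =
            - Matrix.trace (x : Matrix (Fin m ⊕ Fin m) (Fin m ⊕ Fin m) F) := by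
          conv_lhs => rw [h0, Matrix.trace_neg, Matrix.trace_mul_cycle, Units.inv_mul, one_mul]
        rw [(mul_eq_zero.mp (show (2 : F) * Matrix.trace (x : Matrix (Fin m ⊕ Fin m) (Fin m ⊕ Fin m) F) = 0 by
          linear_combination h1)).resolve_left h2F]
        exact zero_mem F₀
  have hpodd : Odd p := hFp ▸ hodd
  have hnormal : ∀ g ∈ H, g ∈ Geo.subgroupNormalizer R := fun g hg =>
    Subgroup.mem_normalizer_iff.mpr fun x => ⟨hRG g (Subgroup.mem_sup_left hg) x, fun hx => by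
      simpa [mul_assoc] using hRG g⁻¹ (Subgroup.mem_sup_left (inv_mem hg)) _ hx⟩
  refine ⟨_, Or.inl <| Or.inr <| Or.inr <| Or.inr <| Or.inr <| Or.inr <| Or.inl ⟨R, p, k,
    ⟨Nat.prime_two, hp.isPGroup, ?_, ?_⟩, hRirr, hsim, Fact.out, hpodd, hFp, ?_, hcenter, ?_, rfl⟩,
    le_inf hnormal hH⟩
  · -- characteristic abelian subgroups are cyclic
    intro A hA hAc
    let M := A.map R.subtype
    have hMR : M ≤ R := Subgroup.map_subtype_le A
    have hMG : NormalIn M G := by
      rintro g hg _ ⟨x, hx, rfl⟩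
      let φ : R ≃* R :=
        { toFun := fun y => ⟨g * y * g⁻¹, hRG g hg y y.2⟩
          invFun := fun y => ⟨g⁻¹ * y * g, by simpa using hRG g⁻¹ (inv_mem hg) y y.2⟩
          left_inv := fun y => Subtype.ext (by simp [mul_assoc])
          right_inv := fun y => Subtype.ext (by simp [mul_assoc])
          map_mul' := fun y y' => Subtype.ext (by simp [mul_assoc]) }
      exact ⟨φ x, (Subgroup.characteristic_iff_le_comap.mp hA φ) hx, rfl⟩
    have hMZG : NormalIn (M ⊔ Z) G := by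
      intro g hg x hx
      obtain ⟨a, ha, z, hz, rfl⟩ := (Subgroup.mem_sup_of_normal_right (ht := Geo.scalars_normal)).mp hx
      rw [show g * (a * z) * g⁻¹ = (g * a * g⁻¹) * (g * z * g⁻¹) by group]
      exact Subgroup.mul_mem_sup (hMG g hg a ha) (Geo.scalars_normal.conj_mem z hz g)
    rcases hmin (M ⊔ Z) (sup_le (fun x hx => (hMR hx).1) hZ) hMZG le_sup_right with hMZ | hMZ
    · have hle : A ≤ Subgroup.center R := fun a ha =>
        (hp.center_iff a).mpr (hMZ.le (Subgroup.mem_sup_left ⟨a, ha, rfl⟩))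
      haveI : Fact (Nat.Prime 2) := ⟨Nat.prime_two⟩
      haveI : IsCyclic (Subgroup.center R) := isCyclic_of_prime_card hcenter
      exact isCyclic_of_injective (Subgroup.inclusion hle) (Subgroup.inclusion_injective hle)
    · exfalso
      refine hnc fun x hx y hy => ?_
      obtain ⟨a, ha, z, hz, rfl⟩ := (Subgroup.mem_sup_of_normal_right (ht := Geo.scalars_normal)).mp (hMZ.ge hx.1)
      obtain ⟨a', ha', z', hz', rfl⟩ := (Subgroup.mem_sup_of_normal_right (ht := Geo.scalars_normal)).mp (hMZ.ge hy.1)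
      obtain ⟨a₀, ha₀, rfl⟩ := ha
      obtain ⟨a₁, ha₁, rfl⟩ := ha'
      have hcm : Commute (R.subtype a₀) (R.subtype a₁) :=
        congrArg R.subtype (congrArg Subtype.val (hAc.is_comm.comm (⟨a₀, ha₀⟩ : A) ⟨a₁, ha₁⟩))
      have hzc : ∀ g, Commute g z := fun g => Aschbacher.scalars_central hz g
      have hzc' : ∀ g, Commute g z' := fun g => Aschbacher.scalars_central hz' g
      exact ((hcm.mul_right (hzc' _)).mul_left (((hzc _).symm).mul_right (hzc' z))).eq
  · -- the exponent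
    have hdvd : Monoid.exponent R ∣ 4 := Monoid.exponent_dvd_of_forall_pow_eq_one fun x => Subtype.ext (hp.pow x x.2)
    obtain ⟨i, hi, hi'⟩ := (Nat.dvd_prime_pow Nat.prime_two).mp (show Monoid.exponent R ∣ 2 ^ 2 from hdvd)
    rw [hi']
    have : ¬ i ≤ 1 := by
      intro hle
      refine hnc fun a ha b hb => ?_
      have hsq : ∀ c : R, c * c = 1 := fun c => by
        rw [← pow_two]
        exact orderOf_dvd_iff_pow_eq_one.mp ((Monoid.order_dvd_exponent c).trans (hi' ▸ Nat.pow_dvd_pow 2 hle))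
      have key : ∀ c : R, c⁻¹ = c := fun c => inv_eq_of_mul_eq_one_right (hsq c)
      have h := key (⟨a, ha⟩ * ⟨b, hb⟩)
      rw [mul_inv_rev, key, key] at h
      exact (congrArg Subtype.val h).symm
    interval_cases i
    rfl
  · rw [hcard, hk, ← pow_mul, pow_add, pow_one, mul_comm k 2]
  · intro A hA hA2
    have := minus_type hm h2F hp inf_le_right hsqR hcard hA hA2
    rw [hk, ← pow_succ'] at this
    exact this

end Cfsg.Agent.MaxSub.Asch
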