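import Mathlib
import Cfsg.Agent.MaxSub.Asch.SymplecticTensor
import Cfsg.Agent.MaxSub.Asch.SymplecticTypeTwo
import Cfsg.Agent.MaxSub.Asch.PowerGram
import Cfsg.Agent.Lib.CharCore.Burnside

/-!
The subgroup structure theorem for the finite symplectic groups.
-/

set_option autoImplicit false
set_option linter.unusedSectionVars false
set_option linter.style.haveILetI false

namespace Cfsg.Agent.MaxSub.Asch

open scoped MatrixGroups Matrix commutatorElement
open Module
open Cfsg.Agent.Aschbacher (NormalIn Inv Irr Core irr_iff)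

variable {F : Type*} [Field F] [Fintype F] {m : ℕ} {H : Subgroup (GL (Fin m ⊕ Fin m) F)}

/-- The residual alternative for a core. -/
theorem inSp_or_residual (hm : 1 ≤ m) (hH : H ≤ spGL m F) {P : Subgroup (GL (Fin m ⊕ Fin m) F)} (h : Core H P) :
    InSp H ∨ Geo.InSymplecticResidualClass H := by
  classical
  haveI : Nonempty (Fin m ⊕ Fin m) := ⟨Sum.inl ⟨0, hm⟩⟩
  have hPI : P ≤ spGL m F := h.le.trans hH
  by_cases hreal : ∃ F₀ : Subfield F, F₀ ≠ ⊤ ∧ Geo.RealisableOver F₀ (Geo.matrixSet P)
  · obtain ⟨F₀, hF₀, hr⟩ := hreal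
    exact Or.inl (inSp_of_realisable hm hH hPI h.normal h.absIrred hF₀ hr)
  push Not at hreal
  by_cases hu : ∃ (σ : F ≃+* F) (f : (Fin m ⊕ Fin m → F) → (Fin m ⊕ Fin m → F) → F),
      Geo.IsUnitaryForm σ f ∧ Geo.FixesForm (Geo.matrixSet P) f
  · exfalso
    obtain ⟨σ, f, hf, hfix⟩ := hu
    have hg := Aschbacher.exists_gram (σ : F →+* F) f hf.add_left hf.smul_left
      (fun v x y => by rw [hf.herm, hf.add_left, map_add, ← hf.herm, ← hf.herm])
      (fun c v x => by rw [hf.herm, hf.smul_left, map_mul, ← hf.herm]; rfl)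
    obtain ⟨G, hG⟩ := Aschbacher.gram_isUnit hg hf.nondegenerate
    obtain ⟨F₀, hF₀, hr⟩ := realisable_of_two_forms (σ := (σ : F →+* F))
      (fun e => hf.ne_refl (RingEquiv.ext fun a => DFunLike.congr_fun e a)) hf.involutive h.absIrred
      (J := (spData m F).gram) (G := G) (fun s hs => by
        have h1 := gram_of_mem_spGL (hPI hs)
        rwa [show (s : Matrix (Fin m ⊕ Fin m) (Fin m ⊕ Fin m) F).map (RingHom.id F) = (s : Matrix _ _ F) from
          Matrix.ext fun _ _ => rfl] at h1)
      (fun s hs => by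
        rw [hG]
        exact (Aschbacher.preserves_iff_gram hg _).mp (hfix _ ⟨s, hs, rfl⟩))
    exact hreal F₀ hF₀ hr
  refine Or.imp_right (fun hq => (⟨P, h.toResidual hreal, hq, hu⟩ : Geo.InSymplecticResidualClass H)) ?_
  refine or_iff_not_imp_right.mpr fun hq => ?_
  simp only [not_not] at hq
  obtain ⟨Q, hQ, hfix⟩ := hq
  have hg := Aschbacher.exists_gram (RingHom.id F) (QuadraticMap.polar Q) hQ.polar_bilinear.add_left
    hQ.polar_bilinear.smul_left hQ.polar_bilinear.add_right (fun c v x => hQ.polar_bilinear.smul_right c v x)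
  have hfix' : Geo.FixesForm (Geo.matrixSet P) (QuadraticMap.polar Q) := fun s hs' u v => by
    simp only [QuadraticMap.polar, ← Matrix.mulVec_add, hfix s hs']
  obtain ⟨c, hc⟩ := Aschbacher.gram_unique (σ := RingHom.id F) (spData m F).gram.isUnit h.absIrred
    (fun s hs => gram_of_mem_spGL (hPI hs))
    (fun s hs => (Aschbacher.preserves_iff_gram hg _).mp (hfix' _ ⟨s, hs, rfl⟩))
  have hcuv : ∀ u v, QuadraticMap.polar Q u v = c * sympForm m F u v := fun u v => by
    rw [hg u v, hc]
    exact ((spData m F).isGram.smul c u v).symm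
  have hc0 : c ≠ 0 := by
    rintro rfl
    obtain ⟨x, hx⟩ := (hQ.nondegenerate (Pi.single (Sum.inl ⟨0, hm⟩) 1) (by simp)).1
    exact hx (by rw [hcuv, zero_mul])
  have hodd : ¬ Odd (Fintype.card F) := by
    intro hodd
    have h2 := Aschbacher.two_ne_zero_of_odd hodd
    obtain ⟨x, hx⟩ := (hQ.nondegenerate (Pi.single (Sum.inl ⟨0, hm⟩) 1) (by simp)).1
    refine hx ?_
    have h1 := QuadraticMap.polar_comm Q x (Pi.single (Sum.inl ⟨0, hm⟩) 1)
    rw [hcuv, hcuv, sympForm_swap (Pi.single (Sum.inl ⟨0, hm⟩) 1) x] at h1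
    have h3 : (2 : F) * (c * sympForm m F x (Pi.single (Sum.inl ⟨0, hm⟩) 1)) = 0 := by linear_combination h1
    rw [hcuv]
    exact (mul_eq_zero.mp h3).resolve_left h2
  refine inSp_quad hH hodd (Q := fun v => c⁻¹ * Q v) (fun a v => by rw [hQ.smul]; ring) (fun u v => ?_)
    fun g hg' v => ?_
  · have h1 := hcuv u v
    simp only [QuadraticMap.polar] at h1 ⊢
    rw [← mul_sub, ← mul_sub, h1, ← mul_assoc, inv_mul_cancel₀ hc0, one_mul]
  · set gm := (g : Matrix (Fin m ⊕ Fin m) (Fin m ⊕ Fin m) F) with hgm
    congr 1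
    by_contra hne
    have hneg := neg_eq_self_of_even hodd
    let d : (Fin m ⊕ Fin m → F) → F := fun w => Q (gm *ᵥ w) - Q w
    have hdadd : ∀ u w, d (u + w) = d u + d w := fun u w => by
      have h1 := hcuv u w
      have h2 := hcuv (gm *ᵥ u) (gm *ᵥ w)
      rw [mem_spGL.mp (hH hg') u w, ← h1] at h2
      simp only [QuadraticMap.polar, ← Matrix.mulVec_add] at h2
      simp only [d]
      linear_combination h2
    have hdsmul : ∀ (a : F) w, d (a • w) = a ^ 2 * d w := fun a w => by
      simp only [d, Matrix.mulVec_smul, hQ.smul]; ring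
    let K : Submodule F (Fin m ⊕ Fin m → F) :=
      { carrier := {w | d w = 0}
        add_mem' := fun {u w} hu hw => by
          show d (u + w) = 0
          rw [hdadd, show d u = 0 from hu, show d w = 0 from hw, add_zero]
        zero_mem' := by
          show d 0 = 0
          simp [d]
        smul_mem' := fun a w hw => by
          show d (a • w) = 0
          rw [hdsmul, show d w = 0 from hw, mul_zero] }
    have hKi : Inv P K := by
      intro s hs w hw
      show d _ = 0
      have e : gm *ᵥ ((s : Matrix (Fin m ⊕ Fin m) (Fin m ⊕ Fin m) F) *ᵥ w) =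
          ((g * s * g⁻¹ : GL (Fin m ⊕ Fin m) F) : Matrix (Fin m ⊕ Fin m) (Fin m ⊕ Fin m) F) *ᵥ (gm *ᵥ w) := by
        rw [Matrix.mulVec_mulVec, Matrix.mulVec_mulVec, hgm, ← Units.val_mul, ← Units.val_mul, inv_mul_cancel_right]
      simp only [d]
      rw [e, hfix _ ⟨_, h.normal g hg' s hs, rfl⟩, hfix _ ⟨s, hs, rfl⟩]
      exact hw
    rcases irr_iff.mpr h.absIrred.1 K hKi with hK | hK
    · -- two independent vectors give a non-zero kernel vector
      let u : Fin m ⊕ Fin m → F := Pi.single (Sum.inl ⟨0, hm⟩) 1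
      let w : Fin m ⊕ Fin m → F := Pi.single (Sum.inr ⟨0, hm⟩) 1
      have hdne : ∀ x, x ≠ 0 → d x ≠ 0 := fun x hx hdx => hx ((Submodule.eq_bot_iff K).mp hK x hdx)
      obtain ⟨s, hs⟩ := Aschbacher.exists_sq_of_even (Nat.not_odd_iff_even.mp hodd) (d w / d u)
      have hu0 : d u ≠ 0 := hdne u (by simp [u])
      have hz : d (s • u + w) = 0 := by
        rw [hdadd, hdsmul, hs, div_mul_cancel₀ _ hu0]
        calc d w + d w = d w + -d w := by rw [hneg]
          _ = 0 := add_neg_cancel _
      have := congrFun ((Submodule.eq_bot_iff K).mp hK _ hz) (Sum.inr ⟨0, hm⟩)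
      simp [u, w] at this
    · exact hne (sub_eq_zero.mp (show d v = 0 from (hK ▸ Submodule.mem_top : v ∈ K)))

/-- The pure tensor of a family of vectors. -/
def ptens {d t : ℕ} (u : Fin t → Fin d → F) : (Fin t → Fin d) → F := fun x => ∏ i, u i (x i)

theorem tens_mulVec_ptens {d t : ℕ} (a : Fin t → Matrix (Fin d) (Fin d) F) (u : Fin t → Fin d → F) :
    tens a *ᵥ ptens u = ptens fun i => a i *ᵥ u i := by
  funext x
  simp only [Matrix.mulVec, dotProduct, tens_apply, ptens, ← Finset.prod_mul_distrib]
  rw [Fintype.prod_sum]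

theorem exists_ptens_image {d t : ℕ} {h : GL (Fin t → Fin d) F} (hh : h ∈ Geo.tensorWreathStandard d t F)
    (u : Fin t → Fin d → F) :
    ∃ u', (h : Matrix (Fin t → Fin d) (Fin t → Fin d) F) *ᵥ ptens u = ptens u' := by
  haveI : Finite (GL (Fin t → Fin d) F) := inferInstance
  rw [Geo.tensorWreathStandard, ← Subgroup.mem_toSubmonoid, Subgroup.closure_toSubmonoid_of_finite] at hh
  induction hh using Submonoid.closure_induction generalizing u with
  | mem g hg =>
    rcases hg with ⟨gs, hgs⟩ | ⟨σ, hσ⟩
    · refine ⟨fun i => (gs i : Matrix (Fin d) (Fin d) F) *ᵥ u i, ?_⟩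
      rw [← tens_mulVec_ptens, show (g : Matrix (Fin t → Fin d) (Fin t → Fin d) F) =
        tens fun i => (gs i : Matrix (Fin d) (Fin d) F) from Matrix.ext hgs]
    · refine ⟨fun i => u (σ.symm i), ?_⟩
      funext x
      simp only [Matrix.mulVec, dotProduct]
      rw [Finset.sum_eq_single (x ∘ σ)]
      · rw [hσ, if_pos rfl, one_mul, ptens, ptens, ← σ.symm.prod_comp]
        simp
      · intro y _ hy; rw [hσ, if_neg hy, zero_mul]
      · simp
  | one => exact ⟨u, by simp⟩
  | mul g g' _ _ hg hg' =>
    obtain ⟨u', hu'⟩ := hg' u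
    obtain ⟨u'', hu''⟩ := hg u'
    exact ⟨u'', by rw [Units.val_mul, ← Matrix.mulVec_mulVec, hu', hu'']⟩

theorem gramForm_tens_ptens {d t : ℕ} (a : Fin t → Matrix (Fin d) (Fin d) F) (u w : Fin t → Fin d → F) :
    gramForm (tens a) (ptens u) (ptens w) = ∏ i, gramForm (a i) (u i) (w i) := by
  simp only [gramForm, tens_mulVec_ptens]
  simp only [dotProduct, ptens, ← Finset.prod_mul_distrib]
  rw [Fintype.prod_sum]

theorem slot_apply_ne {d t : ℕ} {i j : Fin t} (hji : j ≠ i) (M : Matrix (Fin d) (Fin d) F) {x y : Fin t → Fin d}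
    (h : x j ≠ y j) : slot i M x y = 0 := by
  rw [slot_apply]
  exact mul_eq_zero_of_right _ (Finset.prod_eq_zero (i := j) (by simp [hji]) (Matrix.one_apply_ne h))

/-- The case of permuted tensor factors. -/
theorem inSp_wreath (hm : 1 ≤ m) (hH : H ≤ spGL m F) {d t : ℕ} {e : (Fin m ⊕ Fin m) ≃ (Fin t → Fin d)}
    {P : GL (Fin m ⊕ Fin m) F} {φ : Matrix (Fin d) (Fin d) F →ₐ[F] Matrix (Fin m ⊕ Fin m) (Fin m ⊕ Fin m) F}
    {M₀ : Subgroup (GL (Fin m ⊕ Fin m) F)} {g : Fin t → GL (Fin m ⊕ Fin m) F}
    (hw : PowerData (H ⊔ Geo.scalars (Fin m ⊕ Fin m) F) d t e P φ M₀ g) : InSp H := by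
  classical
  haveI : Nonempty (Fin m ⊕ Fin m) := ⟨Sum.inl ⟨0, hm⟩⟩
  have hd := hw.two_le_dim
  have ht := hw.two_le
  haveI : Nonempty (Fin d) := ⟨⟨0, by omega⟩⟩
  have hle : H ≤ Geo.tensorWreathSubgroup d t e P := le_sup_left.trans hw.le_wreath
  have hcen : ∀ T : Matrix (Fin t → Fin d) (Fin t → Fin d) F, (∀ i M, Commute T (slot i M)) →
      ∃ c : F, T = c • 1 := by
    intro T hT
    obtain ⟨x₀⟩ : Nonempty (Fin t → Fin d) := inferInstance
    refine ⟨T x₀ x₀, ?_⟩
    have key : ∀ x y i a, x i ≠ a → y i = a → T x y = 0 := fun x y i a hx hy => by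
      have h1 := congrFun (congrFun (hT i (Matrix.single a a 1)).eq x) y
      simp only [Matrix.mul_apply] at h1
      rw [Finset.sum_eq_single y, Finset.sum_eq_zero] at h1
      · simpa [slot_apply, hy, Matrix.one_apply] using h1
      · intro z _
        simp [slot_apply, Matrix.single_apply, Ne.symm hx]
      · intro z _ hz
        rcases eq_or_ne (z i) (y i) with hzi | hzi
        · obtain ⟨j, hj⟩ := Function.ne_iff.mp hz
          have hji : j ≠ i := fun h => hj (h ▸ hzi)
          rw [slot_apply_ne hji _ hj]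
          simp
        · rw [slot_apply]; simp [Matrix.single_apply, hy ▸ hzi, Ne.symm (hy ▸ hzi)]
      · simp
    have hdiag : ∀ x (i : Fin t) (a : Fin d), T (Function.update x i a) (Function.update x i a) = T x x := by
      intro x i a
      have h1 := congrFun (congrFun (hT i (Matrix.single (x i) a 1)).eq x) (Function.update x i a)
      simp only [Matrix.mul_apply] at h1
      rw [Finset.sum_eq_single x, Finset.sum_eq_single (Function.update x i a)] at h1
      · have e1 : slot i (Matrix.single (x i) a (1 : F)) x (Function.update x i a) = 1 := by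
          rw [slot_apply, Function.update_self, Matrix.single_apply_same, one_mul]
          refine Finset.prod_eq_one fun j hj => ?_
          rw [Function.update_of_ne (by simpa using hj), Matrix.one_apply_eq]
        rw [e1, mul_one, one_mul] at h1
        exact h1.symm
      · intro z _ hz
        rcases eq_or_ne (z i) a with hzi | hzi
        · obtain ⟨j, hj⟩ := Function.ne_iff.mp hz
          have hji : j ≠ i := by rintro rfl; simp [hzi] at hj
          rw [Function.update_of_ne hji] at hj
          rw [slot_apply_ne hji _ (Ne.symm hj)]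
          simp
        · rw [slot_apply]; simp [Ne.symm hzi]
      · simp
      · intro z _ hz
        rcases eq_or_ne (z i) (x i) with hzi | hzi
        · obtain ⟨j, hj⟩ := Function.ne_iff.mp hz
          have hji : j ≠ i := fun h => hj (h ▸ hzi)
          have hj' : z j ≠ Function.update x i a j := by rwa [Function.update_of_ne hji]
          rw [slot_apply_ne hji _ hj']
          simp
        · rw [slot_apply, Function.update_self]; simp [Ne.symm hzi]
      · simp
    ext x y
    rcases eq_or_ne x y with rfl | hxy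
    · rw [Matrix.smul_apply, Matrix.one_apply_eq, smul_eq_mul, mul_one]
      suffices h : ∀ (s : Finset (Fin t)) z, (∀ i ∉ s, z i = x₀ i) → T z z = T x₀ x₀ from
        h Finset.univ x fun i hi => absurd (Finset.mem_univ i) hi
      intro s
      induction s using Finset.induction with
      | empty => intro z hz; rw [show z = x₀ from funext fun i => hz i (Finset.notMem_empty i)]
      | insert a s ha ih =>
        intro z hz
        rw [← hdiag z a (x₀ a)]
        refine ih _ fun i hi => ?_
        rcases eq_or_ne i a with rfl | hia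
        · simp
        · rw [Function.update_of_ne hia]; exact hz i (by simp [hia, hi])
    · obtain ⟨i, hi⟩ := Function.ne_iff.mp hxy
      rw [key x y i (y i) hi rfl, Matrix.smul_apply, Matrix.one_apply_ne hxy, smul_zero]
  obtain ⟨c, G₁, hc0, hgram⟩ := (spData m F).exists_power_gram (by omega) e P φ g
    (fun i => isSim_of_mem hH (hw.conj_mem i)) (fun M => by
      rw [hw.range_eq]
      exact (spData m F).adj_mem_alg (fun x hx => isSim_of_mem hH (hw.base_le hx)) (hw.range_eq ▸ ⟨M, rfl⟩))
    hw.slot_eq hcen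
  set g₁ := (G₁ : Matrix (Fin d) (Fin d) F) with hg₁
  have hdiag : ∀ i, g₁ i i = 0 := by
    intro i
    have h0 := (isSymplecticForm_sympForm (m := m) (F := F)).alternating
      ((P : Matrix (Fin m ⊕ Fin m) (Fin m ⊕ Fin m) F) *ᵥ (Pi.single (fun _ => i) 1 ∘ e))
    rw [← spData_form, FormData.transport_form, FormData.form, hgram] at h0
    have e1 : (fun k => ((spData m F).transport e P).σ ((Pi.single (fun _ => i) (1 : F) : (Fin t → Fin d) → F) k)) =
        Pi.single (fun _ => i) 1 := funext fun _ => rfl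
    rw [e1] at h0
    simpa [tens_apply, hc0, pow_eq_zero_iff (show t ≠ 0 by omega)] using h0
  have hskew : tens (fun _ : Fin t => g₁ᵀ) = (-1 : F) • tens (fun _ : Fin t => g₁) := by
    have h := ((spData m F).transport e P).herm
    rw [hgram, show ((spData m F).transport e P).σ = RingHom.id F from rfl,
      show ((spData m F).transport e P).ε = -1 from rfl, smul_comm, Matrix.transpose_smul, tens_transpose] at h
    have h' : c • tens (fun _ : Fin t => g₁ᵀ) = c • ((-1 : F) • tens (fun _ : Fin t => g₁)) := by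
      rw [← h]; exact (Matrix.ext fun _ _ => rfl)
    exact (smul_right_injective _ hc0) h'
  obtain ⟨κ, hκ, hκt⟩ := tens_const_eq (by omega) hskew G₁.ne_zero (by simp)
  have hκ2 : κ * κ = 1 := by
    have h := congrArg Matrix.transpose hκ
    rw [Matrix.transpose_transpose, Matrix.transpose_smul, hκ, smul_smul] at h
    exact (smul_left_injective F G₁.ne_zero (show (κ * κ) • g₁ = (1 : F) • g₁ by rw [one_smul, ← h]))
  by_cases hodd : Odd (Fintype.card F)
  · have h2 := Aschbacher.two_ne_zero_of_odd hodd
    have hne1 : (1 : F) ≠ -1 := fun e => h2 (by linear_combination e)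
    have hκ1 : κ = -1 := by
      rcases mul_self_eq_one_iff.mp hκ2 with h | h
      · rw [h, one_pow] at hκt; exact absurd hκt hne1
      · exact h
    rw [hκ1] at hκt
    have htodd : Odd t := by
      rcases Nat.even_or_odd t with h | h
      · rw [h.neg_one_pow] at hκt; exact absurd hκt hne1
      · exact h
    have ht3 : 3 ≤ t := by obtain ⟨j, rfl⟩ := htodd; omega
    have hT : g₁ᵀ = -g₁ := by rw [hκ, hκ1, neg_one_smul]
    have hex : ¬ (Fintype.card F = 3 ∧ d = 2) := by
      rintro ⟨hq, rfl⟩
      -- a perfect group does not embed in a soluble one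
      have hinj : Function.Injective φ := φ.toRingHom.injective
      let φe := AlgEquiv.ofInjective φ hinj
      have hmem : ∀ x : M₀, ((x : GL (Fin m ⊕ Fin m) F) : Matrix (Fin m ⊕ Fin m) (Fin m ⊕ Fin m) F) ∈ φ.range :=
        fun x => hw.range_eq ▸ coe_mem_alg x.2
      let f₀ : M₀ →* Matrix (Fin 2) (Fin 2) F :=
        { toFun := fun x => φe.symm ⟨_, hmem x⟩
          map_one' := by
            apply φe.injective
            rw [AlgEquiv.apply_symm_apply, map_one]
            exact Subtype.ext (by simp)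
          map_mul' := fun x y => by
            apply φe.injective
            rw [map_mul, AlgEquiv.apply_symm_apply, AlgEquiv.apply_symm_apply, AlgEquiv.apply_symm_apply]
            exact Subtype.ext (by simp) }
      let f := f₀.toHomUnits
      have hfinj : Function.Injective f := fun x y hxy => by
        have h1 : f₀ x = f₀ y := congrArg Units.val hxy
        exact Subtype.ext (Units.ext (congrArg Subtype.val (φe.symm.injective h1)))
      haveI : Group.IsSolvable (GL (Fin 2) F) := by
        refine CharCore.isSolvable_of_card_eq_prime_pow_mul Nat.prime_two Nat.prime_three _ _ 4 1 rfl ?_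
        rw [Matrix.card_GL_field]
        simp [hq, Fin.prod_univ_two]
      haveI : Group.IsSolvable M₀ := Group.isSolvable_of_isSolvable_injective hfinj
      refine hw.nontrivial ?_
      have htop : commutator M₀ = ⊤ := by
        rw [commutator_def]
        refine Subgroup.map_injective (f := M₀.subtype) M₀.subtype_injective ?_
        rw [Subgroup.map_commutator, ← MonoidHom.range_eq_map, Subgroup.range_subtype, hw.perfect]
      intro x hx
      by_contra hxZ
      have : Nontrivial M₀ := ⟨⟨⟨x, hx⟩, 1, fun h => hxZ (by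
        rw [show x = 1 from congrArg Subtype.val h]; exact one_mem _)⟩⟩
      exact (IsSolvable.commutator_lt_top_of_nontrivial M₀).ne htop
    have hf₁ : Geo.IsSymplecticForm (gramForm g₁) := by
      refine ⟨gramForm_bilinear _, fun v w => ?_, gramForm_self_eq_zero hT hdiag, gramForm_nondegenerate G₁.isUnit⟩
      rw [gramForm_swap _ v w, hT]
      simp [gramForm, Matrix.neg_mulVec]
    refine ⟨_, Or.inr <| Or.inr <| Or.inr <| Or.inr ⟨d, t, e, P, _, hodd, htodd, ht3, hex, hf₁, ⟨c, hc0, ?_⟩, rfl⟩,
      le_inf hle hH⟩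
    intro x y
    rw [gramMatrix_gramForm, ← spData_form, FormData.transport_form, FormData.form, hgram]
    simp [dotProduct, Matrix.mulVec, Finset.mul_sum, tens_apply,
      show ((spData m F).transport e P).σ = RingHom.id F from rfl]
    exact Finset.sum_congr rfl fun _ _ => Finset.sum_congr rfl fun _ _ => by ring
  · -- characteristic two: a quadratic form
    have hneg := neg_eq_self_of_even hodd
    have hκ1 : κ = 1 := by
      rcases mul_self_eq_one_iff.mp hκ2 with h | h
      · exact h
      · rw [h]; exact hneg 1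
    have hT : g₁ᵀ = g₁ := by rw [hκ, hκ1, one_smul]
    let U : Matrix (Fin d) (Fin d) F := Matrix.of fun i j => if i < j then g₁ i j else 0
    have hU : U + Uᵀ = g₁ := by
      ext i j
      rcases lt_trichotomy i j with h | rfl | h
      · simp [U, h, h.asymm]
      · simp [U, hdiag]
      · have := congrFun (congrFun hT i) j
        simp only [Matrix.transpose_apply] at this
        simp [U, h, h.asymm, this]
    let i₀ : Fin t := ⟨0, by omega⟩
    let i₁ : Fin t := ⟨1, by omega⟩
    have hi01 : i₁ ≠ i₀ := by simp [i₀, i₁, Fin.ext_iff]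
    let fac : Matrix (Fin d) (Fin d) F → Fin t → Matrix (Fin d) (Fin d) F :=
      fun A => Function.update (fun _ => g₁) i₀ A
    set N := c • tens (fac U) with hN
    set Γ := ((spData m F).transport e P).gram with hΓ
    have hNG : N + Nᵀ = (Γ : Matrix (Fin t → Fin d) (Fin t → Fin d) F) := by
      rw [hN, Matrix.transpose_smul, tens_transpose, ← smul_add, hgram]
      congr 1
      ext x y
      simp only [Matrix.add_apply, tens_apply, fac, Fintype.prod_eq_mul_prod_compl i₀, Function.update_self]
      have hrest : ∀ A : Matrix (Fin d) (Fin d) F, ∀ j ∈ ({i₀} : Finset (Fin t))ᶜ,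
          Function.update (fun _ : Fin t => g₁) i₀ A j = g₁ := fun A j hj =>
        Function.update_of_ne (by simpa using hj) _ _
      rw [Finset.prod_congr rfl fun j hj => congrFun (congrFun (hrest U j hj) (x j)) (y j),
        Finset.prod_congr rfl fun j hj => show ((Function.update (fun _ : Fin t => g₁) i₀ U) j)ᵀ (x j) (y j) =
          g₁ (x j) (y j) by rw [hrest U j hj, hT], ← add_mul]
      congr 1
      exact congrFun (congrFun hU (x i₀)) (y i₀)
    have hb := gramForm_bilinear N
    have hNpt : ∀ u, gramForm N (ptens u) (ptens u) = 0 := fun u => by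
      rw [hN, show gramForm (c • tens (fac U)) (ptens u) (ptens u) = c * gramForm (tens (fac U)) (ptens u) (ptens u) by
        simp [gramForm, Matrix.smul_mulVec], gramForm_tens_ptens, Finset.prod_eq_zero (Finset.mem_univ i₁), mul_zero]
      rw [show fac U i₁ = g₁ from Function.update_of_ne hi01 _ _]
      exact gramForm_self_eq_zero (by rw [hT]; ext a b; exact (hneg _).symm) hdiag _
    have hsingle : ∀ x : Fin t → Fin d, (Pi.single x 1 : (Fin t → Fin d) → F) = ptens fun i => Pi.single (x i) 1 := by
      intro x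
      funext y
      rcases eq_or_ne y x with rfl | hne
      · simp [ptens]
      · obtain ⟨j, hj⟩ := Function.ne_iff.mp hne
        rw [Pi.single_eq_of_ne hne, ptens, Finset.prod_eq_zero (Finset.mem_univ j)]
        exact Pi.single_eq_of_ne hj 1
    set Q' := ((P⁻¹ : GL (Fin m ⊕ Fin m) F) : Matrix (Fin m ⊕ Fin m) (Fin m ⊕ Fin m) F) with hQ'
    let cd : (Fin m ⊕ Fin m → F) → ((Fin t → Fin d) → F) := fun v => (Q' *ᵥ v) ∘ e.symm
    have hcd : ∀ v, (P : Matrix (Fin m ⊕ Fin m) (Fin m ⊕ Fin m) F) *ᵥ (cd v ∘ e) = v := fun v => by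
      simp [cd, Function.comp_assoc, hQ', Matrix.mulVec_mulVec]
    refine inSp_quad hH hodd (Q := fun v => gramForm N (cd v) (cd v)) (fun a v => ?_) (fun u v => ?_) fun x hx v => ?_
    · have : cd (a • v) = a • cd v := by
        funext p; simp [cd, Matrix.mulVec_smul]
      rw [this, hb.smul_left, hb.smul_right]; ring
    · have hadd : cd (u + v) = cd u + cd v := by
        funext p; simp [cd, Matrix.mulVec_add]
      simp only [QuadraticMap.polar, hadd, hb.add_left, hb.add_right]
      rw [gramForm_swap N (cd v) (cd u)]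
      conv_rhs => rw [← hcd u, ← hcd v, ← spData_form, FormData.transport_form, FormData.form, ← hΓ, ← hNG]
      simp [gramForm, Matrix.add_mulVec, show ((spData m F).transport e P).σ = RingHom.id F from rfl]
      ring
    · obtain ⟨_, ⟨h, hh, rfl⟩, hxe⟩ := hle hx
      have hxv : (x : Matrix (Fin m ⊕ Fin m) (Fin m ⊕ Fin m) F) =
          tr e P (h : Matrix (Fin t → Fin d) (Fin t → Fin d) F) := by
        rw [← hxe, ← tr_eq_conj_glReindex]; rfl
      have hiso := (spData m F).transport_sim e P hxv (c := 1) (by rw [one_smul]; exact gram_of_mem_spGL (hH hx))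
      rw [one_smul, show (spData m F).σ = RingHom.id F from rfl, show ((h : Matrix (Fin t → Fin d) (Fin t → Fin d) F)).map
        (RingHom.id F) = (h : Matrix (Fin t → Fin d) (Fin t → Fin d) F) from Matrix.ext fun _ _ => rfl, ← hΓ, ← hNG] at hiso
      have hcg : cd ((x : Matrix (Fin m ⊕ Fin m) (Fin m ⊕ Fin m) F) *ᵥ v) =
          (h : Matrix (Fin t → Fin d) (Fin t → Fin d) F) *ᵥ cd v := by
        funext p
        simp only [cd, Function.comp_apply]
        rw [Matrix.mulVec_mulVec, hxv, tr_apply, ← mul_assoc, ← mul_assoc, hQ', Units.inv_mul, one_mul,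
          ← Matrix.mulVec_mulVec]
        rw [Matrix.mulVec, dotProduct, ← e.symm.sum_comp]
        simp [Matrix.mulVec, dotProduct]
      rw [hcg, gramForm_comp, ← sub_eq_zero]
      set D := (h : Matrix (Fin t → Fin d) (Fin t → Fin d) F)ᵀ * N * (h : Matrix (Fin t → Fin d) (Fin t → Fin d) F) - N
        with hD
      have hDd : ∀ y, D y y = 0 := by
        intro y
        have h1 : gramForm ((h : Matrix (Fin t → Fin d) (Fin t → Fin d) F)ᵀ * N *
            (h : Matrix (Fin t → Fin d) (Fin t → Fin d) F)) (Pi.single y 1) (Pi.single y 1) = 0 := by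
          rw [← gramForm_comp, hsingle]
          obtain ⟨u', hu'⟩ := exists_ptens_image hh fun i => Pi.single (y i) (1 : F)
          rw [hu']; exact hNpt u'
        have h2 : gramForm N (Pi.single y 1) (Pi.single y 1) = 0 := by rw [hsingle]; exact hNpt _
        simp [gramForm] at h1 h2
        rw [hD, Matrix.sub_apply, h1, h2, sub_zero]
      have hDT : Dᵀ = -D := by
        rw [eq_neg_iff_add_eq_zero, hD, Matrix.transpose_sub, Matrix.transpose_mul, Matrix.transpose_mul,
          Matrix.transpose_transpose, sub_add_sub_comm, ← mul_assoc, ← add_mul, ← mul_add, add_comm Nᵀ N,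
          hiso, sub_self]
      have h0 := gramForm_self_eq_zero hDT hDd (cd v)
      rw [← h0, hD]
      simp [gramForm, Matrix.sub_mulVec]

/-- The subgroup structure theorem. -/
theorem symplectic_structure (hm : 1 ≤ m) (hH : H ≤ spGL m F) :
    InSp H ∨ Geo.InSymplecticResidualClass H := by
  classical
  haveI : Nonempty (Fin m ⊕ Fin m) := ⟨Sum.inl ⟨0, hm⟩⟩
  by_cases hirr : Irr H
  swap
  · exact Or.inl (inSp_reducible hH hirr)
  set Z := Geo.scalars (Fin m ⊕ Fin m) F with hZ
  set G := H ⊔ Z with hG
  have hn : 1 < Fintype.card (Fin m ⊕ Fin m) := by simp; omega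
  have hGirr : Irr G := fun W hW => hirr W fun g hg => hW g (Subgroup.mem_sup_left hg)
  by_cases hall : ∃ L : Subgroup (GL (Fin m ⊕ Fin m) F), L ≤ G ∧ NormalIn L G ∧ ¬ L ≤ Z ∧
      ¬ Geo.ActsAbsolutelyIrreducibly (Geo.matrixSet L)
  · obtain ⟨L, hLG, hL, hLs, hLa⟩ := hall
    exact Or.inl (inSp_clifford hm hH hirr hLG hL hLs hLa)
  push Not at hall
  have hGn : NormalIn G G := fun g hg x hx => mul_mem (mul_mem hg hx) (inv_mem hg)
  obtain ⟨L, ⟨hLG, hL, hLZ, hLne⟩, hLmin⟩ := exists_minimal_of_wellFoundedLT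
    (fun L : Subgroup (GL (Fin m ⊕ Fin m) F) => L ≤ G ∧ NormalIn L G ∧ Z ≤ L ∧ L ≠ Z)
    ⟨G, le_rfl, hGn, le_sup_right, fun e => Aschbacher.irr_not_le_scalars hGirr hn e.le⟩
  have hLs : ¬ L ≤ Z := fun e => hLne (le_antisymm e hLZ)
  have habs := hall L hLG hL hLs
  have hmin : ∀ M ≤ L, NormalIn M G → Z ≤ M → M = Z ∨ M = L := fun M hM hMG hZM =>
    or_iff_not_imp_left.mpr fun hne => le_antisymm hM (hLmin ⟨hM.trans hLG, hMG, hZM, hne⟩ hM)
  by_cases h2 : ⁅L, L⁆ ≤ Z
  · exact Or.inl (inSp_typeTwo hm hH hLG hL hLZ habs hmin h2)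
  rcases nonabelian hLG hL hLZ habs hmin h2 with ⟨P, hP, hPL⟩ | ⟨d, t, e, P, φ, M₀, g, hw⟩
  · have hPH : P ≤ H := hPL.trans ((Subgroup.commutator_mono hLG hLG).trans
      ((commutator_sup_scalars H).trans (Aschbacher.commutator_le_self H)))
    exact inSp_or_residual hm hH
      ⟨hPH, fun x hx => hP.normal x (Subgroup.mem_sup_left hx), hP.perfect, hP.simple, hP.nonabelian,
        fun x hx => hP.centralizer_scalar x (Subgroup.mem_sup_left hx), hP.absIrred⟩
  · exact Or.inl (inSp_wreath hm hH hw)

end Cfsg.Agent.MaxSub.Asch
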