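import Mathlib
import Cfsg.Agent.MaxSub.Asch.OrthOddTensor
import Cfsg.Agent.MaxSub.Asch.SymplecticMain

/-!
The subgroup structure theorem for the odd-dimensional orthogonal groups.
-/

set_option autoImplicit false
set_option linter.unusedSectionVars false
set_option linter.style.haveILetI false

namespace Cfsg.Agent.MaxSub.Asch

open scoped MatrixGroups Matrix commutatorElement
open Module
open Cfsg.Agent.Aschbacher (NormalIn Inv Irr Core irr_iff)

variable {F : Type*} [Field F] [Fintype F] {m : ℕ} (h2 : (2 : F) ≠ 0) {H : Subgroup (GL (OIdx m) F)}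

include h2

/-- The residual alternative for a core. -/
theorem inOO_or_residual (hH : H ≤ isometryGroup F (quadFormOdd m F)) {P : Subgroup (GL (OIdx m) F)}
    (h : Core H P) : InOO H ∨ Geo.InOrthogonalResidualClass H := by
  classical
  haveI : Nonempty (OIdx m) := ⟨Sum.inl ()⟩
  have hPI : P ≤ isometryGroup F (quadFormOdd m F) := h.le.trans hH
  by_cases hreal : ∃ F₀ : Subfield F, F₀ ≠ ⊤ ∧ Geo.RealisableOver F₀ (Geo.matrixSet P)
  · obtain ⟨F₀, hF₀, hr⟩ := hreal
    exact Or.inl (inOO_of_realisable h2 hH hPI h.normal h.absIrred hF₀ hr)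
  push Not at hreal
  refine Or.inr ⟨P, h.toResidual hreal, ?_⟩
  rintro ⟨σ, f, hf, hfix⟩
  have hg := Aschbacher.exists_gram (σ : F →+* F) f hf.add_left hf.smul_left
    (fun v x y => by rw [hf.herm, hf.add_left, map_add, ← hf.herm, ← hf.herm])
    (fun c v x => by rw [hf.herm, hf.smul_left, map_mul, ← hf.herm]; rfl)
  obtain ⟨G, hG⟩ := Aschbacher.gram_isUnit hg hf.nondegenerate
  obtain ⟨F₀, hF₀, hr⟩ := realisable_of_two_forms (σ := (σ : F →+* F))
    (fun e => hf.ne_refl (RingEquiv.ext fun a => DFunLike.congr_fun e a)) hf.involutive h.absIrred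
    (J := (orthData (m := m) h2).gram) (G := G) (fun s hs => by
      rw [orthData_gram]
      exact gram_of_iso (hPI hs))
    (fun s hs => by
      rw [hG]
      exact (Aschbacher.preserves_iff_gram hg _).mp (hfix _ ⟨s, hs, rfl⟩))
  exact hreal F₀ hF₀ hr

/-- Scalar commutators are trivial. -/
theorem false_of_abelian_mod_scalars (hm : 1 ≤ m) (hH : H ≤ isometryGroup F (quadFormOdd m F))
    {L : Subgroup (GL (OIdx m) F)} (hLG : L ≤ H ⊔ Geo.scalars (OIdx m) F)
    (habs : Geo.ActsAbsolutelyIrreducibly (Geo.matrixSet L)) (h2L : ⁅L, L⁆ ≤ Geo.scalars (OIdx m) F) : False := by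
  classical
  haveI : Nonempty (OIdx m) := ⟨Sum.inl ()⟩
  refine Aschbacher.irr_not_le_scalars (irr_iff.mpr habs.1) (by simp; omega) fun x hx =>
    Aschbacher.mem_scalars_of_commute habs fun y hy => ?_
  obtain ⟨a, ha, z, hz, rfl⟩ := (Subgroup.mem_sup_of_normal_right (ht := Geo.scalars_normal)).mp (hLG hx)
  obtain ⟨b, hb, w, hw, rfl⟩ := (Subgroup.mem_sup_of_normal_right (ht := Geo.scalars_normal)).mp (hLG hy)
  have hzc : ∀ g, Commute g z := fun g => Aschbacher.scalars_central hz g
  have hwc : ∀ g, Commute g w := fun g => Aschbacher.scalars_central hw g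
  have hab : ⁅a * z, b * w⁆ = ⁅a, b⁆ := by
    have h1 : ∀ g, z * g * z⁻¹ = g := fun g => by rw [← (hzc g).eq, mul_inv_cancel_right]
    have h2' : ∀ g, w * g * w⁻¹ = g := fun g => by rw [← (hwc g).eq, mul_inv_cancel_right]
    calc ⁅a * z, b * w⁆ = a * (z * (b * w) * z⁻¹) * a⁻¹ * (w⁻¹ * b⁻¹) := by simp [commutatorElement_def, mul_assoc]
      _ = a * b * (w * a⁻¹ * w⁻¹) * b⁻¹ := by rw [h1]; simp [mul_assoc]
      _ = ⁅a, b⁆ := by rw [h2', commutatorElement_def]
  have hc1 : ⁅a, b⁆ = 1 := by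
    obtain ⟨u, hu⟩ := (Geo.mem_scalars_iff _).mp (hab ▸ h2L (Subgroup.commutator_mem_commutator hx hy))
    have hiso : ⁅a, b⁆ ∈ isometryGroup F (quadFormOdd m F) := by
      rw [commutatorElement_def]
      exact mul_mem (mul_mem (mul_mem (hH ha) (hH hb)) (inv_mem (hH ha))) (inv_mem (hH hb))
    have hsq : (u : F) * u = 1 := by
      have h1 := gram_of_iso hiso
      rw [hu, Matrix.transpose_smul, Matrix.transpose_one, Matrix.smul_mul, one_mul, Matrix.mul_smul, mul_one,
        smul_smul] at h1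
      refine smul_left_injective F ?_ (h1.trans (one_smul F _).symm)
      exact orthData_gram (m := m) h2 ▸ (orthData (m := m) h2).gram.ne_zero
    have hdet : (u : F) ^ Fintype.card (OIdx m) = 1 := by
      have h1 : Matrix.GeneralLinearGroup.det ⁅a, b⁆ = 1 := by
        rw [map_commutatorElement]; exact commutatorElement_eq_one_iff_mul_comm.mpr (mul_comm _ _)
      have h3 := congrArg Units.val h1
      rw [Matrix.GeneralLinearGroup.val_det_apply, hu, Matrix.det_smul, Matrix.det_one, mul_one, Units.val_one] at h3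
      exact h3
    rw [show Fintype.card (OIdx m) = 2 * m + 1 by simp; omega, pow_succ, pow_mul, pow_two, hsq, one_pow, one_mul] at hdet
    exact Units.ext (by rw [hu, hdet, one_smul, Units.val_one])
  have := hab.trans hc1
  exact commutatorElement_eq_one_iff_mul_comm.mp this

/-- The subgroup structure theorem. -/
theorem orthOdd_structure (hm : 1 ≤ m) (hH : H ≤ isometryGroup F (quadFormOdd m F)) :
    InOO H ∨ Geo.InOrthogonalResidualClass H := by
  classical
  haveI : Nonempty (OIdx m) := ⟨Sum.inl ()⟩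
  by_cases hirr : Irr H
  swap
  · exact Or.inl (inOO_reducible h2 hH hirr)
  set Z := Geo.scalars (OIdx m) F with hZ
  set G := H ⊔ Z with hG
  have hn1 : 1 < Fintype.card (OIdx m) := by simp; omega
  have hGirr : Irr G := fun W hW => hirr W fun g hg => hW g (Subgroup.mem_sup_left hg)
  by_cases hall : ∃ L : Subgroup (GL (OIdx m) F), L ≤ G ∧ NormalIn L G ∧ ¬ L ≤ Z ∧
      ¬ Geo.ActsAbsolutelyIrreducibly (Geo.matrixSet L)
  · obtain ⟨L, hLG, hL, hLs, hLa⟩ := hall
    exact Or.inl (inOO_clifford h2 hH hirr hLG hL hLs hLa)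
  push Not at hall
  have hGn : NormalIn G G := fun g hg x hx => mul_mem (mul_mem hg hx) (inv_mem hg)
  obtain ⟨L, ⟨hLG, hL, hLZ, hLne⟩, hLmin⟩ := exists_minimal_of_wellFoundedLT
    (fun L : Subgroup (GL (OIdx m) F) => L ≤ G ∧ NormalIn L G ∧ Z ≤ L ∧ L ≠ Z)
    ⟨G, le_rfl, hGn, le_sup_right, fun e => Aschbacher.irr_not_le_scalars hGirr hn1 e.le⟩
  have hLs : ¬ L ≤ Z := fun e => hLne (le_antisymm e hLZ)
  have habs := hall L hLG hL hLs
  have hmin : ∀ M ≤ L, NormalIn M G → Z ≤ M → M = Z ∨ M = L := fun M hM hMG hZM =>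
    or_iff_not_imp_left.mpr fun hne => le_antisymm hM (hLmin ⟨hM.trans hLG, hMG, hZM, hne⟩ hM)
  by_cases hc : ⁅L, L⁆ ≤ Z
  · exact (false_of_abelian_mod_scalars h2 hm hH hLG habs hc).elim
  rcases nonabelian hLG hL hLZ habs hmin hc with ⟨P, hP, hPL⟩ | ⟨d, t, e, P, φ, M₀, g, hw⟩
  · have hPH : P ≤ H := hPL.trans ((Subgroup.commutator_mono hLG hLG).trans
      ((commutator_sup_scalars H).trans (Aschbacher.commutator_le_self H)))
    exact inOO_or_residual h2 hH
      ⟨hPH, fun x hx => hP.normal x (Subgroup.mem_sup_left hx), hP.perfect, hP.simple, hP.nonabelian,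
        fun x hx => hP.centralizer_scalar x (Subgroup.mem_sup_left hx), hP.absIrred⟩
  · exact Or.inl (inOO_wreath h2 hH hirr hw)

end Cfsg.Agent.MaxSub.Asch
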