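import Mathlib
import Cfsg.Agent.MaxSub.Asch.Symplectic
import Cfsg.Agent.Aschbacher.SesqForm

/-!
The subgroup structure of the unitary groups: reducible, imprimitive and extension field cases.
-/

set_option autoImplicit false
set_option linter.unusedSectionVars false
set_option linter.style.haveILetI false

namespace Cfsg.Agent.MaxSub.Asch

open scoped MatrixGroups Matrix Kronecker
open Module
open Cfsg.Agent.Aschbacher (NormalIn Inv Irr)

variable {F : Type*} [Field F] [Fintype F] {n q : ℕ}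

/-- The field automorphism of a unitary form. -/
structure UField (F : Type*) [Field F] [Fintype F] (q : ℕ) where
  card : Fintype.card F = q ^ 2
  σ : F →+* F
  pow : ∀ x, σ x = x ^ q
  ne_id : σ ≠ RingHom.id F
  invol : ∀ x, σ (σ x) = x

theorem nonempty_ufield (hF : Fintype.card F = q ^ 2) : Nonempty (UField F q) := by
  obtain ⟨σ, h1, h2, h3⟩ := Aschbacher.exists_involution hF
  exact ⟨⟨hF, σ, h3, fun e => h1 (RingEquiv.ext fun x => DFunLike.congr_fun e x), h2⟩⟩

/-- Containment in a member of one of the unitary classes. -/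
abbrev InGU (q : ℕ) (H : Subgroup (GL (Fin n) F)) : Prop :=
  ∃ M, Geo.InUnitaryClass n F q M ∧ H ≤ M

namespace UField

variable (S : UField F q)

/-- The standard unitary form as form data. -/
noncomputable def data (n : ℕ) : FormData (Fin n) F where
  σ := S.σ
  ε := 1
  invol := S.invol
  gram := 1
  herm := by
    rw [Units.val_one, Matrix.transpose_one, one_smul]
    exact Matrix.map_one _ (map_zero _) (map_one _)

theorem data_form : (S.data n).form = hermForm n F q := by
  funext u v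
  show u ⬝ᵥ (((1 : GL (Fin n) F) : Matrix (Fin n) (Fin n) F) *ᵥ fun i => S.σ (v i)) = _
  rw [Units.val_one, Matrix.one_mulVec]
  simp [hermForm, dotProduct, S.pow]

theorem data_gram : ((S.data n).gram : Matrix (Fin n) (Fin n) F) = 1 := rfl

theorem isGram : Aschbacher.IsGram S.σ (hermForm n F q) (1 : Matrix (Fin n) (Fin n) F) := by
  intro u v
  rw [← S.data_form]; rfl

theorem herm : Aschbacher.Herm S.σ (hermForm n F q) := by
  have hadd : ∀ x y v : Fin n → F, hermForm n F q (x + y) v = hermForm n F q x v + hermForm n F q y v :=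
    fun x y v => by simp [hermForm, add_mul, Finset.sum_add_distrib]
  refine ⟨S.invol, hadd, fun c x v => by simp [hermForm, Finset.mul_sum, mul_assoc], fun v w => ?_, ?_⟩
  · simp only [hermForm, ← S.pow, map_sum, map_mul, S.invol]
    exact Finset.sum_congr rfl fun i _ => mul_comm _ _
  · intro v hv
    obtain ⟨i, hi⟩ := Function.ne_iff.mp hv
    refine ⟨⟨Pi.single i 1, ?_⟩, ⟨Pi.single i 1, ?_⟩⟩
    · rw [S.isGram, Matrix.one_mulVec, single_dotProduct, one_mul]
      exact (map_ne_zero S.σ).mpr hi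
    · rw [S.isGram, Matrix.one_mulVec, Aschbacher.single_comp, dotProduct_single, mul_one]
      exact hi

theorem isom {H : Subgroup (GL (Fin n) F)} (hH : H ≤ GU n F q) :
    ∀ g ∈ H, ∀ u v, hermForm n F q ((g : Matrix (Fin n) (Fin n) F) *ᵥ u) ((g : Matrix (Fin n) (Fin n) F) *ᵥ v) =
      hermForm n F q u v :=
  fun _ hg => hH hg

theorem gram_of_mem {g : GL (Fin n) F} (hg : g ∈ GU n F q) :
    (g : Matrix (Fin n) (Fin n) F)ᵀ * (1 : Matrix (Fin n) (Fin n) F) * (g : Matrix (Fin n) (Fin n) F).map S.σ = 1 :=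
  (Aschbacher.preserves_iff_gram S.isGram _).mp hg

theorem isSim_of_mem {H : Subgroup (GL (Fin n) F)} (hH : H ≤ GU n F q) {g : GL (Fin n) F}
    (hg : g ∈ H ⊔ Geo.scalars (Fin n) F) : (S.data n).IsSim g := by
  obtain ⟨h, hh, z, hz, rfl⟩ := (Subgroup.mem_sup_of_normal_right (ht := Geo.scalars_normal)).mp hg
  obtain ⟨c, hc⟩ := (Geo.mem_scalars_iff z).mp hz
  refine ⟨(c : F) * S.σ c, mul_ne_zero c.ne_zero ((map_ne_zero S.σ).mpr c.ne_zero), ?_⟩
  have hm := S.gram_of_mem (hH hh)
  rw [mul_one] at hm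
  rw [S.data_gram, show (S.data n).σ = S.σ from rfl]
  simp only [Units.val_mul, hc, Matrix.mul_smul, mul_one, Matrix.transpose_smul, Matrix.smul_mul]
  rw [show ((c : F) • (h : Matrix (Fin n) (Fin n) F)).map S.σ = S.σ c • (h : Matrix (Fin n) (Fin n) F).map S.σ by
      ext i j; simp,
    Matrix.mul_smul, hm, smul_smul]

end UField

variable {H : Subgroup (GL (Fin n) F)}

theorem inGU_singular (hH : H ≤ GU n F q) {W : Submodule F (Fin n → F)} (h0 : W ≠ ⊥)
    (hts : Geo.IsTotallySingularFor (hermForm n F q) W) (hle : H ≤ Geo.subspaceStabilizer W) : InGU q H :=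
  ⟨_, Or.inl <| Or.inl ⟨W, h0, hts, rfl⟩, le_inf hle hH⟩

theorem inGU_nondeg (hH : H ≤ GU n F q) {W : Submodule F (Fin n → F)} (h0 : W ≠ ⊥)
    (hnd : Geo.IsNondegenerateOn (hermForm n F q) W) (hlt : 2 * finrank F W < n)
    (hle : H ≤ Geo.subspaceStabilizer W) : InGU q H :=
  ⟨_, Or.inl <| Or.inr <| Or.inl ⟨W, h0, hnd, hlt, rfl⟩, le_inf hle hH⟩

theorem inGU_decomp (hH : H ≤ GU n F q) {t k : ℕ} {D : Fin t → Submodule F (Fin n → F)}
    (hD : Geo.IsNondegenerateMDecomposition (hermForm n F q) k D) (hle : H ≤ Geo.decompositionStabilizer D) :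
    InGU q H :=
  ⟨_, Or.inl <| Or.inr <| Or.inr <| Or.inl ⟨t, k, D, hD, rfl⟩, le_inf hle hH⟩

theorem inGU_pair (hH : H ≤ GU n F q) {k : ℕ} {D : Fin 2 → Submodule F (Fin n → F)}
    (hD : Geo.IsMDecomposition k D) (hts : ∀ i, Geo.IsTotallySingularFor (hermForm n F q) (D i))
    (hle : H ≤ Geo.decompositionStabilizer D) : InGU q H :=
  ⟨_, Or.inl <| Or.inr <| Or.inr <| Or.inr <| Or.inl
    ⟨k, D, (finrank_of_pair hD).trans (Fintype.card_fin n), hD, hts, rfl⟩, le_inf hle hH⟩

theorem inGU_field (hH : H ≤ GU n F q) {r : ℕ} {K : Subalgebra F (Matrix (Fin n) (Fin n) F)} (hr : r.Prime)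
    (hodd : Odd r) (hK : Geo.IsFieldSubalgebra r K) (hac : Geo.IsAdjointClosedFor (hermForm n F q) K)
    (hle : H ≤ Geo.subalgebraNormalizer K) : InGU q H :=
  ⟨_, Or.inr <| Or.inl ⟨r, K, hr, hodd, hK, hac, rfl⟩, le_inf hle hH⟩

theorem map_eq_of_inv {g : GL (Fin n) F} {X : Submodule F (Fin n → F)} (hg : g ∈ H) (hX : Inv H X) :
    X.map (Matrix.toLin' (g : Matrix (Fin n) (Fin n) F)) = X := by
  refine le_antisymm ?_ fun x hx => ⟨_, hX g⁻¹ (inv_mem hg) x hx, by
    rw [Matrix.toLin'_apply]; exact Aschbacher.mulVec_inv_mulVec g x⟩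
  rintro _ ⟨x, hx, rfl⟩
  exact hX g hg x hx

theorem inGU_reducible (S : UField F q) (hH : H ≤ GU n F q) (hirr : ¬ Irr H) : InGU q H := by
  classical
  simp only [Irr, not_forall, not_or] at hirr
  obtain ⟨W, hW, hWb, hWt⟩ := hirr
  rcases S.herm.subspace_dichotomy (UField.isom hH) hW hWb hWt with
    ⟨U, hU, hU0, -, hts⟩ | ⟨hnd, hndU, hU0, -, hdim, hU⟩
  · exact inGU_singular hH hU0 hts (Aschbacher.inv_le_subspaceStabilizer hU)
  rw [Fintype.card_fin] at hdim
  rcases Nat.lt_trichotomy (2 * finrank F W) n with hlt | heq | hgt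
  · exact inGU_nondeg hH hWb hnd hlt (Aschbacher.inv_le_subspaceStabilizer hW)
  · set U := S.herm.perp W with hUdef
    have hUd : finrank F U = finrank F W := by omega
    have hk : 0 < finrank F W := Nat.pos_of_ne_zero fun e => hWb (Submodule.finrank_eq_zero.mp e)
    have hi : W ⊓ U = ⊥ := by
      rw [Submodule.eq_bot_iff]
      rintro w ⟨hw, hwU⟩
      by_contra h0
      obtain ⟨x, hx, hxw⟩ := (hnd w hw h0).2
      exact hxw (hwU x hx)
    have hs : W ⊔ U = ⊤ := by
      refine Submodule.eq_top_of_finrank_eq ?_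
      have h := Submodule.finrank_sup_add_finrank_inf_eq W U
      rw [hi, finrank_bot] at h
      rw [Module.finrank_pi, Fintype.card_fin]
      omega
    refine inGU_decomp hH (D := ![W, U])
      ⟨isMDecomposition_pair hk rfl hUd hi hs, fun i => ?_, ?_⟩ fun g hg => ⟨1, fun i => ?_⟩
    · fin_cases i
      · exact hnd
      · exact hndU
    · intro i j hij
      fin_cases i <;> fin_cases j <;> simp at hij ⊢
      · exact fun a ha b hb => S.herm.eq_zero_comm (hb a ha)
      · exact fun a ha b hb => ha b hb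
    · fin_cases i
      · exact map_eq_of_inv hg hW
      · exact map_eq_of_inv hg hU
  · exact inGU_nondeg hH hU0 hndU (by omega) (Aschbacher.inv_le_subspaceStabilizer hU)

/-- A normalised commutative reduced algebra, closed under adjoints, other than the scalars. -/
theorem inGU_algebra (S : UField F q) (hn : 1 ≤ n) (hH : H ≤ GU n F q) (hirr : Irr H)
    {Z : Subalgebra F (Matrix (Fin n) (Fin n) F)} (hcomm : ∀ x ∈ Z, ∀ y ∈ Z, x * y = y * x)
    (hred : ∀ z ∈ Z, IsNilpotent z → z = 0) (hadj : ∀ z ∈ Z, (S.data n).adj z ∈ Z)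
    (hZH : ∀ g ∈ H, ∀ z ∈ Z, conjHom g z ∈ Z) (hne : finrank F Z ≠ 1) : InGU q H := by
  classical
  haveI : Nonempty (Fin n) := ⟨⟨0, hn⟩⟩
  have hsim : ∀ g ∈ H, (S.data n).IsSim g := fun g hg => S.isSim_of_mem hH (Subgroup.mem_sup_left hg)
  by_cases hid : ∃ e ∈ Z, e * e = e ∧ e ≠ 0 ∧ e ≠ 1
  · obtain ⟨e, he, hee, h0, h1⟩ := hid
    rcases (S.data n).decomp_of_idempotent hcomm hadj hirr hsim hZH he hee h0 h1 with
      ⟨t, k, D, hD, hle⟩ | ⟨k, D, hD, hts, hle, -⟩
    · exact inGU_decomp hH (S.data_form ▸ hD) hle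
    · exact inGU_pair hH hD (S.data_form ▸ hts) hle
  have hinv := fun x (hx : x ∈ Z) (h0 : x ≠ 0) => inv_of_no_idem hred hid hx h0
  obtain ⟨r, K, hr, hK, hle, hKZ, hKmem⟩ := exists_prime_field' hcomm hinv hZH hne
  have hKadj : ∀ k ∈ K, (S.data n).adj k ∈ K := fun k hk => by
    obtain ⟨hkZ, hkp⟩ := (hKmem k).mp hk
    exact (hKmem _).mpr ⟨hadj k hkZ, by rw [← (S.data n).adj_pow, hkp]⟩
  refine inGU_field hH hr ?_ hK (fun k hk => ⟨_, hKadj k hk, fun u v => ?_⟩) hle
  swap
  · rw [← S.data_form, (S.data n).form_adj]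
  rcases hr.eq_two_or_odd' with h2 | h2
  swap
  · exact h2
  -- a semilinear involution of a quadratic extension
  exfalso
  subst h2
  obtain ⟨hKc, hKi, hKd⟩ := hK
  haveI : Finite (Matrix (Fin n) (Fin n) F) := Pi.finite
  haveI : Finite K := Subtype.finite
  haveI : Nontrivial K := ⟨⟨0, 1, fun h => zero_ne_one (α := Matrix (Fin n) (Fin n) F) (congrArg Subtype.val h)⟩⟩
  have hfld : IsField K :=
    { exists_pair_ne := exists_pair_ne K
      mul_comm := fun x y => Subtype.ext (hKc x x.2 y y.2)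
      mul_inv_cancel := fun {x} hx => by
        obtain ⟨y, hy, hxy⟩ := hKi x x.2 fun h => hx (Subtype.ext h)
        exact ⟨⟨y, hy⟩, Subtype.ext hxy⟩ }
  letI : Field K := hfld.toField
  haveI : Fintype K := Fintype.ofFinite K
  let τ : K →+* K :=
    { toFun := fun x => ⟨(S.data n).adj x, hKadj x x.2⟩
      map_one' := Subtype.ext (S.data n).adj_one
      map_zero' := Subtype.ext (S.data n).adj_zero
      map_add' := fun x y => Subtype.ext ((S.data n).adj_add _ _)
      map_mul' := fun x y => Subtype.ext (by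
        show (S.data n).adj ((x : Matrix (Fin n) (Fin n) F) * y) = _
        rw [(S.data n).adj_mul]
        exact hKc _ (hKadj _ y.2) _ (hKadj _ x.2)) }
  let K₀ : Subfield K := RingHom.eqLocusField τ (RingHom.id K)
  have hK₀mem : ∀ u : K, u ∈ K₀ ↔ τ u = u := fun u => Iff.rfl
  have hτ2 : ∀ x, τ (τ x) = x := fun x => Subtype.ext ((S.data n).adj_adj _)
  have hτc : ∀ c : F, τ (algebraMap F K c) = algebraMap F K (S.σ c) := fun c => Subtype.ext (by
    show (S.data n).adj (algebraMap F (Matrix (Fin n) (Fin n) F) c) = algebraMap F (Matrix (Fin n) (Fin n) F) (S.σ c)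
    rw [Algebra.algebraMap_eq_smul_one, (S.data n).adj_smul, (S.data n).adj_one, Algebra.algebraMap_eq_smul_one]
    rfl)
  obtain ⟨x, hx⟩ : ∃ x, S.σ x ≠ x := by
    by_contra hcon
    push Not at hcon
    exact S.ne_id (RingHom.ext hcon)
  set a := algebraMap F K x with ha
  set b := algebraMap F K (S.σ x) with hb
  have hab : b - a ≠ 0 := sub_ne_zero.mpr fun e => hx ((algebraMap F K).injective e)
  have hτa : τ a = b := hτc x
  have hτb : τ b = a := by rw [← hτa, hτ2]
  let E : K ≃ K₀ × K₀ :=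
    { toFun := fun y => (⟨y + τ y, (hK₀mem _).mpr (by rw [map_add, hτ2, add_comm])⟩,
        ⟨a * y + b * τ y, (hK₀mem _).mpr (by rw [map_add, map_mul, map_mul, hτ2, hτa, hτb, add_comm])⟩)
      invFun := fun p => (b * (p.1 : K) - p.2) / (b - a)
      left_inv := fun y => by
        show (b * (y + τ y) - (a * y + b * τ y)) / (b - a) = y
        rw [show b * (y + τ y) - (a * y + b * τ y) = y * (b - a) by ring, mul_div_cancel_right₀ _ hab]
      right_inv := fun p => by
        obtain ⟨⟨u, hu⟩, ⟨v, hv⟩⟩ := p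
        rw [hK₀mem] at hu hv
        have hab' : a - b ≠ 0 := fun e => hab (by linear_combination -e)
        have hτy : τ ((b * u - v) / (b - a)) = (a * u - v) / (a - b) := by
          rw [map_div₀, map_sub, map_sub, map_mul, hu, hv, hτa, hτb]
        refine Prod.ext (Subtype.ext ?_) (Subtype.ext ?_)
        · show (b * u - v) / (b - a) + τ ((b * u - v) / (b - a)) = u
          rw [hτy]; field_simp; ring
        · show a * ((b * u - v) / (b - a)) + b * τ ((b * u - v) / (b - a)) = v
          rw [hτy]; field_simp; ring }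
  have hcK : Nat.card K = Nat.card F ^ 2 := by rw [Module.natCard_eq_pow_finrank (K := F), hKd]
  have hcard : Nat.card K₀ = Nat.card F := by
    have h1 := Nat.card_congr E
    rw [Nat.card_prod, hcK, ← pow_two] at h1
    exact (Nat.pow_left_injective two_ne_zero h1).symm
  let F₁ : Subfield K := (algebraMap F K).fieldRange
  have hF₁ : Nat.card F₁ = Nat.card F :=
    (Nat.card_congr (Equiv.ofInjective _ (algebraMap F K).injective)).symm
  have hax : a ∈ K₀ := by
    rw [Aschbacher.mem_subfield_iff_pow, hcard, ← hF₁, ← Aschbacher.mem_subfield_iff_pow]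
    exact ⟨x, rfl⟩
  exact hx ((algebraMap F K).injective (((hτa.symm).trans ((hK₀mem _).mp hax))))

end Cfsg.Agent.MaxSub.Asch
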