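import Mathlib
import Cfsg.Agent.MaxSub.Asch.Unitary

/-!
The three-dimensional unitary group over the field with four elements normalises a monomial group of order 27.
-/

set_option autoImplicit false
set_option linter.unusedSectionVars false
set_option linter.unusedSimpArgs false
set_option linter.style.haveILetI false

namespace Cfsg.Agent.MaxSub.Asch.Small

open scoped MatrixGroups Matrix

variable {F : Type*} [Field F] [Fintype F]

theorem card_four (S : UField F 2) : Fintype.card F = 4 := by rw [S.card]; norm_num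

theorem two_eq_zero (S : UField F 2) : (2 : F) = 0 :=
  Aschbacher.two_eq_zero_of_not_odd (by rw [card_four S]; decide)

theorem cube (S : UField F 2) {x : F} (hx : x ≠ 0) : x ^ 3 = 1 := by
  have := FiniteField.pow_card_sub_one_eq_one x hx
  rwa [card_four S] at this

theorem norm_one (S : UField F 2) {x : F} (hx : x ≠ 0) : x * S.σ x = 1 := by
  rw [S.pow, ← pow_succ']; exact cube S hx

theorem exists_omega (S : UField F 2) : ∃ w : F, w ^ 3 = 1 ∧ w ≠ 1 := by
  classical
  obtain ⟨w, hw⟩ : ∃ w : F, w ∉ ({0, 1} : Finset F) := by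
    by_contra hcon
    push Not at hcon
    have h1 := Finset.card_le_card (s := (Finset.univ : Finset F)) (t := {0, 1}) fun x _ => hcon x
    rw [Finset.card_univ, card_four S] at h1
    exact absurd (h1.trans Finset.card_le_two) (by norm_num)
  simp only [Finset.mem_insert, Finset.mem_singleton, not_or] at hw
  exact ⟨w, cube S hw.1, hw.2⟩

theorem sum_eq_zero (S : UField F 2) {a b c : F} (ha : a ≠ 0) (hb : b ≠ 0) (h : a * b * c = 1)
    (hab : a ≠ b) : a + b + c = 0 := by
  have h1 : (a - b) * (a ^ 2 + a * b + b ^ 2) = 0 := by linear_combination cube S ha - cube S hb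
  have h2 := (mul_eq_zero.mp h1).resolve_left (sub_ne_zero.mpr hab)
  refine (mul_eq_zero.mp (show a * b * (a + b + c) = 0 from ?_)).resolve_left (mul_ne_zero ha hb)
  linear_combination h + b * h2 - cube S hb

/-- Unitary matrices. -/
def IsUn (S : UField F 2) (g : Matrix (Fin 3) (Fin 3) F) : Prop := gᵀ * g.map S.σ = 1

theorem IsUn.mul {S : UField F 2} {g h : Matrix (Fin 3) (Fin 3) F} (hg : IsUn S g) (hh : IsUn S h) :
    IsUn S (g * h) := by
  rw [IsUn, Matrix.transpose_mul, Matrix.map_mul,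
    show hᵀ * gᵀ * (g.map S.σ * h.map S.σ) = hᵀ * (gᵀ * g.map S.σ) * h.map S.σ by simp only [mul_assoc],
    show gᵀ * g.map S.σ = 1 from hg, mul_one]
  exact hh

theorem IsUn.rows {S : UField F 2} {g : Matrix (Fin 3) (Fin 3) F} (hg : IsUn S g) (i k : Fin 3) :
    g i 0 * S.σ (g k 0) + g i 1 * S.σ (g k 1) + g i 2 * S.σ (g k 2) = if i = k then 1 else 0 := by
  have h1 := congrArg Matrix.transpose (mul_eq_one_comm.mp (show gᵀ * g.map S.σ = 1 from hg))
  rw [Matrix.transpose_mul, Matrix.transpose_transpose, Matrix.transpose_one] at h1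
  have h2 := congrFun (congrFun h1 i) k
  rw [Matrix.mul_apply, Fin.sum_univ_three, Matrix.one_apply] at h2
  exact h2

/-- A unitary matrix is monomial or has no zero entry. -/
theorem IsUn.dichotomy {S : UField F 2} {g : Matrix (Fin 3) (Fin 3) F} (hg : IsUn S g) :
    (∀ i j, g i j ≠ 0) ∨ ∃ π : Fin 3 → Fin 3, Function.Injective π ∧ ∀ i j, g i j ≠ 0 ↔ j = π i := by
  classical
  have h2 := two_eq_zero S
  have hrow : ∀ i, (∀ j, g i j ≠ 0) ∨ ∃ j, ∀ k, g i k ≠ 0 ↔ k = j := by
    intro i
    have h1 := hg.rows i i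
    rw [if_pos rfl] at h1
    by_cases a0 : g i 0 = 0 <;> by_cases a1 : g i 1 = 0 <;> by_cases a2 : g i 2 = 0
    · simp [a0, a1, a2] at h1
    · exact Or.inr ⟨2, fun k => by fin_cases k <;> simp [a0, a1, a2]⟩
    · exact Or.inr ⟨1, fun k => by fin_cases k <;> simp [a0, a1, a2]⟩
    · exfalso
      simp only [a0, zero_mul, zero_add, norm_one S a1, norm_one S a2] at h1
      exact one_ne_zero (α := F) (by linear_combination h2 - h1)
    · exact Or.inr ⟨0, fun k => by fin_cases k <;> simp [a0, a1, a2]⟩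
    · exfalso
      simp only [a1, zero_mul, add_zero, norm_one S a0, norm_one S a2] at h1
      exact one_ne_zero (α := F) (by linear_combination h2 - h1)
    · exfalso
      simp only [a2, zero_mul, add_zero, norm_one S a0, norm_one S a1] at h1
      exact one_ne_zero (α := F) (by linear_combination h2 - h1)
    · exact Or.inl fun k => by fin_cases k <;> assumption
  have hone : ∀ i j, (∀ k, g i k ≠ 0 ↔ k = j) → ∀ k, k ≠ i → g k j = 0 := by
    intro i j hj k hki
    have h1 := hg.rows i k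
    rw [if_neg hki.symm] at h1
    have hz : ∀ l, l ≠ j → g i l = 0 := fun l hl => not_not.mp fun h => hl ((hj l).mp h)
    have hij : g i j ≠ 0 := (hj j).mpr rfl
    have h3 : g i j * S.σ (g k j) = 0 := by
      fin_cases j <;> simp_all
    exact (map_eq_zero S.σ).mp ((mul_eq_zero.mp h3).resolve_left hij)
  by_cases hex : ∀ i j, g i j ≠ 0
  · exact Or.inl hex
  right
  obtain ⟨i₀, j₀, hj₀⟩ : ∃ i j, ∀ k, g i k ≠ 0 ↔ k = j := by
    push Not at hex
    obtain ⟨i, j, hij⟩ := hex
    exact ⟨i, (hrow i).resolve_left fun h => h j hij⟩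
  have hall : ∀ i, ∃ j, ∀ k, g i k ≠ 0 ↔ k = j := fun i => (hrow i).resolve_left fun h => by
    rcases eq_or_ne i i₀ with rfl | hne
    · obtain ⟨k, hk⟩ : ∃ k, k ≠ j₀ := exists_ne j₀
      exact hk ((hj₀ k).mp (h k))
    · exact h j₀ (hone i₀ j₀ hj₀ i hne)
  choose π hπ using hall
  refine ⟨π, fun i k hik => by_contra fun hne => ?_, hπ⟩
  exact (hπ k (π k)).mpr rfl (hik ▸ hone i (π i) (hπ i) k (Ne.symm hne))

/-- A monomial matrix over a translation. -/
def mono (c : Fin 3) (v : Fin 3 → F) : Matrix (Fin 3) (Fin 3) F := Matrix.of fun i j => if j = i + c then v i else 0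

theorem mono_mul (c c' : Fin 3) (v v' : Fin 3 → F) : mono c v * mono c' v' = mono (c + c') fun i => v i * v' (i + c) := by
  ext i j
  simp only [mono, Matrix.mul_apply, Matrix.of_apply]
  rw [Finset.sum_eq_single (i + c)]
  · simp [add_assoc]
  · intro k _ hk; simp [hk]
  · simp

theorem mono_det (c : Fin 3) (v : Fin 3 → F) : (mono c v).det = v 0 * v 1 * v 2 := by
  fin_cases c <;> simp [mono, Matrix.det_fin_three]

/-- The monomial matrices of the group of order 27. -/
def Mono3 (x : Matrix (Fin 3) (Fin 3) F) : Prop :=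
  ∃ (c : Fin 3) (v : Fin 3 → F), (∀ i, v i ≠ 0) ∧ v 0 * v 1 * v 2 = 1 ∧ x = mono c v

theorem prod_shift (c : Fin 3) (v : Fin 3 → F) : v (0 + c) * v (1 + c) * v (2 + c) = v 0 * v 1 * v 2 := by
  fin_cases c <;> simp <;> ring

/-- The group of order 27. -/
def group3 (F : Type*) [Field F] [Fintype F] : Subgroup (GL (Fin 3) F) where
  carrier := {x | Mono3 (x : Matrix (Fin 3) (Fin 3) F)}
  one_mem' := ⟨0, fun _ => 1, fun _ => one_ne_zero, by simp, by
    ext i j; simp [mono, Matrix.one_apply, eq_comm]⟩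
  mul_mem' := fun {a b} ha hb => by
    obtain ⟨c, v, hv, hp, he⟩ := ha
    obtain ⟨c', v', hv', hp', he'⟩ := hb
    refine ⟨c + c', fun i => v i * v' (i + c), fun i => mul_ne_zero (hv i) (hv' _), ?_, by
      rw [Units.val_mul, he, he', mono_mul]⟩
    calc v 0 * v' (0 + c) * (v 1 * v' (1 + c)) * (v 2 * v' (2 + c))
        = v 0 * v 1 * v 2 * (v' (0 + c) * v' (1 + c) * v' (2 + c)) := by ring
      _ = 1 := by rw [hp, prod_shift, hp', one_mul]
  inv_mem' := fun {a} ha => by
    obtain ⟨c, v, hv, hp, he⟩ := ha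
    refine ⟨-c, fun i => (v (i + -c))⁻¹, fun i => inv_ne_zero (hv _), ?_, ?_⟩
    · rw [← mul_inv, ← mul_inv, prod_shift, hp, inv_one]
    · refine Units.inv_eq_of_mul_eq_one_right ?_
      rw [he, mono_mul, add_neg_cancel]
      ext i j
      simp [mono, Matrix.one_apply, eq_comm, hv]

theorem mono_isUn (S : UField F 2) (c : Fin 3) {v : Fin 3 → F} (hv : ∀ i, v i ≠ 0) : IsUn S (mono c v) := by
  ext j k
  simp only [Matrix.mul_apply, Matrix.transpose_apply, Matrix.map_apply, mono, Matrix.of_apply, Matrix.one_apply]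
  rw [Finset.sum_eq_single (j - c)]
  · rw [if_pos (sub_add_cancel j c).symm, sub_add_cancel]
    by_cases h : k = j
    · rw [if_pos h, if_pos h.symm, norm_one S (hv _)]
    · rw [if_neg h, if_neg (Ne.symm h), map_zero, mul_zero]
  · intro b _ hb
    rw [if_neg fun h => hb (by rw [h, add_sub_cancel_right]), zero_mul]
  · simp

theorem mem_group3_unitary (S : UField F 2) {x : GL (Fin 3) F} (hx : x ∈ group3 F) :
    IsUn S (x : Matrix (Fin 3) (Fin 3) F) := by
  obtain ⟨c, v, hv, -, he⟩ := hx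
  rw [he]; exact mono_isUn S c hv

theorem derangement : ∀ π : Fin 3 → Fin 3, (∀ i k, π i = π k → i = k) → (∀ i, π i ≠ i) →
    ∃ c : Fin 3, c ≠ 0 ∧ ∀ i, π i = i + c := by decide

/-- A unitary matrix with zero diagonal and determinant one. -/
theorem mono_of_zero_diag {S : UField F 2} {u : Matrix (Fin 3) (Fin 3) F} (hu : IsUn S u) (hd : ∀ i, u i i = 0)
    (hdet : u.det = 1) : ∃ (c : Fin 3) (v : Fin 3 → F), c ≠ 0 ∧ (∀ i, v i ≠ 0) ∧ v 0 * v 1 * v 2 = 1 ∧ u = mono c v := by
  rcases hu.dichotomy with h | ⟨π, hπi, hπ⟩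
  · exact absurd (hd 0) (h 0 0)
  obtain ⟨c, hc, hπc⟩ := derangement π (fun i k h => hπi h) fun i h => (hπ i i).mpr h.symm (hd i)
  have he : u = mono c fun i => u i (π i) := by
    ext i j
    simp only [mono, Matrix.of_apply, ← hπc]
    by_cases h : j = π i
    · rw [if_pos h, h]
    · rw [if_neg h]; exact not_not.mp fun h' => h ((hπ i j).mp h')
  refine ⟨c, fun i => u i (π i), hc, fun i => (hπ i _).mpr rfl, ?_, he⟩
  rwa [he, mono_det] at hdet

theorem conj_det (g : GL (Fin 3) F) (x : Matrix (Fin 3) (Fin 3) F) :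
    ((g : Matrix (Fin 3) (Fin 3) F) * x * ((g⁻¹ : GL (Fin 3) F) : Matrix (Fin 3) (Fin 3) F)).det = x.det := by
  rw [Matrix.det_mul, Matrix.det_mul, mul_right_comm, ← Matrix.det_mul, Units.mul_inv, Matrix.det_one, one_mul]

theorem inv_isUn {S : UField F 2} {g : GL (Fin 3) F} (hg : IsUn S (g : Matrix (Fin 3) (Fin 3) F)) :
    IsUn S ((g⁻¹ : GL (Fin 3) F) : Matrix (Fin 3) (Fin 3) F) ∧
      ((g⁻¹ : GL (Fin 3) F) : Matrix (Fin 3) (Fin 3) F) = ((g : Matrix (Fin 3) (Fin 3) F).map S.σ)ᵀ := by
  have h1 : ((g : Matrix (Fin 3) (Fin 3) F).map S.σ)ᵀ * (g : Matrix (Fin 3) (Fin 3) F) = 1 := by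
    have := congrArg Matrix.transpose (show _ * _ = (1 : Matrix (Fin 3) (Fin 3) F) from hg)
    rwa [Matrix.transpose_mul, Matrix.transpose_transpose, Matrix.transpose_one] at this
  have h2 : ((g⁻¹ : GL (Fin 3) F) : Matrix (Fin 3) (Fin 3) F) = ((g : Matrix (Fin 3) (Fin 3) F).map S.σ)ᵀ :=
    (Units.eq_inv_of_mul_eq_one_left (mul_eq_one_comm.mp h1)).symm
  refine ⟨?_, h2⟩
  have hσσ : ((g : Matrix (Fin 3) (Fin 3) F).map S.σ).map S.σ = g := by ext i j; simp [S.invol]
  rw [IsUn, h2, Matrix.transpose_transpose, Matrix.transpose_map, hσσ]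
  exact mul_eq_one_comm.mp (show _ * _ = (1 : Matrix (Fin 3) (Fin 3) F) from hg)

/-- Conjugates of the diagonal elements by unitary matrices. -/
theorem conj_diag {S : UField F 2} {g : GL (Fin 3) F} (hg : IsUn S (g : Matrix (Fin 3) (Fin 3) F)) {v : Fin 3 → F}
    (hv : ∀ i, v i ≠ 0) (hp : v 0 * v 1 * v 2 = 1) :
    Mono3 ((g : Matrix (Fin 3) (Fin 3) F) * mono 0 v * ((g⁻¹ : GL (Fin 3) F) : Matrix (Fin 3) (Fin 3) F)) := by
  classical
  set gm := (g : Matrix (Fin 3) (Fin 3) F) with hgm
  obtain ⟨hgi, hgiv⟩ := inv_isUn hg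
  set u := gm * mono 0 v * ((g⁻¹ : GL (Fin 3) F) : Matrix (Fin 3) (Fin 3) F) with hu
  have hent : ∀ i k, u i k = ∑ j, gm i j * v j * S.σ (gm k j) := by
    intro i k
    rw [hu, hgiv]
    simp only [Matrix.mul_apply, Matrix.transpose_apply, Matrix.map_apply, mono, Matrix.of_apply, add_zero]
    refine Finset.sum_congr rfl fun j _ => ?_
    rw [Finset.sum_eq_single j] <;> simp +contextual [eq_comm, hgm]
  have huu : IsUn S u := (hg.mul (mono_isUn S 0 hv)).mul hgi
  have hudet : u.det = 1 := by rw [hu, hgm, conj_det, mono_det, hp]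
  rcases hg.dichotomy with hfull | ⟨π, hπi, hπ⟩
  · by_cases hconst : v 0 = v 1 ∧ v 1 = v 2
    · refine ⟨0, v, hv, hp, ?_⟩
      have he : mono 0 v = v 0 • (1 : Matrix (Fin 3) (Fin 3) F) := by
        ext i j; fin_cases i <;> fin_cases j <;> simp [mono, Matrix.one_apply, hconst.1, hconst.2]
      rw [hu, he, Matrix.mul_smul, mul_one, Matrix.smul_mul, Units.mul_inv]
    · have hd : ∀ i, u i i = 0 := fun i => by
        rw [hent, Fin.sum_univ_three, mul_right_comm (gm i 0), mul_right_comm (gm i 1), mul_right_comm (gm i 2),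
          norm_one S (hfull i 0), norm_one S (hfull i 1), norm_one S (hfull i 2), one_mul, one_mul, one_mul]
        by_cases h01 : v 0 = v 1
        · have := sum_eq_zero S (hv 1) (hv 2) (c := v 0) (by linear_combination hp) fun h => hconst ⟨h01, h⟩
          linear_combination this
        · exact sum_eq_zero S (hv 0) (hv 1) hp h01
      obtain ⟨c, w, -, hw, hwp, hwe⟩ := mono_of_zero_diag huu hd hudet
      exact ⟨c, w, hw, hwp, hwe⟩
  · let e : Fin 3 ≃ Fin 3 := Equiv.ofBijective π (Finite.injective_iff_bijective.mp hπi)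
    refine ⟨0, fun i => v (π i), fun i => hv _, ?_, ?_⟩
    · have h1 := e.prod_comp v
      rw [Fin.prod_univ_three, Fin.prod_univ_three] at h1
      exact h1.trans hp
    · ext i k
      rw [hent, Finset.sum_eq_single (π i)]
      · simp only [mono, Matrix.of_apply, add_zero]
        by_cases h : k = i
        · subst h
          rw [if_pos rfl, mul_right_comm, norm_one S ((hπ k _).mpr rfl), one_mul]
        · rw [if_neg h, show gm k (π i) = 0 from not_not.mp fun h' => h (hπi ((hπ k _).mp h')).symm, map_zero, mul_zero]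
      · intro j _ hj
        rw [show gm i j = 0 from not_not.mp fun h' => hj ((hπ i j).mp h'), zero_mul, zero_mul]
      · simp

/-- An eigenvector matrix of a monomial element over a non-trivial translation. -/
def fourier (w : F) (c : Fin 3) (v : Fin 3 → F) : Matrix (Fin 3) (Fin 3) F :=
  Matrix.of fun i j => if i = 0 then 1 else if i = c then w ^ (j : ℕ) / v 0 else (w ^ (j : ℕ)) ^ 2 / (v 0 * v c)

theorem fourier_spec (S : UField F 2) {w : F} (hw : w ^ 3 = 1) (hw1 : w ≠ 1) {c : Fin 3} (hc : c ≠ 0) {v : Fin 3 → F}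
    (hv : ∀ i, v i ≠ 0) (hp : v 0 * v 1 * v 2 = 1) :
    IsUn S (fourier w c v) ∧ mono c v * fourier w c v = fourier w c v * mono 0 (fun j : Fin 3 => w ^ (j : ℕ)) ∧
      ∀ i j, fourier w c v i j ≠ 0 := by
  have hw0 : w ≠ 0 := by rintro rfl; simp at hw
  have h2 := two_eq_zero S
  have hs : 1 + w + w ^ 2 = 0 := (mul_eq_zero.mp (show (w - 1) * (1 + w + w ^ 2) = 0 by linear_combination hw)).resolve_left
    (sub_ne_zero.mpr hw1)
  have n1 : ∀ a : F, a ≠ 0 → a ^ 3 = 1 := fun a ha => cube S ha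
  refine ⟨?_, ?_, fun i j => ?_⟩
  · have key : ∀ (j k : Fin 3) (x : F), x ≠ 0 → ∀ y : F, y ≠ 0 →
        1 + w ^ (j : ℕ) / x * S.σ (w ^ (k : ℕ) / x) + (w ^ (j : ℕ)) ^ 2 / y * S.σ ((w ^ (k : ℕ)) ^ 2 / y) =
          if j = k then 1 else 0 := by
      intro j k x hx y hy
      simp only [S.pow]
      have e1 : w ^ (j : ℕ) / x * (w ^ (k : ℕ) / x) ^ 2 = w ^ ((j : ℕ) + 2 * (k : ℕ)) := by
        rw [div_pow, div_mul_div_comm, ← pow_succ', n1 x hx, div_one, ← pow_mul, ← pow_add, mul_comm (k : ℕ)]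
      have e2 : (w ^ (j : ℕ)) ^ 2 / y * ((w ^ (k : ℕ)) ^ 2 / y) ^ 2 = w ^ (2 * (j : ℕ) + 4 * (k : ℕ)) := by
        rw [div_pow, div_mul_div_comm, ← pow_succ', n1 y hy, div_one, ← pow_mul, ← pow_mul, ← pow_mul, ← pow_add]
        ring_nf
      rw [e1, e2]
      have h4 : w ^ 4 = w := by linear_combination w * hw
      fin_cases j <;> fin_cases k <;> simp <;> ring_nf <;> simp [pow_succ, pow_zero] at * <;> grind
    ext j k
    simp only [Matrix.mul_apply, Matrix.transpose_apply, Matrix.map_apply, fourier, Matrix.of_apply, Matrix.one_apply,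
      Fin.sum_univ_three]
    fin_cases c
    · exact absurd rfl hc
    · simpa using key j k (v 0) (hv 0) (v 0 * v 1) (mul_ne_zero (hv 0) (hv 1))
    · have := key j k (v 0) (hv 0) (v 0 * v 2) (mul_ne_zero (hv 0) (hv 2))
      simp only [Fin.reduceFinMk, Fin.isValue, Fin.reduceEq, if_false, if_true, map_one, mul_one]
      linear_combination this
  · ext i j
    simp only [Matrix.mul_apply, mono, fourier, Matrix.of_apply, Fin.sum_univ_three]
    have hl : (w ^ (j : ℕ)) ^ 3 = 1 := n1 _ (pow_ne_zero _ hw0)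
    fin_cases c
    · exact absurd rfl hc
    all_goals
      fin_cases i <;> fin_cases j <;> simp <;> field_simp [hv 0, hv 1, hv 2] <;> grind
  · simp only [fourier, Matrix.of_apply]
    split_ifs <;> simp [hv, hw0, pow_ne_zero]

theorem conj_mem (S : UField F 2) {g x : GL (Fin 3) F} (hg : IsUn S (g : Matrix (Fin 3) (Fin 3) F)) (hx : x ∈ group3 F) :
    g * x * g⁻¹ ∈ group3 F := by
  obtain ⟨c, v, hv, hp, he⟩ := hx
  show Mono3 _
  by_cases hc : c = 0
  · subst hc
    rw [Units.val_mul, Units.val_mul, he]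
    exact conj_diag hg hv hp
  obtain ⟨w, hw, hw1⟩ := exists_omega S
  have hw0 : w ≠ 0 := by rintro rfl; simp at hw
  obtain ⟨hun, hconj, -⟩ := fourier_spec S hw hw1 hc hv hp
  let h : GL (Fin 3) F := ⟨fourier w c v, ((fourier w c v).map S.σ)ᵀ, by
    refine mul_eq_one_comm.mp ?_
    have := congrArg Matrix.transpose (show _ * _ = (1 : Matrix (Fin 3) (Fin 3) F) from hun)
    rwa [Matrix.transpose_mul, Matrix.transpose_transpose, Matrix.transpose_one] at this, by
    have := congrArg Matrix.transpose (show _ * _ = (1 : Matrix (Fin 3) (Fin 3) F) from hun)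
    rwa [Matrix.transpose_mul, Matrix.transpose_transpose, Matrix.transpose_one] at this⟩
  have := conj_diag (g := g * h) (hg.mul hun) (v := fun j : Fin 3 => w ^ (j : ℕ)) (fun j => pow_ne_zero _ hw0) (by
    simp only [Fin.val_zero, Fin.val_one, Fin.val_two, pow_zero, pow_one]
    linear_combination hw)
  convert this using 1
  have e : (h : Matrix (Fin 3) (Fin 3) F) * mono 0 (fun j : Fin 3 => w ^ (j : ℕ)) * ((h⁻¹ : GL (Fin 3) F) : Matrix _ _ F) =
      (x : Matrix (Fin 3) (Fin 3) F) := by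
    show fourier w c v * _ * _ = _
    rw [← hconj, mul_assoc, ← he]
    show _ * ((h : Matrix (Fin 3) (Fin 3) F) * _) = _
    rw [Units.mul_inv, mul_one]
  rw [Units.val_mul, Units.val_mul, ← e, mul_inv_rev, Units.val_mul, Units.val_mul]
  simp [mul_assoc]

theorem pow_three (S : UField F 2) {x : GL (Fin 3) F} (hx : x ∈ group3 F) : x ^ 3 = 1 := by
  obtain ⟨c, v, hv, hp, he⟩ := hx
  refine Units.ext ?_
  rw [Units.val_pow_eq_pow_val, he, pow_succ, pow_two, mono_mul, mono_mul, Units.val_one]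
  ext i j
  simp only [mono, Matrix.of_apply, Matrix.one_apply]
  fin_cases c <;> fin_cases i <;> fin_cases j <;> simp <;>
    first | linear_combination hp | linear_combination cube S (hv 0) | linear_combination cube S (hv 1) |
      linear_combination cube S (hv 2)

/-- Commutators in the group are scalars. -/
theorem comm_scalar (S : UField F 2) {x y : GL (Fin 3) F} (hx : x ∈ group3 F) (hy : y ∈ group3 F) :
    ∃ k : F, k ≠ 0 ∧ (x : Matrix (Fin 3) (Fin 3) F) * (y : Matrix (Fin 3) (Fin 3) F) =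
      k • ((y : Matrix (Fin 3) (Fin 3) F) * (x : Matrix (Fin 3) (Fin 3) F)) := by
  obtain ⟨c, v, hv, hp, he⟩ := hx
  obtain ⟨c', v', hv', hp', he'⟩ := hy
  have hne : v' 0 * v (0 + c') ≠ 0 := mul_ne_zero (hv' 0) (hv _)
  refine ⟨v 0 * v' (0 + c) / (v' 0 * v (0 + c')), div_ne_zero (mul_ne_zero (hv 0) (hv' _)) hne, ?_⟩
  rw [he, he', mono_mul, mono_mul, add_comm c' c]
  ext i j
  simp only [mono, Matrix.of_apply, Matrix.smul_apply, smul_eq_mul, mul_ite, mul_zero]
  split_ifs with h
  · have k0 := cube S (hv 0); have k1 := cube S (hv 1); have k2 := cube S (hv 2)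
    have l0 := cube S (hv' 0); have l1 := cube S (hv' 1); have l2 := cube S (hv' 2)
    rw [div_mul_eq_mul_div, eq_div_iff hne]
    fin_cases c <;> fin_cases c' <;> fin_cases i <;> simp <;> grind
  · rfl

theorem single_mem (S : UField F 2) (a b : Fin 3) :
    Matrix.single a b (1 : F) ∈ Algebra.adjoin F (Geo.matrixSet (group3 F)) := by
  obtain ⟨w, hw, hw1⟩ := exists_omega S
  have hw0 : w ≠ 0 := by rintro rfl; simp at hw
  have hs : 1 + w + w ^ 2 = 0 := (mul_eq_zero.mp (show (w - 1) * (1 + w + w ^ 2) = 0 by linear_combination hw)).resolve_left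
    (sub_ne_zero.mpr hw1)
  have h2 := two_eq_zero S
  have hmem : ∀ (c : Fin 3) (v : Fin 3 → F), (∀ i, v i ≠ 0) → v 0 * v 1 * v 2 = 1 →
      mono c v ∈ Algebra.adjoin F (Geo.matrixSet (group3 F)) := by
    intro c v hv hp
    exact Algebra.subset_adjoin ⟨Matrix.GeneralLinearGroup.mkOfDetNeZero (mono c v) (by rw [mono_det, hp]; exact one_ne_zero),
      ⟨c, v, hv, hp, rfl⟩, rfl⟩
  set Y : Matrix (Fin 3) (Fin 3) F := mono 0 fun j => w ^ (j : ℕ) with hY
  have hYm : Y ∈ Algebra.adjoin F (Geo.matrixSet (group3 F)) := hmem 0 _ (fun j => pow_ne_zero _ hw0) (by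
    simp only [Fin.val_zero, Fin.val_one, Fin.val_two, pow_zero, pow_one]
    linear_combination hw)
  have hE : Matrix.single a a (1 : F) =
      1 + (w ^ (a : ℕ))⁻¹ • Y + ((w ^ (a : ℕ))⁻¹) ^ 2 • (Y * Y) := by
    have hwi : w⁻¹ = w ^ 2 := inv_eq_of_mul_eq_one_right (by linear_combination hw)
    rw [hY, mono_mul]
    ext i j
    simp only [Matrix.add_apply, Matrix.smul_apply, Matrix.one_apply, Matrix.single_apply, mono, Matrix.of_apply,
      smul_eq_mul, ← inv_pow, hwi]
    fin_cases a <;> fin_cases i <;> fin_cases j <;> simp <;> grind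
  have h1 : Matrix.single a a (1 : F) ∈ Algebra.adjoin F (Geo.matrixSet (group3 F)) := by
    rw [hE]
    exact add_mem (add_mem (one_mem _) (Subalgebra.smul_mem _ hYm _)) (Subalgebra.smul_mem _ (mul_mem hYm hYm) _)
  have h3 : Matrix.single a b (1 : F) = Matrix.single a a (1 : F) * mono (b - a) (fun _ => 1) := by
    ext i j
    simp only [Matrix.mul_apply, Matrix.single_apply, mono, Matrix.of_apply]
    rw [Finset.sum_eq_single a]
    · by_cases h : a = i
      · subst h; by_cases hb : b = j <;> simp [hb, eq_comm]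
      · simp [h]
    · intro x _ hx; simp [Ne.symm hx]
    · simp
  rw [h3]
  exact mul_mem h1 (hmem _ _ (fun _ => one_ne_zero) (by simp))

/-- A non-scalar element is moved to a non-commuting one. -/
theorem exists_noncommuting (S : UField F 2) {x : GL (Fin 3) F} (hx : x ∈ group3 F)
    (hns : x ∉ Geo.scalars (Fin 3) F) :
    ∃ h : GL (Fin 3) F, IsUn S (h : Matrix (Fin 3) (Fin 3) F) ∧ x * (h * x * h⁻¹) ≠ (h * x * h⁻¹) * x := by
  classical
  obtain ⟨c, v, hv, hp, he⟩ := hx
  obtain ⟨w, hw, hw1⟩ := exists_omega S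
  have hw0 : w ≠ 0 := by rintro rfl; simp at hw
  by_cases hc : c = 0
  · subst hc
    obtain ⟨hun, -, hfull⟩ := fourier_spec S hw hw1 (show (1 : Fin 3) ≠ 0 by decide) (v := fun _ => 1)
      (fun _ => one_ne_zero) (by simp)
    let h : GL (Fin 3) F := Matrix.GeneralLinearGroup.mkOfDetNeZero (fourier w 1 fun _ => 1) fun h0 => by
      have := congrArg Matrix.det (show _ * _ = (1 : Matrix (Fin 3) (Fin 3) F) from hun)
      rw [Matrix.det_mul, Matrix.det_transpose, h0, zero_mul, Matrix.det_one] at this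
      exact zero_ne_one this
    have hnconst : ¬ (v 0 = v 1 ∧ v 1 = v 2) := fun hcon => hns (Aschbacher.mem_scalars_of_smul (c := v 0) (by
      rw [he]; ext i j; fin_cases i <;> fin_cases j <;> simp [mono, Matrix.one_apply, hcon.1, hcon.2]))
    refine ⟨h, hun, fun hcomm => ?_⟩
    obtain ⟨hhi, hhiv⟩ := inv_isUn (g := h) hun
    set u := ((h * x * h⁻¹ : GL (Fin 3) F) : Matrix (Fin 3) (Fin 3) F) with hu
    have hd : ∀ i, u i i = 0 := fun i => by
      rw [hu, Units.val_mul, Units.val_mul, hhiv, he]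
      simp only [Matrix.mul_apply, Matrix.transpose_apply, Matrix.map_apply, mono, Matrix.of_apply, add_zero,
        Fin.sum_univ_three]
      simp only [Fin.reduceEq, if_false, if_true, mul_zero, add_zero, zero_add, Fin.isValue]
      rw [mul_right_comm ((h : Matrix (Fin 3) (Fin 3) F) i 0), mul_right_comm ((h : Matrix (Fin 3) (Fin 3) F) i 1),
        mul_right_comm ((h : Matrix (Fin 3) (Fin 3) F) i 2), norm_one S, norm_one S, norm_one S, one_mul, one_mul, one_mul]
      · by_cases h01 : v 0 = v 1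
        · linear_combination sum_eq_zero S (hv 1) (hv 2) (c := v 0) (by linear_combination hp)
            fun h' => hnconst ⟨h01, h'⟩
        · exact sum_eq_zero S (hv 0) (hv 1) hp h01
      all_goals exact hfull _ _
    have huu : IsUn S u := by
      rw [hu, Units.val_mul, Units.val_mul, he]
      exact (IsUn.mul hun (mono_isUn S 0 hv)).mul hhi
    obtain ⟨c', v', hc', hv', -, hue⟩ := mono_of_zero_diag huu hd (by
      rw [hu, Units.val_mul, Units.val_mul, conj_det, he, mono_det, hp])
    have key : ∀ i, v i = v (i + c') := fun i => by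
      have h0 : (x : Matrix (Fin 3) (Fin 3) F) * u = u * (x : Matrix (Fin 3) (Fin 3) F) := by
        rw [hu]; exact congrArg Units.val hcomm
      rw [he, hue, mono_mul, mono_mul] at h0
      have h1 := congrFun (congrFun h0 i) (i + c')
      simp [mono] at h1
      exact mul_right_cancel₀ (hv' i) (by linear_combination h1)
    refine hnconst ?_
    fin_cases c'
    · exact absurd rfl hc'
    · exact ⟨key 0, key 1⟩
    · exact ⟨(key 1).symm, (key 2).symm⟩
  · let d : Fin 3 → F := fun i => if i = 0 then w else 1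
    have hd : ∀ i, d i ≠ 0 := fun i => by simp only [d]; split_ifs <;> simp [hw0]
    let h : GL (Fin 3) F := Matrix.GeneralLinearGroup.mkOfDetNeZero (mono 0 d) (by
      rw [mono_det]; exact mul_ne_zero (mul_ne_zero (hd 0) (hd 1)) (hd 2))
    refine ⟨h, mono_isUn S 0 hd, fun hcomm => hw1 ?_⟩
    have hinv : ((h⁻¹ : GL (Fin 3) F) : Matrix (Fin 3) (Fin 3) F) = mono 0 fun i => (d i)⁻¹ := by
      refine Units.inv_eq_of_mul_eq_one_right ?_
      show mono 0 d * _ = 1
      rw [mono_mul]
      ext i j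
      simp [mono, Matrix.one_apply, hd, eq_comm]
    have h1 := congrArg Units.val hcomm
    simp only [Units.val_mul, he, hinv, show (h : Matrix (Fin 3) (Fin 3) F) = mono 0 d from rfl, mono_mul] at h1
    have hs : 1 + w + w ^ 2 = 0 := (mul_eq_zero.mp (show (w - 1) * (1 + w + w ^ 2) = 0 by linear_combination hw)).resolve_left
      (sub_ne_zero.mpr hw1)
    have h2 := two_eq_zero S
    have k0 := congrFun (congrFun h1 0) (0 + (c + c))
    have k1 := congrFun (congrFun h1 1) (1 + (c + c))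
    fin_cases c
    · exact absurd rfl hc
    all_goals
      simp [mono, d] at k0 k1
      grind

end Cfsg.Agent.MaxSub.Asch.Small
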