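import Mathlib
import Cfsg.Agent.MaxSub.Asch.Unitary
import Cfsg.Agent.MaxSub.Asch.SymplecticTensor
import Cfsg.Agent.MaxSub.Asch.Rationality

/-!
Subfield groups of the unitary groups.
-/

set_option autoImplicit false
set_option linter.unusedSectionVars false
set_option linter.style.haveILetI false

namespace Cfsg.Agent.MaxSub.Asch

open scoped MatrixGroups Matrix
open Module
open Cfsg.Agent.Aschbacher (NormalIn Inv Irr Rational)

/-- The invariant Gram matrix of a rational group of similitudes is rational up to a scalar. -/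
theorem exists_rational_gram_sim {ι : Type} [Fintype ι] [DecidableEq ι] [Nonempty ι] {F : Type*} [Field F] [Fintype F]
    {σ : F →+* F} (hσ2 : ∀ a, σ (σ a) = a) {G₀ : Matrix ι ι F} (hu₀ : IsUnit G₀) {F₁ : Subfield F} {B : GL ι F}
    {P : Subgroup (GL ι F)} (habs : Geo.ActsAbsolutelyIrreducibly (Geo.matrixSet P))
    (hP : ∀ s ∈ P, ∃ l ∈ F₁, l ≠ 0 ∧ (s : Matrix ι ι F)ᵀ * G₀ * (s : Matrix ι ι F).map σ = l • G₀)
    (hrat : ∀ s ∈ P, Rational F₁ ((B * s * B⁻¹ : GL ι F) : Matrix ι ι F)) :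
    ∃ c : F, c ≠ 0 ∧ Rational F₁ (c • (((B⁻¹ : GL ι F) : Matrix ι ι F)ᵀ * G₀ *
      ((B⁻¹ : GL ι F) : Matrix ι ι F).map σ)) := by
  classical
  set Bi : Matrix ι ι F := ((B⁻¹ : GL ι F) : Matrix ι ι F) with hBi
  set Bm : Matrix ι ι F := (B : Matrix ι ι F) with hBm
  set G := Biᵀ * G₀ * Bi.map σ with hG
  choose l hlF hl0 hl using hP
  have hGu : IsUnit G :=
    (((Matrix.isUnit_transpose (A := Bi)).mpr (B⁻¹).isUnit).mul hu₀).mul ((B⁻¹).isUnit.map σ.mapMatrix)
  set t : P → GL ι F := fun s => B * (s : GL ι F) * B⁻¹ with ht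
  set b : P → Matrix ι ι F := fun s => l s s.2 • (((t s)⁻¹ : GL ι F) : Matrix ι ι F)ᵀ with hb
  have hrel : ∀ s : P, G * (t s : Matrix ι ι F).map σ = b s * G := by
    intro s
    have e1 : Bi * (t s : Matrix ι ι F) = ((s : GL ι F) : Matrix ι ι F) * Bi := by
      rw [hBi, ht, ← Units.val_mul, ← Units.val_mul]; congr 1; group
    have h1 : (t s : Matrix ι ι F)ᵀ * G * (t s : Matrix ι ι F).map σ = l s s.2 • G := by
      calc _ = (Bi * (t s : Matrix ι ι F))ᵀ * G₀ * (Bi * (t s : Matrix ι ι F)).map σ := by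
            rw [hG, Matrix.transpose_mul, Matrix.map_mul]; simp only [mul_assoc]
        _ = Biᵀ * (((s : GL ι F) : Matrix ι ι F)ᵀ * G₀ * ((s : GL ι F) : Matrix ι ι F).map σ) * Bi.map σ := by
              rw [e1, Matrix.transpose_mul, Matrix.map_mul]; simp only [mul_assoc]
        _ = _ := by rw [hl s s.2, Matrix.mul_smul, Matrix.smul_mul]
    have h2 := congrArg ((((t s)⁻¹ : GL ι F) : Matrix ι ι F)ᵀ * ·) h1
    simp only [← mul_assoc, ← Matrix.transpose_mul, Units.mul_inv, Matrix.transpose_one, one_mul] at h2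
    rw [h2, hb, Matrix.mul_smul, Matrix.smul_mul]
  have huniq : ∀ y : Matrix ι ι F, (∀ s : P, y * (t s : Matrix ι ι F).map σ = b s * y) → ∃ c : F, y = c • G := by
    intro y hy
    obtain ⟨u, hu⟩ := hGu
    set X := ((u⁻¹ : GL ι F) : Matrix ι ι F) * y with hX
    have hσσ : ∀ M : Matrix ι ι F, (M.map σ).map σ = M := fun M => by ext i j; simp [hσ2]
    have hXc : ∀ s : P, X.map σ * (t s : Matrix ι ι F) = (t s : Matrix ι ι F) * X.map σ := by
      intro s
      have h3 : ((u⁻¹ : GL ι F) : Matrix ι ι F) * b s = (t s : Matrix ι ι F).map σ * ((u⁻¹ : GL ι F) : Matrix ι ι F) := by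
        have h4 := congrArg (fun M => ((u⁻¹ : GL ι F) : Matrix ι ι F) * M * ((u⁻¹ : GL ι F) : Matrix ι ι F)) (hrel s)
        simp only [← hu, ← mul_assoc, Units.inv_mul, one_mul] at h4
        simpa [mul_assoc] using h4.symm
      have h4 : X * (t s : Matrix ι ι F).map σ = (t s : Matrix ι ι F).map σ * X := by
        rw [hX, mul_assoc, hy, ← mul_assoc, h3, mul_assoc]
      have h5 := congrArg (fun M => M.map σ) h4
      simpa [Matrix.map_mul, hσσ] using h5
    obtain ⟨d, hd⟩ := habs.2 (Bi * X.map σ * Bm) (by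
      rintro _ ⟨s, hs, rfl⟩
      show Bi * X.map σ * Bm * (s : Matrix ι ι F) = (s : Matrix ι ι F) * (Bi * X.map σ * Bm)
      have e1 : Bm * (s : Matrix ι ι F) = (t ⟨s, hs⟩ : Matrix ι ι F) * Bm := by
        rw [hBm, ht, ← Units.val_mul, ← Units.val_mul, inv_mul_cancel_right]
      have e2 : Bi * (t ⟨s, hs⟩ : Matrix ι ι F) = (s : Matrix ι ι F) * Bi := by
        rw [hBi, ht, ← Units.val_mul, ← Units.val_mul]; congr 1; group
      rw [mul_assoc, e1, mul_assoc Bi, ← mul_assoc (X.map σ), hXc ⟨s, hs⟩, ← mul_assoc, ← mul_assoc, e2]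
      simp only [mul_assoc])
    have h6 : X.map σ = d • 1 := by
      have := congrArg (fun M => Bm * M * Bi) hd
      simpa [hBm, hBi, mul_assoc] using this
    refine ⟨σ d, ?_⟩
    have h7 : X = σ d • 1 := by
      rw [← hσσ X, h6]; ext i j; simp [Matrix.one_apply, apply_ite σ]
    rw [← hu]
    calc y = (u : Matrix ι ι F) * X := by rw [hX, ← mul_assoc, Units.mul_inv, one_mul]
      _ = _ := by rw [h7, Matrix.mul_smul, mul_one]
  obtain ⟨c, hc, hcr⟩ := Aschbacher.exists_rational_multiple F₁ (fun s : P => (t s : Matrix ι ι F).map σ) b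
    (fun s => (hrat s s.2).map σ) (fun s => by
      have e : (t s)⁻¹ = B * (s : GL ι F)⁻¹ * B⁻¹ := by rw [ht]; group
      intro i j
      show (l s s.2 • (((t s)⁻¹ : GL ι F) : Matrix ι ι F)ᵀ) i j ∈ F₁
      rw [e, Matrix.smul_apply, smul_eq_mul]
      exact mul_mem (hlF s s.2) ((hrat _ (inv_mem s.2)).transpose i j)) hGu.ne_zero hrel huniq
  exact ⟨c, hc, hcr⟩

variable {F : Type*} [Field F] [Fintype F] {n q : ℕ} {H : Subgroup (GL (Fin n) F)}

theorem UField.hilbert90 (S : UField F q) {a : F} (ha : a * S.σ a = 1) {x : F} (hx : S.σ x ≠ x) :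
    ∃ d, d ≠ 0 ∧ S.σ d = a * d ∧ (d = 1 + a⁻¹ ∨ d = x - S.σ x) := by
  have ha0 : a ≠ 0 := left_ne_zero_of_mul_eq_one ha
  have hσa : S.σ a⁻¹ = a := by rw [map_inv₀]; exact inv_eq_of_mul_eq_one_left ha
  by_cases h : a = -1
  · exact ⟨x - S.σ x, sub_ne_zero.mpr (Ne.symm hx), by rw [map_sub, S.invol, h]; ring, Or.inr rfl⟩
  · refine ⟨1 + a⁻¹, fun h0 => h ?_, by rw [map_add, map_one, hσa, mul_add, mul_one, mul_inv_cancel₀ ha0, add_comm],
      Or.inl rfl⟩
    have h1 := congrArg (a * ·) h0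
    simp only [mul_add, mul_one, mul_inv_cancel₀ ha0, mul_zero] at h1
    linear_combination h1

theorem subfieldSubgroup_scalar_mul (F₁ : Subfield F) {ι : Type} [Fintype ι] [DecidableEq ι] (P : GL ι F)
    {z : GL ι F} (hz : z ∈ Geo.scalars ι F) : Geo.subfieldSubgroup F₁ (P * z) = Geo.subfieldSubgroup F₁ P := by
  rw [Geo.subfieldSubgroup, Geo.subfieldSubgroup]
  have : MulAut.conj (P * z) = MulAut.conj P := MulEquiv.ext fun x => by
    simp only [MulAut.conj_apply]
    calc P * z * x * (P * z)⁻¹ = P * (z * x * z⁻¹) * P⁻¹ := by group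
      _ = P * x * P⁻¹ := by rw [← Aschbacher.scalars_central hz x, mul_inv_cancel_right]
  rw [this]

/-- A symmetric Gram matrix of similitudes of an irreducible group is alternating in characteristic two. -/
theorem diag_zero_of_irr (h2 : (2 : F) = 0) (hn : 2 ≤ n) (hirr : Irr H) {B : GL (Fin n) F}
    {M : Matrix (Fin n) (Fin n) F} (hM : Mᵀ = M)
    (hsim : ∀ g ∈ H, ∃ (h : Matrix (Fin n) (Fin n) F) (μ l : F),
      (B : Matrix (Fin n) (Fin n) F) * (g : Matrix (Fin n) (Fin n) F) = μ • (h * (B : Matrix (Fin n) (Fin n) F)) ∧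
      hᵀ * M * h = l • M) : ∀ i, M i i = 0 := by
  classical
  obtain ⟨r, hr, hrv⟩ := exists_diag_functional h2 hM
  by_contra hcon
  push Not at hcon
  obtain ⟨i₀, hi₀⟩ := hcon
  let ℓ : (Fin n → F) →ₗ[F] F :=
    (∑ i, r i • LinearMap.proj i).comp (Matrix.toLin' (B : Matrix (Fin n) (Fin n) F))
  have hℓ : ∀ v, ℓ v = ∑ i, r i * ((B : Matrix (Fin n) (Fin n) F) *ᵥ v) i := fun v => by
    simp [ℓ, Matrix.toLin'_apply]
  have hsq : ∀ x y : F, x ^ 2 = y ^ 2 → x = y := fun x y h => by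
    have h1 : (x - y) * (x - y) = 0 := by linear_combination h - (x * y - y ^ 2) * h2
    exact sub_eq_zero.mp (mul_self_eq_zero.mp h1)
  have hinv : Inv H (LinearMap.ker ℓ) := by
    intro g hg v hv
    rw [LinearMap.mem_ker] at hv ⊢
    obtain ⟨h, μ, l, hg', hh⟩ := hsim g hg
    obtain ⟨t, ht⟩ := Aschbacher.exists_sq_of_even (F := F) (Nat.not_odd_iff_even.mp fun ho =>
      Aschbacher.two_ne_zero_of_odd ho h2) l
    have key : ∀ j, ∑ i, r i * h i j = t * r j := fun j => hsq _ _ (by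
      have h3 : gramForm M (fun i => h i j) (fun i => h i j) = l * M j j := by
        rw [← smul_eq_mul, ← Matrix.smul_apply, ← congrFun (congrFun hh j) j]
        simp [gramForm, Matrix.mul_apply, Matrix.mulVec, dotProduct, Finset.mul_sum, Finset.sum_mul, mul_assoc]
        exact Finset.sum_comm
      rw [hrv] at h3
      rw [h3, mul_pow, ht, pow_two (r j), hr])
    rw [hℓ] at hv
    rw [hℓ, Matrix.mulVec_mulVec, hg', Matrix.smul_mulVec, ← Matrix.mulVec_mulVec]
    set w := (B : Matrix (Fin n) (Fin n) F) *ᵥ v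
    calc ∑ i, r i * (μ • (h *ᵥ w)) i = μ * ∑ j, (∑ i, r i * h i j) * w j := by
          simp only [Pi.smul_apply, smul_eq_mul, Matrix.mulVec, dotProduct, Finset.mul_sum, Finset.sum_mul]
          rw [Finset.sum_comm]
          exact Finset.sum_congr rfl fun j _ => Finset.sum_congr rfl fun i _ => by ring
      _ = μ * (t * ∑ j, r j * w j) := by
          simp only [key, Finset.mul_sum, mul_assoc]
      _ = 0 := by rw [hv, mul_zero, mul_zero]
  have hr0 : r i₀ ≠ 0 := fun h => hi₀ (by rw [← hr, h, mul_zero])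
  rcases hirr _ hinv with hb | ht
  · have h1 := LinearMap.finrank_range_add_finrank_ker ℓ
    rw [hb, finrank_bot, Module.finrank_pi, Fintype.card_fin] at h1
    have h3 := Submodule.finrank_le (LinearMap.range ℓ)
    rw [Module.finrank_self] at h3
    omega
  · have h1 : ℓ (((B⁻¹ : GL (Fin n) F) : Matrix (Fin n) (Fin n) F) *ᵥ Pi.single i₀ 1) = 0 :=
      LinearMap.mem_ker.mp (ht ▸ Submodule.mem_top)
    rw [hℓ, Aschbacher.mulVec_inv_mulVec] at h1
    simp [Pi.single_apply] at h1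
    exact hr0 h1

/-- A group in a subfield group with a rational multiple of the form. -/
theorem inGU_rational (S : UField F q) (hn : 2 ≤ n) (hH : H ≤ GU n F q) (hirr : Irr H) {F₁ : Subfield F} {r : ℕ}
    (hr : r.Prime) (hcard : Fintype.card F = Nat.card F₁ ^ r) {B : GL (Fin n) F}
    (hle : H ≤ Geo.subfieldSubgroup F₁ B⁻¹) {c : F} (hc0 : c ≠ 0)
    (hc : Rational F₁ (c • (((B⁻¹ : GL (Fin n) F) : Matrix (Fin n) (Fin n) F)ᵀ *
      ((B⁻¹ : GL (Fin n) F) : Matrix (Fin n) (Fin n) F).map S.σ))) : InGU q H := by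
  classical
  haveI : Nonempty (Fin n) := ⟨⟨0, by omega⟩⟩
  set Bi := ((B⁻¹ : GL (Fin n) F) : Matrix (Fin n) (Fin n) F) with hBi
  set G := Biᵀ * Bi.map S.σ with hG
  have hσσ : ∀ M : Matrix (Fin n) (Fin n) F, (M.map S.σ).map S.σ = M := fun M => by ext i j; simp [S.invol]
  have hGh : Gᵀ.map S.σ = G := by
    rw [hG, Matrix.transpose_mul, Matrix.transpose_transpose, Matrix.map_mul, ← Matrix.transpose_map, hσσ]
  set a := S.σ c / c with ha
  set M := c • G with hM
  have hGu : IsUnit G := ((Matrix.isUnit_transpose (A := Bi)).mpr (B⁻¹).isUnit).mul ((B⁻¹).isUnit.map S.σ.mapMatrix)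
  have hMne : M ≠ 0 := smul_ne_zero hc0 hGu.ne_zero
  have hMT : Mᵀ.map S.σ = a • M := by
    rw [hM, Matrix.transpose_smul, smul_smul, ha, div_mul_cancel₀ _ hc0]
    conv_rhs => rw [← hGh]
    ext i j; simp
  have haF : a ∈ F₁ := by
    obtain ⟨i, j, hij⟩ : ∃ i j, M i j ≠ 0 := by
      by_contra hcon
      push Not at hcon
      exact hMne (Matrix.ext hcon)
    have h1 : S.σ (M j i) = a * M i j := congrFun (congrFun hMT i) j
    have h2 := mul_mem (Aschbacher.ringHom_mem_subfield S.σ F₁ (hc j i)) (inv_mem (hc i j))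
    rw [h1] at h2
    rwa [mul_assoc, mul_inv_cancel₀ hij, mul_one] at h2
  have haa : a * S.σ a = 1 := by
    rw [ha, map_div₀, S.invol]
    have := (map_ne_zero S.σ).mpr hc0
    field_simp
  -- scaling to a form on the rational structure
  have scaled : ∀ d : F, d ≠ 0 → d ∈ F₁ → S.σ d = a * d →
      ∃ P : GL (Fin n) F, Geo.IsFormRationalStructure (hermForm n F q) F₁ 1 P ∧
        H ≤ Geo.subfieldSubgroup F₁ P := by
    intro d hd0 hdF hd
    obtain ⟨s, hs⟩ := Forms.exists_norm_eq S.ne_id S.invol (c := c / d) (by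
      rw [map_div₀, hd, ha]
      field_simp
      exact div_self ((map_ne_zero S.σ).mpr hc0))
    have hs0 : s ≠ 0 := by
      rintro rfl
      rw [mul_zero, eq_comm, div_eq_zero_iff] at hs
      exact hs.elim hc0 hd0
    obtain ⟨z, hz, hzc⟩ := Aschbacher.mem_scalars_smul (ι := Fin n) hs0
    refine ⟨B⁻¹ * z, fun u v hu hv => ?_, hle.trans (subfieldSubgroup_scalar_mul F₁ _ hz).ge⟩
    rw [one_mul]
    have hPv : ((B⁻¹ * z : GL (Fin n) F) : Matrix (Fin n) (Fin n) F) = s • Bi := by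
      rw [Units.val_mul, hzc, Matrix.mul_smul, mul_one]
    have hg := S.isGram.comp ((B⁻¹ * z : GL (Fin n) F) : Matrix (Fin n) (Fin n) F) u v
    simp only at hg
    rw [hg, hPv, mul_one, Matrix.transpose_smul, Matrix.smul_mul,
      show (s • Bi).map S.σ = S.σ s • Bi.map S.σ by ext i j; simp, Matrix.mul_smul, smul_smul, mul_comm s, hs, ← hG,
      show c / d = d⁻¹ * c by rw [div_eq_inv_mul], ← smul_smul, ← hM]
    simp only [dotProduct, Matrix.mulVec, Finset.mul_sum]
    refine sum_mem fun i _ => sum_mem fun j _ => ?_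
    exact mul_mem (hu i) (mul_mem (mul_mem (inv_mem hdF) (hc i j)) (Aschbacher.ringHom_mem_subfield S.σ F₁ (hv j)))
  obtain ⟨K₀, hK₀c, hK₀⟩ := Aschbacher.exists_subfield_card (F := F) (q₁ := q) two_pos S.card
  rcases hr.eq_two_or_odd' with rfl | hrodd
  · -- the fixed field
    have hFq : Nat.card F₁ = q := Nat.pow_left_injective two_ne_zero (hcard.symm.trans S.card)
    have hfix : ∀ x, x ∈ F₁ ↔ S.σ x = x := fun x => by rw [Aschbacher.mem_subfield_iff_pow, hFq, S.pow]
    have ha2 : a * a = 1 := by rwa [(hfix a).mp haF] at haa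
    have hMt : Mᵀ = a • M := by
      rw [← hMT]; ext i j; exact ((hfix _).mp (hc j i)).symm
    by_cases h5 : Odd q ∧ a = 1
    · obtain ⟨P, hP, hPle⟩ := scaled 1 one_ne_zero (one_mem _) (by rw [map_one, h5.2, mul_one])
      exact ⟨_, Or.inl <| Or.inr <| Or.inr <| Or.inr <| Or.inr <| Or.inr <| Or.inl
        ⟨F₁, P, h5.1, hcard, hP, rfl⟩, le_inf hPle hH⟩
    have hFodd : Odd (Fintype.card F) ↔ Odd q := by rw [S.card, Nat.odd_pow_iff two_ne_zero]
    have hskew : a = -1 ∧ ∀ i, M i i = 0 := by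
      by_cases hodd : Odd q
      · have h2 := Aschbacher.two_ne_zero_of_odd (hFodd.mpr hodd)
        have ha1 : a = -1 := (mul_self_eq_one_iff.mp ha2).resolve_left fun e => h5 ⟨hodd, e⟩
        refine ⟨ha1, fun i => ?_⟩
        have h := congrFun (congrFun hMt i) i
        simp only [Matrix.transpose_apply, Matrix.smul_apply, ha1, smul_eq_mul] at h
        exact (mul_eq_zero.mp (show (2 : F) * M i i = 0 by linear_combination h)).resolve_left h2
      · have hev : ¬ Odd (Fintype.card F) := fun h => hodd (hFodd.mp h)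
        have h2 := Aschbacher.two_eq_zero_of_not_odd hev
        have hneg := neg_eq_self_of_even hev
        have ha1 : a = 1 := by
          rcases mul_self_eq_one_iff.mp ha2 with h | h
          · exact h
          · rw [h]; exact hneg 1
        refine ⟨by rw [ha1, hneg], diag_zero_of_irr h2 hn hirr (B := B) (by rw [hMt, ha1, one_smul]) fun g hg => ?_⟩
        obtain ⟨x, hx, hgx⟩ := hle hg
        obtain ⟨_, ⟨u, rfl⟩, z, hz, rfl⟩ := (Subgroup.mem_sup_of_normal_right (ht := Geo.scalars_normal)).mp hx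
        obtain ⟨μ, hμ⟩ := (Geo.mem_scalars_iff z).mp hz
        set h := ((Matrix.GeneralLinearGroup.map F₁.subtype u : GL (Fin n) F) : Matrix (Fin n) (Fin n) F) with hh
        have hgB : (g : Matrix (Fin n) (Fin n) F) * Bi = (μ : F) • (Bi * h) := by
          have e : g * B⁻¹ = B⁻¹ * (Matrix.GeneralLinearGroup.map F₁.subtype u * z) := by
            rw [← hgx]; simp [mul_assoc]
          have := congrArg Units.val e
          rw [Units.val_mul, Units.val_mul, Units.val_mul, hμ, Matrix.mul_smul, mul_one, Matrix.mul_smul] at this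
          exact this
        have hhσ : h.map S.σ = h := by
          ext i j; exact (hfix _).mp (by rw [hh]; exact (u.val i j).2)
        refine ⟨h, μ, ((μ : F) * S.σ μ)⁻¹, ?_, ?_⟩
        · have := congrArg (fun X => (B : Matrix (Fin n) (Fin n) F) * X * (B : Matrix (Fin n) (Fin n) F)) hgB
          simp only [hBi, Matrix.mul_smul, Matrix.smul_mul, ← mul_assoc, Units.mul_inv, one_mul] at this
          rwa [mul_assoc _ _ (B : Matrix (Fin n) (Fin n) F), Units.inv_mul, mul_one] at this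
        · have h1 := S.gram_of_mem (hH hg)
          rw [mul_one] at h1
          have h3 : ((g : Matrix (Fin n) (Fin n) F) * Bi)ᵀ * ((g : Matrix (Fin n) (Fin n) F) * Bi).map S.σ = G := by
            rw [Matrix.transpose_mul, Matrix.map_mul, hG]
            calc _ = Biᵀ * ((g : Matrix (Fin n) (Fin n) F)ᵀ * (g : Matrix (Fin n) (Fin n) F).map S.σ) * Bi.map S.σ := by
                  simp only [mul_assoc]
              _ = _ := by rw [h1, mul_one]
          rw [hgB, Matrix.transpose_smul, Matrix.transpose_mul, Matrix.smul_mul,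
            show ((μ : F) • (Bi * h)).map S.σ = S.σ μ • (Bi * h).map S.σ by ext i j; simp [-Matrix.map_mul], Matrix.mul_smul, smul_smul,
            Matrix.map_mul, hhσ, show hᵀ * Biᵀ * (Bi.map S.σ * h) = hᵀ * G * h by rw [hG]; simp only [mul_assoc]] at h3
          have hne : (μ : F) * S.σ μ ≠ 0 := mul_ne_zero μ.ne_zero ((map_ne_zero S.σ).mpr μ.ne_zero)
          rw [hM, Matrix.mul_smul, Matrix.smul_mul]
          conv_rhs => rw [← h3, smul_comm c, smul_smul, inv_mul_cancel₀ hne, one_smul]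
    obtain ⟨ha1, hd⟩ := hskew
    rw [ha1, neg_one_smul] at hMt
    have hn2 : Even n := by
      by_contra hno
      have hu := (Matrix.isUnit_iff_isUnit_det _).mp (show IsUnit M from hGu.smul (Units.mk0 c hc0))
      rw [Aschbacher.det_eq_zero_of_alternating (by simpa using Nat.not_even_iff_odd.mp hno) hd fun i j => by
        have := congrFun (congrFun hMt j) i
        simpa using this] at hu
      exact not_isUnit_zero hu
    have hform : ∀ u v : Fin n → F, (∀ j, v j ∈ F₁) → c * hermForm n F q (Bi *ᵥ u) (Bi *ᵥ v) = gramForm M u v := by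
      intro u v hv
      have hg := S.isGram.comp Bi u v
      simp only at hg
      rw [hg, mul_one, ← hG, hM, show (fun i => S.σ (v i)) = v from funext fun i => (hfix _).mp (hv i)]
      simp [gramForm, Matrix.smul_mulVec]
    refine ⟨_, Or.inl <| Or.inr <| Or.inr <| Or.inr <| Or.inr <| Or.inr <| Or.inr <| Or.inl
      ⟨F₁, B⁻¹, c, hn2, hcard, hc0, ?_, fun u v hu hv => ?_, fun u hu => ?_, rfl⟩, le_inf hle hH⟩
    · rw [← S.pow]
      have h1 : S.σ c = a * c := by rw [ha, div_mul_cancel₀ _ hc0]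
      rw [h1, ha1]; ring
    · rw [hform u v hv]
      simp only [gramForm, dotProduct, Matrix.mulVec]
      exact sum_mem fun i _ => mul_mem (hu i) (sum_mem fun j _ => mul_mem (hc i j) (hv j))
    · have h1 := hform u u hu
      rw [gramForm_self_eq_zero hMt hd] at h1
      exact (mul_eq_zero.mp h1).resolve_left hc0
  · -- odd degree
    obtain ⟨x, hxF, hx⟩ : ∃ x ∈ F₁, S.σ x ≠ x := by
      by_contra hcon
      push Not at hcon
      have hsub : F₁ ≤ K₀ := fun x hx => (hK₀ x).mpr (by rw [← S.pow]; exact hcon x hx)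
      letI : Algebra F₁ K₀ := (Subfield.inclusion hsub).toAlgebra
      have h1 : Nat.card K₀ = Nat.card F₁ ^ finrank F₁ K₀ := Module.natCard_eq_pow_finrank
      have h2 : Nat.card F₁ ^ r = Nat.card F₁ ^ (finrank F₁ K₀ * 2) := by
        rw [← hcard, S.card, ← hK₀c, h1, pow_mul]
      have h3 := Nat.pow_right_injective (Aschbacher.one_lt_natCard_subfield F₁) h2
      obtain ⟨j, hj⟩ := hrodd
      omega
    obtain ⟨d, hd0, hd, hd'⟩ := S.hilbert90 haa hx
    have hdF : d ∈ F₁ := by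
      rcases hd' with rfl | rfl
      · exact add_mem (one_mem _) (inv_mem haF)
      · exact sub_mem hxF (Aschbacher.ringHom_mem_subfield S.σ F₁ hxF)
    obtain ⟨P, hP, hPle⟩ := scaled d hd0 hdF hd
    exact ⟨_, Or.inl <| Or.inr <| Or.inr <| Or.inr <| Or.inr <| Or.inl
      ⟨F₁, r, P, hr, hrodd, hcard, hP, rfl⟩, le_inf hPle hH⟩

/-- A normal absolutely irreducible subgroup of similitudes realisable over a subfield. -/
theorem inGU_of_realisable (S : UField F q) (hn : 2 ≤ n) (hH : H ≤ GU n F q) (hirr : Irr H)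
    {P : Subgroup (GL (Fin n) F)} (hnP : NormalIn P H) (habs : Geo.ActsAbsolutelyIrreducibly (Geo.matrixSet P))
    {F₀ : Subfield F} (hF₀ : F₀ ≠ ⊤)
    (hsim : ∀ s ∈ P, ∃ l ∈ F₀, l ≠ 0 ∧
      (s : Matrix (Fin n) (Fin n) F)ᵀ * (s : Matrix (Fin n) (Fin n) F).map S.σ = l • 1)
    (hreal : Geo.RealisableOver F₀ (Geo.matrixSet P)) : InGU q H := by
  haveI : Nonempty (Fin n) := ⟨⟨0, by omega⟩⟩
  obtain ⟨B, hB⟩ := hreal
  obtain ⟨F₁, r, hr, hcard, hle⟩ := Aschbacher.exists_prime_index_above F₀ hF₀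
  have hrat : ∀ s ∈ P, Rational F₁ ((B * s * B⁻¹ : GL (Fin n) F) : Matrix (Fin n) (Fin n) F) :=
    fun s hs i j => hle (by simpa using hB _ ⟨s, hs, rfl⟩ i j)
  obtain ⟨c, hc0, hc⟩ := exists_rational_gram_sim (σ := S.σ) S.invol (G₀ := (1 : Matrix (Fin n) (Fin n) F)) isUnit_one
    habs (fun s hs => by
      obtain ⟨l, hl, hl0, h⟩ := hsim s hs
      exact ⟨l, hle hl, hl0, by rw [mul_one, h]⟩) hrat
  rw [mul_one] at hc
  exact inGU_rational S hn hH hirr hr hcard (Aschbacher.le_subfieldSubgroup habs hnP hrat) hc0 hc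

/-- Similitudes of a compatible bilinear form lie in a subfield group. -/
theorem inGU_two_forms (S : UField F q) (hn : 2 ≤ n) (hH : H ≤ GU n F q) (hirr : Irr H) {J : GL (Fin n) F} {ε : F}
    (hε : ε * ε = 1) (hJ : (J : Matrix (Fin n) (Fin n) F)ᵀ = ε • (J : Matrix (Fin n) (Fin n) F)) {a : F}
    (ha : ((J⁻¹ : GL (Fin n) F) : Matrix (Fin n) (Fin n) F) *
      ((J⁻¹ : GL (Fin n) F) : Matrix (Fin n) (Fin n) F).map S.σ = a • 1)
    (hsim : ∀ g ∈ H, ∃ l : F, l ≠ 0 ∧ (g : Matrix (Fin n) (Fin n) F)ᵀ * (J : Matrix (Fin n) (Fin n) F) *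
      (g : Matrix (Fin n) (Fin n) F) = l • (J : Matrix (Fin n) (Fin n) F)) : InGU q H := by
  classical
  haveI : Nonempty (Fin n) := ⟨⟨0, by omega⟩⟩
  set Ji := ((J⁻¹ : GL (Fin n) F) : Matrix (Fin n) (Fin n) F) with hJi
  have hσσ : ∀ M : Matrix (Fin n) (Fin n) F, (M.map S.σ).map S.σ = M := fun M => by ext i j; simp [S.invol]
  have hmapsmul : ∀ (x : F) (M : Matrix (Fin n) (Fin n) F), (x • M).map S.σ = S.σ x • M.map S.σ := fun x M => by
    ext i j; simp
  have ha0 : a ≠ 0 := by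
    rintro rfl
    rw [zero_smul] at ha
    exact not_isUnit_zero (ha ▸ (J⁻¹).isUnit.mul ((J⁻¹).isUnit.map S.σ.mapMatrix))
  have haσ : S.σ a = a := by
    have h1 := congrArg (fun M => M.map S.σ) ha
    simp only [Matrix.map_mul, hσσ, hmapsmul, Matrix.map_one _ (map_zero S.σ) (map_one S.σ)] at h1
    have h2 : Ji * (Ji.map S.σ * Ji) = (Ji * Ji.map S.σ) * Ji := (mul_assoc _ _ _).symm
    rw [h1, ha, Matrix.mul_smul, mul_one, Matrix.smul_mul, one_mul] at h2
    exact smul_left_injective F (J⁻¹).ne_zero h2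
  obtain ⟨b, hb⟩ := Forms.exists_norm_eq S.ne_id S.invol haσ
  have hb0 : b ≠ 0 := by rintro rfl; exact ha0 (by simpa using hb.symm)
  set K' := b⁻¹ • Ji with hK'
  have hK'σ : K' * K'.map S.σ = 1 := by
    rw [hK', hmapsmul, smul_mul_smul_comm, ha, smul_smul, map_inv₀, ← hb]
    convert one_smul F (1 : Matrix (Fin n) (Fin n) F) using 2
    have := (map_ne_zero S.σ).mpr hb0
    field_simp
  obtain ⟨B, hKB⟩ := exists_fixed_basis S.ne_id S.invol hK'σ
  set Bi := ((B⁻¹ : GL (Fin n) F) : Matrix (Fin n) (Fin n) F) with hBi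
  obtain ⟨K₀, hK₀c, hK₀⟩ := Aschbacher.exists_subfield_card (F := F) (q₁ := q) two_pos S.card
  have hfix : ∀ x, x ∈ K₀ ↔ S.σ x = x := fun x => by rw [hK₀, S.pow]
  have hBiσ : Bi.map S.σ = b • ((J : Matrix (Fin n) (Fin n) F) * Bi) := by
    conv_rhs => rw [← hKB, hK', Matrix.smul_mul, Matrix.mul_smul, smul_smul, mul_inv_cancel₀ hb0, one_smul, ← mul_assoc,
      hJi, Units.mul_inv, one_mul]
  obtain ⟨x, hx⟩ : ∃ x, S.σ x ≠ x := by
    by_contra hcon
    push Not at hcon
    exact S.ne_id (RingHom.ext hcon)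
  -- a rational multiple of the Gram matrix
  set G := Biᵀ * Bi.map S.σ with hG
  have hGT : Gᵀ = ε • G := by
    rw [hG, hBiσ, Matrix.mul_smul, Matrix.transpose_smul, Matrix.transpose_mul, Matrix.transpose_mul,
      Matrix.transpose_transpose, hJ, Matrix.mul_smul, Matrix.smul_mul, mul_assoc, smul_comm]
  have hGh : Gᵀ.map S.σ = G := by
    rw [hG, Matrix.transpose_mul, Matrix.transpose_transpose, Matrix.map_mul, ← Matrix.transpose_map, hσσ]
  have hεσ : S.σ ε = ε := by
    rcases mul_self_eq_one_iff.mp hε with h | h <;> simp [h]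
  have hGσ : G.map S.σ = ε • G := by
    have h := hGh
    rw [hGT, hmapsmul, hεσ] at h
    conv_rhs => rw [← h, smul_smul, hε, one_smul]
  obtain ⟨c, hc0, hc, -⟩ := S.hilbert90 (a := ε) (by rw [hεσ, hε]) hx
  refine inGU_rational S hn hH hirr Nat.prime_two (by rw [hK₀c, S.card]) (B := B) (fun g hg => ?_) hc0 fun i j => ?_
  · obtain ⟨l, hl0, hl⟩ := hsim g hg
    set gm := (g : Matrix (Fin n) (Fin n) F) with hgm
    set gi := ((g⁻¹ : GL (Fin n) F) : Matrix (Fin n) (Fin n) F) with hgi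
    have h1 : gm.map S.σ = giᵀ := by
      have h := S.gram_of_mem (hH hg)
      rw [mul_one] at h
      calc gm.map S.σ = (gm * gi)ᵀ * gm.map S.σ := by rw [hgm, hgi, Units.mul_inv, Matrix.transpose_one, one_mul]
        _ = giᵀ := by rw [Matrix.transpose_mul, mul_assoc, h, mul_one]
    have h2 : giᵀ * (J : Matrix (Fin n) (Fin n) F) = l⁻¹ • ((J : Matrix (Fin n) (Fin n) F) * gm) := by
      have h := congrArg (fun X => l⁻¹ • (giᵀ * X)) hl
      simp only [Matrix.mul_smul, smul_smul, inv_mul_cancel₀ hl0, one_smul] at h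
      rw [← h, ← mul_assoc, ← mul_assoc, ← Matrix.transpose_mul, hgm, hgi, Units.mul_inv, Matrix.transpose_one, one_mul]
    set h := (B : Matrix (Fin n) (Fin n) F) * gm * Bi with hh
    have hBJ : (B : Matrix (Fin n) (Fin n) F).map S.σ * (b • (J : Matrix (Fin n) (Fin n) F)) = (B : Matrix (Fin n) (Fin n) F) := by
      have h4 : (B : Matrix (Fin n) (Fin n) F).map S.σ * Bi.map S.σ = 1 := by
        rw [← Matrix.map_mul, hBi, Units.mul_inv]
        exact Matrix.map_one _ (map_zero _) (map_one _)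
      rw [hBiσ, ← Matrix.smul_mul, ← mul_assoc] at h4
      have h5 := congrArg (· * (B : Matrix (Fin n) (Fin n) F)) h4
      simpa [hBi, mul_assoc] using h5
    have h3 : h.map S.σ = l⁻¹ • h := by
      rw [hh, Matrix.map_mul, Matrix.map_mul, h1, hBiσ]
      conv_rhs => rw [← hBJ]
      simp only [Matrix.mul_smul, Matrix.smul_mul, mul_assoc, smul_smul]
      rw [← mul_assoc giᵀ, h2, Matrix.smul_mul, Matrix.mul_smul, smul_smul, mul_assoc, mul_comm]
    have hhne : h ≠ 0 := by rw [hh, hBi, hgm, ← Units.val_mul, ← Units.val_mul]; exact Units.ne_zero _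
    have hν : l⁻¹ * S.σ l⁻¹ = 1 := by
      have h4 := congrArg (fun M => M.map S.σ) h3
      rw [hσσ, hmapsmul, h3, smul_smul] at h4
      exact smul_left_injective F hhne ((show (l⁻¹ * S.σ l⁻¹) • h = h by rw [mul_comm]; exact h4.symm).trans (one_smul F h).symm)
    obtain ⟨d, hd0, hd, -⟩ := S.hilbert90 hν hx
    refine Aschbacher.mem_subfieldSubgroup (c := d⁻¹) (inv_ne_zero hd0) fun i j => ?_
    rw [hfix, inv_inv]
    have h5 : ((d⁻¹ • h).map S.σ) = d⁻¹ • h := by
      rw [hmapsmul, h3, smul_smul, map_inv₀, hd]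
      congr 1
      rw [mul_inv_rev, mul_assoc, inv_mul_cancel₀ (inv_ne_zero hl0), mul_one]
    exact congrFun (congrFun h5 i) j
  · rw [hfix]
    have h5 : (c • G).map S.σ = c • G := by
      rw [hmapsmul, hGσ, smul_smul, hc, mul_assoc, mul_comm c, ← mul_assoc, hε, one_mul]
    exact congrFun (congrFun h5 i) j

end Cfsg.Agent.MaxSub.Asch
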