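import Mathlib
import Cfsg.Agent.MaxSub.Asch.TensorAux
import Cfsg.Agent.MaxSub.Asch.UnitarySubfield
import Cfsg.Agent.MaxSub.Asch.SmallHermitian

/-!
Unitary groups preserving a tensor power decomposition.
-/

set_option autoImplicit false
set_option linter.unusedSectionVars false
set_option linter.style.haveILetI false

namespace Cfsg.Agent.MaxSub.Asch

open scoped MatrixGroups Matrix commutatorElement
open Module
open Cfsg.Agent.Aschbacher (NormalIn Inv Irr)

variable {F : Type*} [Field F] [Fintype F] {n q : ℕ} {H : Subgroup (GL (Fin n) F)}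

theorem gramMatrix_form {κ : Type} [Fintype κ] [DecidableEq κ] (Φ : FormData κ F) :
    Geo.gramMatrix Φ.form = (Φ.gram : Matrix κ κ F) := by
  ext a b
  have h : (fun i => Φ.σ ((Pi.single b (1 : F) : κ → F) i)) = Pi.single b 1 := Aschbacher.single_comp _ _
  simp only [Geo.gramMatrix, FormData.form, h]
  simp

/-- The form of a hermitian Gram matrix. -/
def UField.hdata (S : UField F q) {d : ℕ} (G : GL (Fin d) F)
    (hG : (G : Matrix (Fin d) (Fin d) F)ᵀ.map S.σ = (G : Matrix (Fin d) (Fin d) F)) : FormData (Fin d) F where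
  σ := S.σ
  gram := G
  ε := 1
  invol := S.invol
  herm := by rw [one_smul]; exact hG

theorem UField.hdata_form (S : UField F q) {d : ℕ} (G : GL (Fin d) F)
    (hG : (G : Matrix (Fin d) (Fin d) F)ᵀ.map S.σ = (G : Matrix (Fin d) (Fin d) F)) :
    Geo.IsUnitaryFormPow q (S.hdata G hG).form := by
  refine ⟨fun x y v => add_dotProduct x y _, fun c x v => smul_dotProduct c x _, fun v w => ?_, ?_⟩
  · rw [← S.pow]
    show v ⬝ᵥ ((G : Matrix (Fin d) (Fin d) F) *ᵥ fun i => S.σ (w i)) =
      S.σ (w ⬝ᵥ ((G : Matrix (Fin d) (Fin d) F) *ᵥ fun i => S.σ (v i)))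
    simp only [dotProduct, Matrix.mulVec, Finset.mul_sum, map_sum, map_mul, S.invol]
    rw [Finset.sum_comm]
    refine Finset.sum_congr rfl fun b _ => Finset.sum_congr rfl fun a _ => ?_
    have h := congrFun (congrFun hG a) b
    rw [show S.σ ((G : Matrix (Fin d) (Fin d) F) b a) = (G : Matrix (Fin d) (Fin d) F) a b from h]
    ring
  · intro v hv
    have h1 : (fun i => S.σ (v i)) ≠ 0 := fun h =>
      hv (funext fun i => (map_eq_zero S.σ).mp (congrFun h i))
    refine ⟨?_, ?_⟩
    · obtain ⟨x, hx⟩ := (gramForm_nondegenerate G.isUnit _ h1).1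
      exact ⟨x, hx⟩
    · obtain ⟨x, hx⟩ := (gramForm_nondegenerate G.isUnit _ hv).2
      exact ⟨fun i => S.σ (x i), by simpa [FormData.form, UField.hdata, S.invol, gramForm] using hx⟩

/-- A hermitian Gram matrix is congruent to the identity. -/
theorem UField.exists_congr_one (S : UField F q) {d : ℕ} (G : GL (Fin d) F)
    (hG : (G : Matrix (Fin d) (Fin d) F)ᵀ.map S.σ = (G : Matrix (Fin d) (Fin d) F)) :
    ∃ X : GL (Fin d) F, (X : Matrix (Fin d) (Fin d) F)ᵀ * (G : Matrix (Fin d) (Fin d) F) *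
      (X : Matrix (Fin d) (Fin d) F).map S.σ = 1 := by
  classical
  set Φ := S.hdata G hG with hΦ
  have hu := S.hdata_form G hG
  have hadd : ∀ v x y, Φ.form v (x + y) = Φ.form v x + Φ.form v y := fun v x y => by
    rw [hu.herm, hu.add_left, ← S.pow, map_add, S.pow, S.pow, ← hu.herm, ← hu.herm]
  have hsmul : ∀ (c : F) v x, Φ.form v (c • x) = S.σ c * Φ.form v x := fun c v x => by
    rw [hu.herm, hu.smul_left, ← S.pow, map_mul, S.pow (Φ.form x v), ← hu.herm]
  let B : (Fin d → F) →ₛₗ[S.σ] (Fin d → F) →ₗ[F] F :=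
    LinearMap.mk₂'ₛₗ S.σ (RingHom.id F) (fun v w => Φ.form w v) (fun v v' w => hadd w v v')
      (fun c v w => hsmul c w v) (fun v w w' => hu.add_left w w' v) (fun c v w => hu.smul_left c w v)
  have hB : ∀ v w, B v w = Φ.form w v := fun _ _ => rfl
  have hsymm : B.IsSymm := ⟨fun v w => by rw [hB, hB, S.pow, ← hu.herm]⟩
  have hnd : B.Nondegenerate := ⟨fun v hv => by
      by_contra hv0
      obtain ⟨x, hx⟩ := (hu.nondegenerate v hv0).1
      exact hx (hv x),
    fun v hv => by
      by_contra hv0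
      obtain ⟨x, hx⟩ := (hu.nondegenerate v hv0).2
      exact hx (hv x)⟩
  obtain ⟨b, hb⟩ := Forms.exists_orthonormal_basis S.ne_id S.invol B hsymm hnd
  have hd : finrank F (Fin d → F) = d := by rw [Module.finrank_pi, Fintype.card_fin]
  let b' : Fin d → (Fin d → F) := fun i => b (Fin.cast hd.symm i)
  set X : Matrix (Fin d) (Fin d) F := Matrix.of fun k i => b' i k with hX
  have hXG : Xᵀ * (G : Matrix (Fin d) (Fin d) F) * X.map S.σ = 1 := by
    ext i j
    have h1 : (Xᵀ * (G : Matrix (Fin d) (Fin d) F) * X.map S.σ) i j = Φ.form (b' i) (b' j) := by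
      rw [mul_assoc]
      rfl
    rw [h1, ← hB, hb, Matrix.one_apply]
    simp [eq_comm]
  refine ⟨Matrix.GeneralLinearGroup.mkOfDetNeZero X fun h0 => ?_, hXG⟩
  have := congrArg Matrix.det hXG
  rw [Matrix.det_mul, Matrix.det_mul, Matrix.det_transpose, h0, zero_mul, zero_mul, Matrix.det_one] at this
  exact zero_ne_one this

/-- Transport to matrices on `Fin n` as a group homomorphism. -/
noncomputable def transHom {κ : Type} [Fintype κ] [DecidableEq κ] (e : Fin n ≃ κ) (P : GL (Fin n) F) :
    GL κ F →* GL (Fin n) F :=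
  (MulAut.conj P).toMonoidHom.comp (Geo.glReindex e.symm).toMonoidHom

theorem transHom_val {κ : Type} [Fintype κ] [DecidableEq κ] (e : Fin n ≃ κ) (P : GL (Fin n) F) (h : GL κ F) :
    ((transHom e P h : GL (Fin n) F) : Matrix (Fin n) (Fin n) F) = tr e P (h : Matrix κ κ F) :=
  tr_eq_conj_glReindex e P h

theorem transHom_injective {κ : Type} [Fintype κ] [DecidableEq κ] (e : Fin n ≃ κ) (P : GL (Fin n) F) :
    Function.Injective (transHom e P) := fun a b h =>
  (Geo.glReindex (F := F) e.symm).injective ((MulAut.conj P).injective h)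

theorem mem_wreath_iff {d t : ℕ} (e : Fin n ≃ (Fin t → Fin d)) (P g : GL (Fin n) F) :
    g ∈ Geo.tensorWreathSubgroup d t e P ↔ ∃ h ∈ Geo.tensorWreathStandard d t F, transHom e P h = g := by
  rw [Geo.tensorWreathSubgroup, Subgroup.map_map, Subgroup.mem_map]
  rfl

/-- Changing the basis by a pure tensor. -/
theorem wreath_change {d t : ℕ} (e : Fin n ≃ (Fin t → Fin d)) (P : GL (Fin n) F) {T : GL (Fin t → Fin d) F}
    (hT : T ∈ Geo.tensorWreathStandard d t F) :
    Geo.tensorWreathSubgroup d t e (P * Geo.glReindex e.symm T) = Geo.tensorWreathSubgroup d t e P := by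
  have key : ∀ h, transHom e (P * Geo.glReindex e.symm T) h = transHom e P (T * h * T⁻¹) := fun h => by
    simp [transHom, mul_assoc]
  ext g
  rw [mem_wreath_iff, mem_wreath_iff]
  constructor
  · rintro ⟨h, hh, rfl⟩
    exact ⟨T * h * T⁻¹, mul_mem (mul_mem hT hh) (inv_mem hT), (key h).symm⟩
  · rintro ⟨h, hh, rfl⟩
    exact ⟨T⁻¹ * h * T, mul_mem (mul_mem (inv_mem hT) hh) hT, by rw [key]; simp [mul_assoc]⟩

/-- The tensor factors of the form can be normalised. -/
theorem exists_normalised (S : UField F q) {d t : ℕ} (e : Fin n ≃ (Fin t → Fin d)) (P : GL (Fin n) F)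
    (G : Fin t → GL (Fin d) F)
    (hG : ∀ i, (G i : Matrix (Fin d) (Fin d) F)ᵀ.map S.σ = (G i : Matrix (Fin d) (Fin d) F)) {c : F}
    (hgram : (((S.data n).transport e P).gram : Matrix (Fin t → Fin d) (Fin t → Fin d) F) =
      c • tens fun i => (G i : Matrix (Fin d) (Fin d) F)) :
    ∃ P' : GL (Fin n) F, Geo.tensorWreathSubgroup d t e P' = Geo.tensorWreathSubgroup d t e P ∧
      (P' : Matrix (Fin n) (Fin n) F)ᵀ * (P' : Matrix (Fin n) (Fin n) F).map S.σ = c • 1 := by
  classical
  choose X hX using fun i => S.exists_congr_one (G i) (hG i)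
  set T := tensGL X with hT
  have hTm : T ∈ Geo.tensorWreathStandard d t F := Subgroup.subset_closure (Or.inl ⟨X, fun _ _ => rfl⟩)
  refine ⟨P * Geo.glReindex e.symm T, wreath_change e P hTm, ?_⟩
  set R := Matrix.reindexAlgEquiv F F e.symm with hR
  set Γ := (((S.data n).transport e P).gram : Matrix (Fin t → Fin d) (Fin t → Fin d) F) with hΓ
  have hN : (P : Matrix (Fin n) (Fin n) F)ᵀ * (P : Matrix (Fin n) (Fin n) F).map S.σ = R Γ := by
    rw [hΓ, FormData.transport_gram, S.data_gram, mul_one, hR, show (S.data n).σ = S.σ from rfl]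
    ext i j; simp
  have hRT : (R (T : Matrix (Fin t → Fin d) (Fin t → Fin d) F))ᵀ =
      R ((T : Matrix (Fin t → Fin d) (Fin t → Fin d) F))ᵀ := by ext i j; simp [hR]
  have hv : ((P * Geo.glReindex e.symm T : GL (Fin n) F) : Matrix (Fin n) (Fin n) F) =
      (P : Matrix (Fin n) (Fin n) F) * R (T : Matrix (Fin t → Fin d) (Fin t → Fin d) F) := rfl
  have hTv : (T : Matrix (Fin t → Fin d) (Fin t → Fin d) F) = tens fun i => (X i : Matrix (Fin d) (Fin d) F) := rfl
  have hTG : (T : Matrix (Fin t → Fin d) (Fin t → Fin d) F)ᵀ * Γ *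
      (T : Matrix (Fin t → Fin d) (Fin t → Fin d) F).map S.σ = c • 1 := by
    rw [hgram, hTv, tens_transpose, tens_map, Matrix.mul_smul, Matrix.smul_mul, tens_mul, tens_mul]
    congr 1
    rw [← tens_one]
    congr 1
    exact funext hX
  calc _ = (R (T : Matrix (Fin t → Fin d) (Fin t → Fin d) F))ᵀ *
        ((P : Matrix (Fin n) (Fin n) F)ᵀ * (P : Matrix (Fin n) (Fin n) F).map S.σ) *
        (R (T : Matrix (Fin t → Fin d) (Fin t → Fin d) F)).map S.σ := by
        rw [hv, Matrix.transpose_mul, Matrix.map_mul]; simp only [mul_assoc]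
    _ = R ((T : Matrix (Fin t → Fin d) (Fin t → Fin d) F)ᵀ * Γ *
        (T : Matrix (Fin t → Fin d) (Fin t → Fin d) F).map S.σ) := by
        rw [hN, hRT, map_mul, map_mul, FormData.tr_map]
    _ = c • 1 := by rw [hTG, map_smul, map_one]

/-- In normalised coordinates unitary matrices transport to unitary matrices. -/
theorem tr_unitary (S : UField F q) {κ : Type} [Fintype κ] [DecidableEq κ] (e : Fin n ≃ κ) {P : GL (Fin n) F} {c : F}
    (hc : c ≠ 0) (hP : (P : Matrix (Fin n) (Fin n) F)ᵀ * (P : Matrix (Fin n) (Fin n) F).map S.σ = c • 1)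
    (T : Matrix κ κ F) :
    Tᵀ * T.map S.σ = 1 ↔ (tr e P T)ᵀ * (tr e P T).map S.σ = 1 := by
  set R := Matrix.reindexAlgEquiv F F e.symm with hR
  set Q := ((P⁻¹ : GL (Fin n) F) : Matrix (Fin n) (Fin n) F) with hQ
  have hPQ : (P : Matrix (Fin n) (Fin n) F) * Q = 1 := P.mul_inv
  have hQP : Q * (P : Matrix (Fin n) (Fin n) F) = 1 := P.inv_mul
  have hm1 : ∀ {A B : Matrix (Fin n) (Fin n) F}, A * B = 1 → A.map S.σ * B.map S.σ = 1 := fun {A B} h => by
    rw [← Matrix.map_mul, h]; exact Matrix.map_one _ (map_zero _) (map_one _)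
  have h1 : Qᵀ * Q.map S.σ = c⁻¹ • 1 := by
    have h2 := congrArg (fun M => c⁻¹ • (Qᵀ * M * Q.map S.σ)) hP
    have h3 : Qᵀ * ((P : Matrix (Fin n) (Fin n) F)ᵀ * (P : Matrix (Fin n) (Fin n) F).map S.σ) * Q.map S.σ = 1 := by
      rw [← mul_assoc, ← Matrix.transpose_mul, hPQ, Matrix.transpose_one, one_mul, hm1 hPQ]
    simp only [h3, Matrix.mul_smul, mul_one, Matrix.smul_mul, smul_smul, inv_mul_cancel₀ hc, one_smul] at h2
    exact h2.symm
  have hRT : (R T)ᵀ = R Tᵀ := by ext i j; simp [hR]
  have hcomp : (tr e P T)ᵀ * (tr e P T).map S.σ = c • (Qᵀ * R (Tᵀ * T.map S.σ) * Q.map S.σ) := by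
    calc _ = Qᵀ * ((R T)ᵀ * ((P : Matrix (Fin n) (Fin n) F)ᵀ * (P : Matrix (Fin n) (Fin n) F).map S.σ) *
          (R T).map S.σ) * Q.map S.σ := by
          rw [tr_apply, ← hR, ← hQ, Matrix.transpose_mul, Matrix.transpose_mul, Matrix.map_mul, Matrix.map_mul]
          simp only [mul_assoc]
      _ = _ := by
        rw [hP, Matrix.mul_smul, Matrix.smul_mul, mul_one, Matrix.mul_smul, Matrix.smul_mul, hRT, map_mul,
          FormData.tr_map]
  rw [hcomp]
  constructor
  · intro h
    rw [h, map_one, mul_one, h1, smul_smul, mul_inv_cancel₀ hc, one_smul]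
  · intro h
    have h2 := congrArg (fun M => (P : Matrix (Fin n) (Fin n) F)ᵀ * M * (P : Matrix (Fin n) (Fin n) F).map S.σ) h
    have h3 : ∀ M, (P : Matrix (Fin n) (Fin n) F)ᵀ * (Qᵀ * M * Q.map S.σ) * (P : Matrix (Fin n) (Fin n) F).map S.σ = M := by
      intro M
      calc _ = ((P : Matrix (Fin n) (Fin n) F)ᵀ * Qᵀ) * M * (Q.map S.σ * (P : Matrix (Fin n) (Fin n) F).map S.σ) := by
            simp only [mul_assoc]
        _ = _ := by rw [← Matrix.transpose_mul, hQP, Matrix.transpose_one, one_mul, hm1 hQP, mul_one]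
    simp only [Matrix.mul_smul, Matrix.smul_mul, h3, mul_one, hP] at h2
    exact R.injective ((smul_right_injective _ hc h2).trans (map_one R).symm)

theorem inGU_power_two (S : UField F q) (hn : 2 ≤ n) (hH : H ≤ GU n F q) (hirr : Irr H) {t : ℕ}
    (e : Fin n ≃ (Fin t → Fin 2)) (P : GL (Fin n) F) (hle : H ≤ Geo.tensorWreathSubgroup 2 t e P) {c : F}
    (hP : (P : Matrix (Fin n) (Fin n) F)ᵀ * (P : Matrix (Fin n) (Fin n) F).map S.σ = c • 1) : InGU q H := by
  classical
  set R := Matrix.reindexAlgEquiv F F e.symm with hR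
  set Q := ((P⁻¹ : GL (Fin n) F) : Matrix (Fin n) (Fin n) F) with hQ
  set Pm := (P : Matrix (Fin n) (Fin n) F) with hPm
  set A' := R (tens fun _ : Fin t => -(J2 : Matrix (Fin 2) (Fin 2) F)) with hA'
  set A := R (powGram F t) with hA
  have hPQ : Pm * Q = 1 := P.mul_inv
  have hQP : Q * Pm = 1 := P.inv_mul
  have hAA : A * A' = 1 := by
    rw [hA, hA', ← map_mul, powGram, tens_mul]
    convert map_one R using 2
    rw [← tens_one]
    congr 1
    funext i
    ext a b
    fin_cases a <;> fin_cases b <;> simp [J2, Pi.mul_apply, Matrix.mul_apply, Fin.sum_univ_two]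
  have hA'A : A' * A = 1 := mul_eq_one_comm.mp hAA
  have hval : Qᵀ * A * Q * (Pm * A' * Pmᵀ) = 1 := by
    calc _ = Qᵀ * (A * (Q * Pm) * A') * Pmᵀ := by simp only [mul_assoc]
      _ = _ := by rw [hQP, mul_one, hAA, mul_one, ← Matrix.transpose_mul, hPQ, Matrix.transpose_one]
  let J : GL (Fin n) F := ⟨Qᵀ * A * Q, Pm * A' * Pmᵀ, hval, mul_eq_one_comm.mp hval⟩
  have hRT : ∀ M, (R M)ᵀ = R Mᵀ := fun M => by ext i j; simp [hR]
  haveI : Nonempty (Fin n) := ⟨⟨0, by omega⟩⟩
  have hPP : Pm * (Pm.map S.σ)ᵀ = c • 1 := by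
    have hc0 : c ≠ 0 := by
      rintro rfl
      rw [zero_smul] at hP
      exact not_isUnit_zero (hP ▸ ((Matrix.isUnit_transpose (A := Pm)).mpr P.isUnit).mul
        (P.isUnit.map S.σ.mapMatrix))
    have h1 : (c⁻¹ • Pmᵀ) * Pm.map S.σ = 1 := by rw [Matrix.smul_mul, hP, smul_smul, inv_mul_cancel₀ hc0, one_smul]
    have h2 := congrArg (fun M : Matrix (Fin n) (Fin n) F => c • Mᵀ) (mul_eq_one_comm.mp h1)
    simpa [Matrix.transpose_mul, Matrix.mul_smul, smul_smul, mul_inv_cancel₀ hc0] using h2
  have hA'σ : A'.map S.σ = A' := by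
    rw [hA', FormData.tr_map, tens_map]
    congr 2
    funext i
    ext a b
    fin_cases a <;> fin_cases b <;> simp [J2]
  have hA'2 : A' * A' = (-1 : F) ^ t • 1 := by
    rw [hA', ← map_mul, tens_mul]
    have : ((fun _ : Fin t => -(J2 : Matrix (Fin 2) (Fin 2) F)) * fun _ => -J2) =
        fun i : Fin t => (fun _ => (-1 : F)) i • (1 : Fin t → Matrix (Fin 2) (Fin 2) F) i := by
      funext i
      ext a b
      fin_cases a <;> fin_cases b <;> simp [J2, Pi.mul_apply, Matrix.mul_apply, Fin.sum_univ_two]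
    rw [this, tens_smul, tens_one, map_smul, map_one, Fin.prod_const]
  have hJT : (J : Matrix (Fin n) (Fin n) F)ᵀ = (-1 : F) ^ t • (J : Matrix (Fin n) (Fin n) F) := by
    show (Qᵀ * A * Q)ᵀ = _ • (Qᵀ * A * Q)
    rw [Matrix.transpose_mul, Matrix.transpose_mul, Matrix.transpose_transpose, hA, hRT, powGram_transpose, map_smul]
    simp [mul_assoc]
  refine inGU_two_forms S hn hH hirr (J := J) (ε := (-1 : F) ^ t)
    (by rw [← pow_add, ← two_mul, pow_mul, neg_one_sq, one_pow]) hJT (a := c * c * (-1 : F) ^ t) ?_ fun g hg => ?_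
  · show Pm * A' * Pmᵀ * (Pm * A' * Pmᵀ).map S.σ = _
    rw [Matrix.map_mul, Matrix.map_mul, hA'σ]
    calc _ = Pm * (A' * (Pmᵀ * Pm.map S.σ) * A') * Pmᵀ.map S.σ := by simp only [mul_assoc]
      _ = _ := by
        rw [hP, Matrix.mul_smul, mul_one, Matrix.smul_mul, hA'2, smul_smul, Matrix.mul_smul, mul_one, Matrix.smul_mul,
          Matrix.transpose_map, hPP, smul_smul]
        congr 1
        ring
  · obtain ⟨h, hh, hhg⟩ := (mem_wreath_iff e P g).mp (hle hg)
    obtain ⟨l, hl0, hl⟩ := tensorWreathStandard_le_gram hh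
    refine ⟨l, hl0, ?_⟩
    rw [← hhg, transHom_val, tr_apply, ← hR, ← hPm, ← hQ]
    show (Pm * R h * Q)ᵀ * (Qᵀ * A * Q) * (Pm * R h * Q) = l • (Qᵀ * A * Q)
    calc _ = Qᵀ * ((R h.val)ᵀ * (Pmᵀ * Qᵀ) * A * (Q * Pm) * R h) * Q := by
          rw [Matrix.transpose_mul, Matrix.transpose_mul]; simp only [mul_assoc]
      _ = Qᵀ * R ((h : Matrix _ _ F)ᵀ * powGram F t * (h : Matrix _ _ F)) * Q := by
          rw [hQP, ← Matrix.transpose_mul, hQP, Matrix.transpose_one, mul_one, mul_one, hRT, map_mul, map_mul, hA]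
      _ = _ := by rw [hl, map_smul, Matrix.mul_smul, Matrix.smul_mul, hA]

/-- Three-dimensional factors over the field with four elements. -/
theorem inGU_power_small (S : UField F 2) {H : Subgroup (GL (Fin n) F)} (hH : H ≤ GU n F 2) {t : ℕ} (ht : 1 ≤ t)
    (e : Fin n ≃ (Fin t → Fin 3)) (P : GL (Fin n) F) (hle : H ≤ Geo.tensorWreathSubgroup 3 t e P) {c : F}
    (hc : c ≠ 0) (hP : (P : Matrix (Fin n) (Fin n) F)ᵀ * (P : Matrix (Fin n) (Fin n) F).map S.σ = c • 1) :
    InGU 2 H := by
  classical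
  have hn3 : n = 3 ^ t := by simpa using Fintype.card_congr e
  haveI : NeZero n := ⟨by rw [hn3]; positivity⟩
  have hn1 : 1 < Fintype.card (Fin n) := by
    rw [Fintype.card_fin, hn3]; exact Nat.one_lt_pow (by omega) (by norm_num)
  let Ψ : (Fin t → Small.group3 F) →* GL (Fin n) F :=
    (transHom e P).comp ((tensHom 3 t F).comp (MonoidHom.compLeft (Small.group3 F).subtype (Fin t)))
  let R : Subgroup (GL (Fin n) F) := Ψ.range
  have hΨ : ∀ b : Fin t → Small.group3 F, ((Ψ b : GL (Fin n) F) : Matrix (Fin n) (Fin n) F) =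
      tr e P (tens fun i => ((b i : GL (Fin 3) F) : Matrix (Fin 3) (Fin 3) F)) := fun b => transHom_val e P _
  -- unitary tensors normalise
  have hnorm : ∀ (a : Fin t → GL (Fin 3) F) (σ : Equiv.Perm (Fin t)),
      (∀ i, Small.IsUn S (a i : Matrix (Fin 3) (Fin 3) F)) → ∀ b : Fin t → Small.group3 F,
      ∃ b' : Fin t → Small.group3 F, (∀ i, (b' i : GL (Fin 3) F) = a i * b (σ.symm i) * (a i)⁻¹) ∧
        transHom e P (tensGL a * factorPerm σ) * Ψ b * (transHom e P (tensGL a * factorPerm σ))⁻¹ = Ψ b' := by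
    intro a σ ha b
    refine ⟨fun i => ⟨a i * b (σ.symm i) * (a i)⁻¹, Small.conj_mem S (ha i) (b (σ.symm i)).2⟩, fun i => rfl, ?_⟩
    show transHom e P _ * transHom e P _ * (transHom e P _)⁻¹ = transHom e P _
    rw [← map_mul, ← map_inv, ← map_mul]
    congr 1
    show tensGL a * factorPerm σ * tensGL (fun i => (b i : GL (Fin 3) F)) * (tensGL a * factorPerm σ)⁻¹ =
      tensGL fun i => a i * (b (σ.symm i) : GL (Fin 3) F) * (a i)⁻¹
    rw [mul_inv_eq_iff_eq_mul, mul_assoc (tensGL a), factorPerm_mul_tensGL, ← mul_assoc, tensGL_mul, ← mul_assoc,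
      tensGL_mul]
    congr 2
    funext i
    simp
  have hR_GU : R ≤ GU n F 2 := by
    rintro _ ⟨b, rfl⟩
    refine (Aschbacher.preserves_iff_gram S.isGram _).mpr ?_
    simp only [Units.coeHom_apply, mul_one, hΨ]
    refine (tr_unitary S e hc hP _).mp ?_
    rw [tens_transpose, tens_map, tens_mul, ← tens_one]
    congr 1
    funext i
    exact Small.mem_group3_unitary S (b i).2
  -- the elements of `H`
  have hHn : ∀ g ∈ H, ∀ x ∈ R, g * x * g⁻¹ ∈ R := by
    rintro g hg _ ⟨b, rfl⟩
    obtain ⟨h, hh, rfl⟩ := (mem_wreath_iff e P g).mp (hle hg)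
    obtain ⟨a, σ, rfl⟩ := exists_wreath_elem hh
    have hu := (Aschbacher.preserves_iff_gram S.isGram _).mp (hH hg)
    simp only [Units.coeHom_apply, mul_one, transHom_val] at hu
    rw [← tr_unitary S e hc hP] at hu
    set Ps := ((factorPerm σ : GL (Fin t → Fin 3) F) : Matrix (Fin t → Fin 3) (Fin t → Fin 3) F) with hPs
    set M : Fin t → Matrix (Fin 3) (Fin 3) F :=
      fun i => (a i : Matrix (Fin 3) (Fin 3) F)ᵀ * (a i : Matrix (Fin 3) (Fin 3) F).map S.σ with hM
    have hu' : Psᵀ * tens M * Ps = 1 := by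
      rw [Units.val_mul, ← hPs, Matrix.transpose_mul, Matrix.map_mul, hPs, factorPerm_map, ← hPs] at hu
      rw [← hu]
      show Psᵀ * tens M * Ps = Psᵀ * (tens fun i => (a i : Matrix (Fin 3) (Fin 3) F))ᵀ *
        ((tens fun i => (a i : Matrix (Fin 3) (Fin 3) F)).map S.σ * Ps)
      rw [tens_transpose, tens_map, ← mul_assoc, mul_assoc Psᵀ (tens _) (tens _), tens_mul]
      rfl
    have hM1 : tens M = 1 := by
      have h1 := congrArg (fun X => Ps * X * Psᵀ) hu'
      have h2 : Ps * Psᵀ = 1 := mul_eq_one_comm.mp (factorPerm_transpose_mul σ)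
      calc tens M = (Ps * Psᵀ) * tens M * (Ps * Psᵀ) := by rw [h2, one_mul, mul_one]
        _ = Ps * (Psᵀ * tens M * Ps) * Psᵀ := by simp only [mul_assoc]
        _ = 1 := by rw [hu', mul_one, h2]
    have ha : ∀ i, Small.IsUn S (a i : Matrix (Fin 3) (Fin 3) F) := by
      intro i
      obtain ⟨k, hk0, hk⟩ := tens_eq_one_imp hM1 i
      have hk1 : k = 1 := by
        have hσk : S.σ k = k := by
          have h1 : (M i)ᵀ.map S.σ = M i := by
            rw [hM]
            ext u v
            simp only [Matrix.map_apply, Matrix.transpose_apply, Matrix.mul_apply, map_sum, map_mul, S.invol]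
            exact Finset.sum_congr rfl fun _ _ => mul_comm _ _
          rw [hk] at h1
          simpa using congrFun (congrFun h1 0) 0
        have h2 := Small.norm_one S hk0
        rw [hσk] at h2
        rcases mul_self_eq_one_iff.mp h2 with h3 | h3
        · exact h3
        · rw [h3, neg_eq_iff_add_eq_zero, one_add_one_eq_two]; exact Small.two_eq_zero S
      show M i = 1
      rw [hk, hk1, one_smul]
    obtain ⟨b', -, hb'⟩ := hnorm a σ ha b
    exact ⟨b', hb'.symm⟩
  -- commutators and scalars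
  have hscal : ∀ k : Fˣ, Units.map (Matrix.scalar (Fin n) : F →+* _).toMonoidHom k ∈ R := by
    intro k
    let i₀ : Fin t := ⟨0, ht⟩
    let z : Small.group3 F := ⟨Units.map (Matrix.scalar (Fin 3) : F →+* _).toMonoidHom k,
      ⟨0, fun _ => (k : F), fun _ => k.ne_zero, by
        have := Small.cube S k.ne_zero
        linear_combination this, by
        ext u v; simp [Small.mono, Matrix.diagonal_apply, eq_comm]⟩⟩
    refine ⟨Function.update 1 i₀ z, Units.ext ?_⟩
    rw [hΨ]
    have h1 : (fun i => (((Function.update 1 i₀ z : Fin t → Small.group3 F) i : GL (Fin 3) F) : Matrix (Fin 3) (Fin 3) F)) =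
        fun i => (Function.update (1 : Fin t → F) i₀ (k : F)) i • (1 : Fin t → Matrix (Fin 3) (Fin 3) F) i := by
      funext i
      rcases eq_or_ne i i₀ with rfl | hi
      · simp [z, Matrix.smul_one_eq_diagonal]
      · simp [Function.update_of_ne hi]
    rw [h1, tens_smul, tens_one, map_smul, map_one,
      Fintype.prod_eq_single i₀ (fun j hj => by simp [Function.update_of_ne hj]), Function.update_self]
    simp [Matrix.smul_one_eq_diagonal]
  have hgcd : 3 * Nat.gcd 2 3 = 3 := by norm_num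
  have hp : PreTypeTwo 3 R := by
    refine ⟨Nat.prime_three, ?_, ?_, ?_⟩
    · refine absIrred_of_adjoin_top ?_
      set A₀ := (Algebra.adjoin F (Geo.matrixSet R)).comap (tr e P).toAlgHom with hA₀
      have htop : A₀ = ⊤ := by
        refine eq_top_of_slots fun i M => ?_
        have hlin : ∀ (x y : Matrix (Fin 3) (Fin 3) F), slot i (x + y) = slot i x + slot i y ∧
            slot i (x * y) = slot i x * slot i y := fun x y => by
          refine ⟨?_, ?_⟩
          · ext u v; simp [slot_apply, add_mul]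
          · rw [slot, slot, slot, tens_mul]
            congr 1
            funext j
            rcases eq_or_ne j i with rfl | hj
            · simp
            · simp [Function.update_of_ne hj]
        have hsm : ∀ (k : F) (x : Matrix (Fin 3) (Fin 3) F), slot i (k • x) = k • slot i x := fun k x => by
          ext u v; simp [slot_apply, mul_assoc]
        have hone : slot i (1 : Matrix (Fin 3) (Fin 3) F) = 1 := by 
          rw [slot, show Function.update (1 : Fin t → Matrix (Fin 3) (Fin 3) F) i 1 = 1 from Function.update_eq_self i 1,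
            tens_one]
        have hgen : ∀ x ∈ Algebra.adjoin F (Geo.matrixSet (Small.group3 F)), slot i x ∈ A₀ := by
          intro x hx
          induction hx using Algebra.adjoin_induction with
          | mem y hy =>
            obtain ⟨g, hg, rfl⟩ := hy
            rw [hA₀, Subalgebra.mem_comap]
            show tr e P (slot i _) ∈ _
            refine Algebra.subset_adjoin ⟨Ψ (Function.update 1 i ⟨g, hg⟩), ⟨_, rfl⟩, ?_⟩
            show ((Ψ _ : GL (Fin n) F) : Matrix (Fin n) (Fin n) F) = _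
            rw [hΨ, slot]
            congr 2
            funext j
            rcases eq_or_ne j i with rfl | hj
            · simp
            · simp [Function.update_of_ne hj]
          | algebraMap k => rw [Algebra.algebraMap_eq_smul_one, hsm, hone]; exact Subalgebra.smul_mem _ (one_mem _) _
          | add a b _ _ ha hb => rw [(hlin a b).1]; exact add_mem ha hb
          | mul a b _ _ ha hb => rw [(hlin a b).2]; exact mul_mem ha hb
        refine hgen M ?_
        rw [Matrix.matrix_eq_sum_single M]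
        refine sum_mem fun u _ => sum_mem fun v _ => ?_
        rw [show Matrix.single u v (M u v) = M u v • Matrix.single u v (1 : F) by simp [Matrix.smul_single]]
        exact Subalgebra.smul_mem _ (Small.single_mem S u v) _
      rw [Algebra.eq_top_iff]
      intro X
      obtain ⟨Y, rfl⟩ := (tr e P).surjective X
      exact (htop ▸ Algebra.mem_top : Y ∈ A₀)
    · rintro _ ⟨b, rfl⟩
      rw [hgcd, ← map_pow, show b ^ 3 = 1 from funext fun i => Subtype.ext (Small.pow_three S (b i).2), map_one]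
    · rintro _ ⟨b, rfl⟩ _ ⟨b', rfl⟩
      choose k hk0 hk using fun i => Small.comm_scalar S (b i).2 (b' i).2
      refine Aschbacher.mem_scalars_of_smul (c := ∏ i, k i) ?_
      have hcomm : ((Ψ b * Ψ b' : GL (Fin n) F) : Matrix (Fin n) (Fin n) F) =
          (∏ i, k i) • ((Ψ b' * Ψ b : GL (Fin n) F) : Matrix (Fin n) (Fin n) F) := by
        rw [Units.val_mul, Units.val_mul, hΨ, hΨ, ← map_mul, ← map_mul, ← map_smul, tens_mul, tens_mul, ← tens_smul]
        congr 2
        exact funext hk
      rw [commutatorElement_def, show Ψ b * Ψ b' * (Ψ b)⁻¹ * (Ψ b')⁻¹ = Ψ b * Ψ b' * (Ψ b' * Ψ b)⁻¹ by group,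
        Units.val_mul, hcomm, Matrix.smul_mul, Units.mul_inv]
  have hcenter : Nat.card (Subgroup.center R) = 3 := by
    have hF : Nat.card Fˣ = 3 := by
      rw [Nat.card_eq_fintype_card, Fintype.card_units, Small.card_four S]
    rw [← hF]
    refine (Nat.card_eq_of_bijective (fun u : Fˣ =>
      (⟨⟨_, hscal u⟩, (hp.center_iff ⟨_, hscal u⟩).mpr ⟨u, rfl⟩⟩ : Subgroup.center R)) ⟨fun u u' he => ?_, fun x => ?_⟩).symm
    · have h1 := congrArg (fun x : Subgroup.center R => (((x : R) : GL (Fin n) F) : Matrix (Fin n) (Fin n) F) 0 0) he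
      exact Units.ext (by simpa using h1)
    · obtain ⟨u, hu⟩ := (hp.center_iff (x : R)).mp x.2
      exact ⟨u, Subtype.ext (Subtype.ext hu)⟩
  refine ⟨_, Or.inl <| Or.inr <| Or.inr <| Or.inr <| Or.inr <| Or.inr <| Or.inr <| Or.inr
    ⟨3, R, 2, 2, t, ⟨Nat.prime_three, hp.isPGroup, ?_, ?_⟩, hp.absIrred, ?_, by norm_num, ?_,
      Or.inl ⟨by decide, hcenter, ht, ?_⟩, rfl⟩, le_inf (fun g hg => ?_) hH⟩
  · -- characteristic abelian subgroups are scalar
    intro A hA hAc
    have hsc : ∀ a : A, ((a : R) : GL (Fin n) F) ∈ Geo.scalars (Fin n) F := by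
      by_contra hcon
      push Not at hcon
      obtain ⟨a, ha⟩ := hcon
      obtain ⟨b, hb⟩ := (a : R).2
      obtain ⟨i, hi⟩ : ∃ i, (b i : GL (Fin 3) F) ∉ Geo.scalars (Fin 3) F := by
        by_contra hall
        push Not at hall
        choose k hk using fun i => (Geo.mem_scalars_iff _).mp (hall i)
        refine ha (Aschbacher.mem_scalars_of_smul (c := ∏ i, (k i : F)) ?_)
        rw [← hb, hΨ, show (fun i => ((b i : GL (Fin 3) F) : Matrix (Fin 3) (Fin 3) F)) =
          fun i => (fun i => (k i : F)) i • (1 : Fin t → Matrix (Fin 3) (Fin 3) F) i from funext hk, tens_smul, tens_one,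
          map_smul, map_one]
      obtain ⟨h, hh, hne⟩ := Small.exists_noncommuting S (b i).2 hi
      have hun : ∀ (j : Fin t), Small.IsUn S ((Function.update 1 i h : Fin t → GL (Fin 3) F) j : Matrix (Fin 3) (Fin 3) F) := by
        intro j
        rcases eq_or_ne j i with rfl | hj
        · simpa using hh
        · rw [Function.update_of_ne hj, Pi.one_apply, Units.val_one, Small.IsUn, Matrix.transpose_one, one_mul]
          exact Matrix.map_one _ (map_zero _) (map_one _)
      set u := transHom e P (tensGL (Function.update 1 i h) * factorPerm 1) with hu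
      have hmem : ∀ y : R, u * y * u⁻¹ ∈ R := by
        rintro ⟨_, b₁, rfl⟩
        obtain ⟨b', -, hb'⟩ := hnorm _ 1 hun b₁
        exact ⟨b', hb'.symm⟩
      let f : R →* R :=
        { toFun := fun y => ⟨u * y * u⁻¹, hmem y⟩
          map_one' := Subtype.ext (by simp)
          map_mul' := fun y y' => Subtype.ext (by simp [mul_assoc]) }
      have hf : Function.Bijective f := Finite.injective_iff_bijective.mp fun y y' hyy =>
        Subtype.ext (mul_left_cancel (mul_right_cancel
          (show u * (y : GL (Fin n) F) * u⁻¹ = u * y' * u⁻¹ from congrArg Subtype.val hyy)))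
      have hfa : f (a : R) ∈ A := (Subgroup.characteristic_iff_le_comap.mp hA (MulEquiv.ofBijective f hf)) a.2
      have hcm : ((a : R) : GL (Fin n) F) * (u * (a : R) * u⁻¹) = (u * (a : R) * u⁻¹) * (a : R) :=
        congrArg (fun x : A => ((x : R) : GL (Fin n) F)) (hAc.is_comm.comm a ⟨_, hfa⟩)
      obtain ⟨b', hb'i, hb'⟩ := hnorm _ 1 hun b
      rw [← hb, hu, hb', ← map_mul, ← map_mul] at hcm
      have hcm2 := congrArg Units.val ((transHom_injective e P).eq_iff.mp
        (show transHom e P (tensGL fun j => ((b * b') j : GL (Fin 3) F)) =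
          transHom e P (tensGL fun j => ((b' * b) j : GL (Fin 3) F)) from hcm))
      have hbj : ∀ j, j ≠ i → (b' j : GL (Fin 3) F) = b j := fun j hj => by
        rw [hb'i, Function.update_of_ne hj, show (1 : Equiv.Perm (Fin t)).symm j = j from rfl]; simp
      have hfac := tens_update_inj (i := i) hcm2 (fun j hj => by
        show (((b * b') j : Small.group3 F) : GL (Fin 3) F).val = (((b' * b) j : Small.group3 F) : GL (Fin 3) F).val
        simp only [Pi.mul_apply, Subgroup.coe_mul, hbj j hj]) (fun j _ => Units.ne_zero _)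
      refine hne (Units.ext ?_)
      have h4 : (b' i : GL (Fin 3) F) = h * b i * h⁻¹ := by
        rw [hb'i, show (1 : Equiv.Perm (Fin t)).symm i = i from rfl]; simp
      rw [← h4]
      exact hfac
    let ev : A →* F :=
      { toFun := fun a => (((a : R) : GL (Fin n) F) : Matrix (Fin n) (Fin n) F) 0 0
        map_one' := by simp
        map_mul' := fun a a' => by
          obtain ⟨k, hk⟩ := (Geo.mem_scalars_iff _).mp (hsc a)
          obtain ⟨k', hk'⟩ := (Geo.mem_scalars_iff _).mp (hsc a')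
          simp [hk, hk', mul_comm] }
    refine isCyclic_of_subgroup_isDomain ev fun a a' he => ?_
    obtain ⟨k, hk⟩ := (Geo.mem_scalars_iff _).mp (hsc a)
    obtain ⟨k', hk'⟩ := (Geo.mem_scalars_iff _).mp (hsc a')
    simp only [ev, MonoidHom.coe_mk, OneHom.coe_mk, hk, hk', Matrix.smul_apply, Matrix.one_apply_eq, smul_eq_mul,
      mul_one] at he
    exact Subtype.ext (Subtype.ext (Units.ext (by rw [hk, hk', he])))
  · -- exponent
    rw [hgcd]
    have hdvd : Monoid.exponent R ∣ 3 :=
      Monoid.exponent_dvd_of_forall_pow_eq_one fun x => Subtype.ext (by simpa [hgcd] using hp.pow x x.2)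
    rcases (Nat.dvd_prime Nat.prime_three).mp hdvd with h1 | h1
    · exfalso
      haveI := Monoid.exp_eq_one_iff.mp h1
      haveI : Subsingleton (Subgroup.center R) := ⟨fun a b => Subtype.ext (Subsingleton.elim _ _)⟩
      rw [Nat.card_unique] at hcenter
      omega
    · exact h1
  · intro g hg
    exact ⟨1, fun u v => by rw [Units.val_one, one_mul]; exact hR_GU hg u v⟩
  · rw [hcenter]
    refine ⟨Nat.prime_two, ?_, Small.card_four S, by norm_num, fun d hd hd2 => ?_⟩
    · obtain ⟨p, hp'⟩ := CharP.exists F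
      have h2 : p ∣ 2 := (CharP.cast_eq_zero_iff F p 2).mp (by exact_mod_cast Small.two_eq_zero S)
      rcases (Nat.dvd_prime Nat.prime_two).mp h2 with h | h
      · exact absurd h (CharP.char_is_prime F p).ne_one
      · exact h ▸ hp'
    · interval_cases d
      norm_num
  · rw [hp.card_eq, hcenter, Fintype.card_fin, hn3, ← pow_mul, ← pow_succ, add_comm 1, mul_comm t]
  · exact Subgroup.mem_normalizer_iff.mpr fun x => ⟨hHn g hg x, fun hx => by
      simpa [mul_assoc] using hHn g⁻¹ (inv_mem hg) _ hx⟩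

/-- A tensor power decomposition of the form. -/
theorem inGU_power (S : UField F q) (hn : 2 ≤ n) (hH : H ≤ GU n F q) (hirr : Irr H) {d t : ℕ} (hd : 2 ≤ d)
    (ht : 2 ≤ t) (e : Fin n ≃ (Fin t → Fin d)) (P : GL (Fin n) F) (hle : H ≤ Geo.tensorWreathSubgroup d t e P)
    {c : F} (hc : c ≠ 0) (G : Fin t → GL (Fin d) F)
    (hG : ∀ i, (G i : Matrix (Fin d) (Fin d) F)ᵀ.map S.σ = (G i : Matrix (Fin d) (Fin d) F))
    (hgram : (((S.data n).transport e P).gram : Matrix (Fin t → Fin d) (Fin t → Fin d) F) =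
      c • tens fun i => (G i : Matrix (Fin d) (Fin d) F)) : InGU q H := by
  classical
  obtain ⟨P', hPeq, hP'⟩ := exists_normalised S e P G hG hgram
  rw [← hPeq] at hle
  rcases Nat.lt_or_ge d 3 with hd3 | hd3
  · obtain rfl : d = 2 := by omega
    exact inGU_power_two S hn hH hirr e P' hle hP'
  by_cases hsmall : q = 2 ∧ d = 3
  · obtain ⟨rfl, rfl⟩ := hsmall
    exact inGU_power_small S hH (by omega) e P' hle hc hP'
  refine ⟨_, Or.inr <| Or.inr <| Or.inr ⟨d, t, e, P', (S.data d).form, hd3, ht, hsmall, ?_, ⟨c, hc, ?_⟩, rfl⟩,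
    le_inf hle hH⟩
  · exact S.hdata_form 1 (by rw [Units.val_one, Matrix.transpose_one]; exact Matrix.map_one _ (map_zero _) (map_one _))
  · intro x y
    rw [gramMatrix_form, S.data_gram, ← S.data_form, FormData.transport_form, FormData.form,
      FormData.transport_gram, S.data_gram, mul_one, show (S.data n).σ = S.σ from rfl, hP', map_smul, map_one]
    have h1 : ∀ a b : Fin t → Fin d, (∏ i, (1 : Matrix (Fin d) (Fin d) F) (a i) (b i)) =
        (1 : Matrix (Fin t → Fin d) (Fin t → Fin d) F) a b := fun a b => by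
      rw [← tens_one]; rfl
    simp only [h1, show ((S.data n).transport e P').σ = S.σ from rfl]
    simp [dotProduct, Matrix.smul_mulVec, Matrix.one_apply, Finset.mul_sum, S.pow]
    exact Finset.sum_congr rfl fun _ _ => by ring

end Cfsg.Agent.MaxSub.Asch
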