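import Mathlib
import Cfsg.Agent.MaxSub.Asch.UnitaryPower
import Cfsg.Agent.MaxSub.Asch.SymplecticTensor
import Cfsg.Agent.MaxSub.Asch.Nonabelian

/-!
Unitary groups with a normal subgroup that is not absolutely irreducible.
-/

set_option autoImplicit false
set_option linter.unusedSectionVars false
set_option linter.style.haveILetI false

namespace Cfsg.Agent.MaxSub.Asch

open scoped MatrixGroups Matrix Kronecker
open Module
open Cfsg.Agent.Aschbacher (NormalIn Inv Irr)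

variable {F : Type*} [Field F] [Fintype F] {n q : ℕ} {H : Subgroup (GL (Fin n) F)}

theorem smul_conjT (S : UField F q) {κ : Type} (c : F) (M : Matrix κ κ F) :
    (c • M)ᵀ.map S.σ = S.σ c • Mᵀ.map S.σ := by
  ext i j; simp

/-- Two tensor factors of different dimensions. -/
theorem inGU_tensor_lt (S : UField F q) (hH : H ≤ GU n F q) {d k : ℕ} (hd : 2 ≤ d) (hdk : d < k)
    (e : Fin n ≃ Fin d × Fin k) (P : GL (Fin n) F) (hle : H ≤ Geo.tensorProductSubgroup d k e P)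
    (G₁ : GL (Fin d) F) (G₂ : GL (Fin k) F)
    (h₁ : (G₁ : Matrix (Fin d) (Fin d) F)ᵀ.map S.σ = (G₁ : Matrix (Fin d) (Fin d) F))
    (h₂ : (G₂ : Matrix (Fin k) (Fin k) F)ᵀ.map S.σ = (G₂ : Matrix (Fin k) (Fin k) F))
    (hgram : (((S.data n).transport e P).gram : Matrix (Fin d × Fin k) (Fin d × Fin k) F) =
      (G₁ : Matrix (Fin d) (Fin d) F) ⊗ₖ (G₂ : Matrix (Fin k) (Fin k) F)) : InGU q H := by
  refine ⟨_, Or.inr <| Or.inr <| Or.inl ⟨d, k, e, P, (S.hdata G₁ h₁).form, (S.hdata G₂ h₂).form, hd, hdk,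
    S.hdata_form G₁ h₁, S.hdata_form G₂ h₂, ⟨1, one_ne_zero, ?_⟩, rfl⟩, le_inf hle hH⟩
  intro x y
  rw [gramMatrix_form, gramMatrix_form, ← S.data_form, FormData.transport_form, FormData.form, hgram, one_mul,
    show ((S.data n).transport e P).σ = S.σ from rfl]
  simp only [Geo.formOfGram, dotProduct, Matrix.mulVec, Finset.mul_sum, UField.hdata, S.pow]
  exact Finset.sum_congr rfl fun _ _ => Finset.sum_congr rfl fun _ _ => (mul_assoc _ _ _).symm

/-- Two tensor factors. -/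
theorem inGU_tensor (S : UField F q) (hn : 2 ≤ n) (hH : H ≤ GU n F q) (hirr : Irr H) {d k : ℕ} (hd : 2 ≤ d)
    (hk : 2 ≤ k) (e : Fin n ≃ Fin d × Fin k) (P : GL (Fin n) F) (hle : H ≤ Geo.tensorProductSubgroup d k e P)
    (G₁ : GL (Fin d) F) (G₂ : GL (Fin k) F)
    (h₁ : (G₁ : Matrix (Fin d) (Fin d) F)ᵀ.map S.σ = (G₁ : Matrix (Fin d) (Fin d) F))
    (h₂ : (G₂ : Matrix (Fin k) (Fin k) F)ᵀ.map S.σ = (G₂ : Matrix (Fin k) (Fin k) F))
    (hgram : (((S.data n).transport e P).gram : Matrix (Fin d × Fin k) (Fin d × Fin k) F) =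
      (G₁ : Matrix (Fin d) (Fin d) F) ⊗ₖ (G₂ : Matrix (Fin k) (Fin k) F)) : InGU q H := by
  rcases Nat.lt_trichotomy d k with hlt | heq | hgt
  · exact inGU_tensor_lt S hH hd hlt e P hle G₁ G₂ h₁ h₂ hgram
  · subst heq
    refine inGU_power S hn hH hirr hd le_rfl _ P (hle.trans (tensor_le_wreath e P)) one_ne_zero ![G₁, G₂]
      (fun i => ?_) ?_
    · fin_cases i
      · exact h₁
      · exact h₂
    · ext x y
      have h := congrFun (congrFun hgram (x 0, x 1)) (y 0, y 1)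
      rw [FormData.transport_gram] at h ⊢
      rw [one_smul, tens_apply, Fin.prod_univ_two]
      simp only [Matrix.kroneckerMap_apply] at h
      exact h
  · refine inGU_tensor_lt S hH hk hgt _ P (hle.trans (tensor_swap_sum e P)) G₂ G₁ h₂ h₁ ?_
    ext ⟨i, a⟩ ⟨j, b⟩
    have h := congrFun (congrFun hgram (a, i)) (b, j)
    rw [FormData.transport_gram] at h ⊢
    simp only [Matrix.kroneckerMap_apply] at h ⊢
    rw [mul_comm, ← h]
    rfl

/-- A normal subgroup that is not absolutely irreducible. -/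
theorem inGU_clifford (S : UField F q) (hn : 2 ≤ n) (hH : H ≤ GU n F q) (hirr : Irr H)
    {L : Subgroup (GL (Fin n) F)} (hLG : L ≤ H ⊔ Geo.scalars (Fin n) F)
    (hL : NormalIn L (H ⊔ Geo.scalars (Fin n) F))
    (hns : ¬ L ≤ Geo.scalars (Fin n) F) (habs : ¬ Geo.ActsAbsolutelyIrreducibly (Geo.matrixSet L)) :
    InGU q H := by
  classical
  haveI : Nonempty (Fin n) := ⟨⟨0, by omega⟩⟩
  have hLH : NormalIn L H := fun g hg x hx => hL g (Subgroup.mem_sup_left hg) x hx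
  have hsimL : ∀ g ∈ L, (S.data n).IsSim g := fun g hg => S.isSim_of_mem hH (hLG hg)
  by_cases hdim : finrank F (zalg L) = 1
  swap
  · exact inGU_algebra S (by omega) hH hirr (Z := zalg L)
      (fun x hx y hy => (mem_zalg.mp hy).2 x (mem_zalg.mp hx).1)
      (fun z hz hn => zalg_reduced hLH hirr hz hn)
      (fun z hz => (S.data n).adj_mem_zalg hsimL hz)
      (fun g hg z hz => conj_mem_zalg hLH hg hz) hdim
  obtain ⟨d, k, e, P, φ, hd, hk, hφr, hφe, hle⟩ := exists_tensor hLH hirr hns habs hdim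
  haveI : Nonempty (Fin d) := ⟨⟨0, by omega⟩⟩
  haveI : Nonempty (Fin k) := ⟨⟨0, by omega⟩⟩
  have hA : ∀ M : Matrix (Fin d) (Fin d) F, ∃ M', ((S.data n).transport e P).adj
      (M ⊗ₖ (1 : Matrix (Fin k) (Fin k) F)) = M' ⊗ₖ (1 : Matrix (Fin k) (Fin k) F) := fun M => by
    obtain ⟨M', hM'⟩ : (S.data n).adj (φ M) ∈ φ.range := by
      rw [hφr]; exact (S.data n).adj_mem_alg hsimL (hφr ▸ ⟨M, rfl⟩)
    refine ⟨M', (tr e P).injective ?_⟩
    rw [FormData.transport_adj, ← hφe, ← hφe]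
    exact hM'.symm
  obtain ⟨G₁, G₂, hgram⟩ := ((S.data n).transport e P).exists_gram_factor (by omega) (by omega) hA
  have hherm : (G₁ : Matrix (Fin d) (Fin d) F)ᵀ.map S.σ ⊗ₖ (G₂ : Matrix (Fin k) (Fin k) F)ᵀ.map S.σ =
      (G₁ : Matrix (Fin d) (Fin d) F) ⊗ₖ (G₂ : Matrix (Fin k) (Fin k) F) := by
    have h := ((S.data n).transport e P).herm
    rw [hgram, show ((S.data n).transport e P).σ = S.σ from rfl,
      show ((S.data n).transport e P).ε = 1 from rfl, one_smul] at h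
    rw [← h]
    ext ⟨a, i⟩ ⟨b, j⟩
    simp
  obtain ⟨a, ha⟩ := kronecker_eq_imp hherm (by
    intro h
    refine G₂.ne_zero (Matrix.ext fun i j => ?_)
    have h1 := congrFun (congrFun h j) i
    simpa using h1)
  have haa : S.σ a * a = 1 := by
    have h : S.σ a • (G₁ : Matrix (Fin d) (Fin d) F)ᵀ.map S.σ = (G₁ : Matrix (Fin d) (Fin d) F) := by
      rw [← smul_conjT, ← ha]
      ext i j; simp [S.invol]
    rw [ha, smul_smul] at h
    exact smul_left_injective F G₁.ne_zero (h.trans (one_smul F _).symm)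
  have ha0 : a ≠ 0 := right_ne_zero_of_mul_eq_one haa
  obtain ⟨x, hx⟩ : ∃ x, S.σ x ≠ x := by
    by_contra hcon
    push Not at hcon
    exact S.ne_id (RingHom.ext hcon)
  obtain ⟨c, hc0, hc, -⟩ := S.hilbert90 (a := a⁻¹) (by
    rw [map_inv₀, ← mul_inv, mul_comm, haa, inv_one]) hx
  have hG1 : (c • (G₁ : Matrix (Fin d) (Fin d) F))ᵀ.map S.σ = c • (G₁ : Matrix (Fin d) (Fin d) F) := by
    rw [smul_conjT, ha, smul_smul, hc]
    congr 1
    field_simp
  have hG2 : (c⁻¹ • (G₂ : Matrix (Fin k) (Fin k) F))ᵀ.map S.σ = c⁻¹ • (G₂ : Matrix (Fin k) (Fin k) F) := by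
    refine kronecker_left_cancel (A := c • (G₁ : Matrix (Fin d) (Fin d) F)) ?_ (smul_ne_zero hc0 G₁.ne_zero)
    conv_lhs => rw [← hG1, smul_conjT, smul_conjT, Matrix.smul_kronecker, Matrix.kronecker_smul, smul_smul, hherm,
      map_inv₀, mul_inv_cancel₀ ((map_ne_zero S.σ).mpr hc0), one_smul]
    rw [Matrix.smul_kronecker, Matrix.kronecker_smul, smul_smul, mul_inv_cancel₀ hc0, one_smul]
  exact inGU_tensor S hn hH hirr hd hk e P hle
    (Units.mk0 c hc0 • G₁) (Units.mk0 c⁻¹ (inv_ne_zero hc0) • G₂) hG1 hG2 (by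
    rw [hgram, Units.val_smul, Units.val_smul]
    show _ = (c • (G₁ : Matrix (Fin d) (Fin d) F)) ⊗ₖ (c⁻¹ • (G₂ : Matrix (Fin k) (Fin k) F))
    rw [Matrix.smul_kronecker, Matrix.kronecker_smul, smul_smul, mul_inv_cancel₀ hc0, one_smul])

/-- A tensor power of a perfect group. -/
theorem inGU_wreath (S : UField F q) (hn : 2 ≤ n) (hH : H ≤ GU n F q) (hirr : Irr H) {d t : ℕ}
    {e : Fin n ≃ (Fin t → Fin d)} {P : GL (Fin n) F}
    {φ : Matrix (Fin d) (Fin d) F →ₐ[F] Matrix (Fin n) (Fin n) F} {M₀ : Subgroup (GL (Fin n) F)}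
    {g : Fin t → GL (Fin n) F} (hw : PowerData (H ⊔ Geo.scalars (Fin n) F) d t e P φ M₀ g) : InGU q H := by
  classical
  haveI : Nonempty (Fin n) := ⟨⟨0, by omega⟩⟩
  have hd := hw.two_le_dim
  have ht := hw.two_le
  haveI : Nonempty (Fin d) := ⟨⟨0, by omega⟩⟩
  obtain ⟨c, G₁, hc0, hgram⟩ := (S.data n).exists_power_gram (by omega) e P φ g
    (fun i => S.isSim_of_mem hH (hw.conj_mem i)) (fun M => by
      rw [hw.range_eq]
      exact (S.data n).adj_mem_alg (fun x hx => S.isSim_of_mem hH (hw.base_le hx)) (hw.range_eq ▸ ⟨M, rfl⟩))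
    hw.slot_eq (fun T hT => slot_centraliser hT)
  set g₁ := (G₁ : Matrix (Fin d) (Fin d) F) with hg₁
  have hherm : tens (fun _ : Fin t => g₁ᵀ.map S.σ) = (c / S.σ c) • tens (fun _ : Fin t => g₁) := by
    have h := ((S.data n).transport e P).herm
    rw [hgram, show ((S.data n).transport e P).σ = S.σ from rfl, show ((S.data n).transport e P).ε = 1 from rfl,
      one_smul, smul_conjT, tens_transpose, tens_map] at h
    have h2 := congrArg ((S.σ c)⁻¹ • ·) h
    simp only [smul_smul, inv_mul_cancel₀ ((map_ne_zero S.σ).mpr hc0), one_smul] at h2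
    rw [h2, div_eq_inv_mul]
  obtain ⟨a, ha, hat⟩ := tens_const_eq (by omega) hherm G₁.ne_zero (div_ne_zero hc0 ((map_ne_zero S.σ).mpr hc0))
  have haa : S.σ a * a = 1 := by
    have h : S.σ a • g₁ᵀ.map S.σ = g₁ := by
      rw [← smul_conjT, ← ha]
      ext i j; simp [S.invol]
    rw [ha, smul_smul] at h
    exact smul_left_injective F G₁.ne_zero (h.trans (one_smul F _).symm)
  have ha0 : a ≠ 0 := right_ne_zero_of_mul_eq_one haa
  obtain ⟨x, hx⟩ : ∃ x, S.σ x ≠ x := by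
    by_contra hcon
    push Not at hcon
    exact S.ne_id (RingHom.ext hcon)
  obtain ⟨k, hk0, hk, -⟩ := S.hilbert90 (a := a⁻¹) (by
    rw [map_inv₀, ← mul_inv, mul_comm, haa, inv_one]) hx
  have hG1 : (k • g₁)ᵀ.map S.σ = k • g₁ := by
    rw [smul_conjT, ha, smul_smul, hk]
    congr 1
    field_simp
  refine inGU_power S hn hH hirr hd ht e P (le_sup_left.trans hw.le_wreath) (c := c / k ^ t)
    (div_ne_zero hc0 (pow_ne_zero _ hk0)) (fun _ => Units.mk0 k hk0 • G₁) (fun _ => hG1) ?_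
  rw [hgram]
  show _ = (c / k ^ t) • tens fun i : Fin t => (fun _ => k) i • (fun _ => g₁) i
  rw [tens_smul, Fin.prod_const, smul_smul, div_mul_cancel₀ _ (pow_ne_zero _ hk0)]

end Cfsg.Agent.MaxSub.Asch
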