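import Mathlib
import Cfsg.Agent.MaxSub.Asch.UnitaryTensor
import Cfsg.Agent.MaxSub.Asch.SymplecticMain

/-!
The subgroup structure theorem for the finite unitary groups.
-/

set_option autoImplicit false
set_option linter.unusedSectionVars false
set_option linter.style.haveILetI false

namespace Cfsg.Agent.MaxSub.Asch

open scoped MatrixGroups Matrix commutatorElement
open Module
open Cfsg.Agent.Aschbacher (NormalIn Inv Irr Core irr_iff)

variable {F : Type*} [Field F] [Fintype F] {n q : ℕ} {H : Subgroup (GL (Fin n) F)}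

/-- A group of symplectic type. -/
theorem inGU_typeTwo (S : UField F q) (hn : 3 ≤ n) (hH : H ≤ GU n F q) (hirr : Irr H)
    {R : Subgroup (GL (Fin n) F)} {r : ℕ} (hRG : R ≤ H ⊔ Geo.scalars (Fin n) F)
    (h : TypeTwo r (H ⊔ Geo.scalars (Fin n) F) R) : InGU q H := by
  classical
  haveI : NeZero n := ⟨by omega⟩
  have hn1 : 1 < Fintype.card (Fin n) := by simp; omega
  set G := H ⊔ Geo.scalars (Fin n) F with hG
  set N := r * Nat.gcd 2 r with hN
  obtain ⟨p, hp⟩ := CharP.exists F
  have hpp : p.Prime := CharP.char_is_prime F p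
  have hrp : r ≠ p := fun e' => h.ne_zero (by rw [e']; exact CharP.cast_eq_zero F p)
  have hN' : (r = 2 ∧ N = 4) ∨ (Odd r ∧ N = r) := by
    rcases h.prime.eq_two_or_odd' with h2 | h2
    · left; exact ⟨h2, by rw [hN, h2]; norm_num⟩
    · right
      refine ⟨h2, ?_⟩
      rw [hN, show Nat.gcd 2 r = 1 from Nat.coprime_two_left.mpr h2, mul_one]
  have hNpos : 0 < N := Nat.mul_pos h.prime.pos (Nat.gcd_pos_of_pos_left _ two_pos)
  haveI : NeZero N := ⟨hNpos.ne'⟩
  -- a primitive root of unity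
  obtain ⟨ω, hω⟩ : ∃ ω : F, IsPrimitiveRoot ω N := by
    rcases hN' with ⟨h2, h4⟩ | ⟨hodd, hNr⟩
    · have hp2 : p % 2 = 1 := (hpp.eq_two_or_odd).resolve_left fun e' => hrp (h2.trans e'.symm)
      have hcard : Odd (Fintype.card F) := by
        obtain ⟨f, -, hf⟩ := FiniteField.card F p
        rw [hf]; exact (Nat.odd_iff.mpr hp2).pow
      have hq : Odd q := by rwa [S.card, Nat.odd_pow_iff two_ne_zero] at hcard
      obtain ⟨a, ha⟩ : 4 ∣ Fintype.card F - 1 := by
        obtain ⟨a, rfl⟩ := hq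
        rw [S.card, show (2 * a + 1) ^ 2 = 4 * (a * (a + 1)) + 1 by ring, Nat.add_sub_cancel]
        exact dvd_mul_right _ _
      obtain ⟨g, hg⟩ := IsCyclic.exists_ofOrder_eq_natCard (α := Fˣ)
      have hζ : IsPrimitiveRoot (g : F) (Fintype.card F - 1) := by
        rw [IsPrimitiveRoot.coe_units_iff]
        have := IsPrimitiveRoot.orderOf g
        rwa [hg, Nat.card_eq_fintype_card, Fintype.card_units] at this
      refine ⟨(g : F) ^ a, h4 ▸ hζ.pow ?_ (by rw [ha, mul_comm])⟩
      have := Fintype.one_lt_card (α := F)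
      omega
    · by_contra hω
      refine Aschbacher.irr_not_le_scalars (irr_iff.mpr h.absIrred.1) hn1 fun x hx =>
        Aschbacher.mem_scalars_of_commute h.absIrred fun y hy => commutatorElement_eq_one_iff_mul_comm.mp ?_
      obtain ⟨c, hc⟩ := (Geo.mem_scalars_iff _).mp (h.comm_scalar x hx y hy)
      have h1 := scalar_pow_eq hc r
      rw [h.comm_pow x hx y hy, Units.val_one] at h1
      have h2 : (c : F) ^ r = 1 := (smul_one_inj (ι := Fin n) (by rw [one_smul]; exact h1)).symm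
      by_contra hne
      refine hω ⟨c, hNr ▸ ?_⟩
      haveI : Fact r.Prime := ⟨h.prime⟩
      rw [← orderOf_eq_prime h2 fun e => hne (Units.ext (by rw [hc, e, one_smul, Units.val_one]))]
      exact IsPrimitiveRoot.orderOf _
  -- the multipliers
  have hsim : ∀ x ∈ R, ∃ l : F, l ^ N = 1 ∧ l ≠ 0 ∧
      (x : Matrix (Fin n) (Fin n) F)ᵀ * (x : Matrix (Fin n) (Fin n) F).map S.σ = l • 1 := by
    intro x hx
    obtain ⟨l, hl0, hl⟩ := S.isSim_of_mem hH (hRG hx)
    rw [S.data_gram, mul_one, show (S.data n).σ = S.σ from rfl] at hl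
    have hpow : ∀ k : ℕ, ((x ^ k : GL (Fin n) F) : Matrix (Fin n) (Fin n) F)ᵀ *
        ((x ^ k : GL (Fin n) F) : Matrix (Fin n) (Fin n) F).map S.σ = l ^ k • 1 := by
      intro k
      induction k with
      | zero => rw [pow_zero, pow_zero, Units.val_one, Matrix.transpose_one, one_mul, one_smul,
          Matrix.map_one _ (map_zero _) (map_one _)]
      | succ k ih =>
        rw [pow_succ, pow_succ, Units.val_mul, Matrix.transpose_mul, Matrix.map_mul]
        calc _ = (x : Matrix (Fin n) (Fin n) F)ᵀ * (((x ^ k : GL (Fin n) F) : Matrix (Fin n) (Fin n) F)ᵀ *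
              ((x ^ k : GL (Fin n) F) : Matrix (Fin n) (Fin n) F).map S.σ) * (x : Matrix (Fin n) (Fin n) F).map S.σ := by
              simp only [mul_assoc]
          _ = _ := by rw [ih, Matrix.mul_smul, mul_one, Matrix.smul_mul, hl, smul_smul]
    have h1 := hpow N
    rw [h.pow x hx, Units.val_one, Matrix.transpose_one, one_mul, Matrix.map_one _ (map_zero _) (map_one _)] at h1
    exact ⟨l, (smul_one_inj (ι := Fin n) (by rw [one_smul]; exact h1)).symm, hl0, hl⟩
  have hnH : NormalIn R H := fun g hg x hx => h.normal g (Subgroup.mem_sup_left hg) x hx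
  obtain ⟨b, hb⟩ := h.exists_monomial hω
  have hNdvd : N ∣ Fintype.card F - 1 :=
    hω.dvd_of_pow_eq_one _ (FiniteField.pow_card_sub_one_eq_one ω (hω.ne_zero hNpos.ne'))
  obtain ⟨e, f, hf, he0, hef, hed, hmin⟩ := exists_min_exponent' (F := F) hpp hNdvd
  obtain ⟨m, rfl⟩ := hef
  rcases Nat.lt_or_ge 1 m with hm | hm
  · -- a proper subfield contains the roots of unity
    obtain ⟨F₁, r', hr', hc, hmem⟩ := Aschbacher.exists_prime_index (F := F) (q₀ := p ^ e) hm (by rw [hf, pow_mul])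
    have hF₁ : F₁ ≠ ⊤ := fun ht => by
      rw [(Aschbacher.subfield_eq_top_iff F₁).mp ht] at hc
      exact absurd hc (Nat.ne_of_lt (lt_self_pow₀ Fintype.one_lt_card hr'.one_lt))
    have hroot : ∀ c : F, c ^ N = 1 → c ∈ F₁ := fun c hcN => by
      refine hmem _ ?_
      obtain ⟨l, hl⟩ := hed
      have hpe : p ^ e = N * l + 1 := by have := Nat.one_le_pow e p hpp.pos; omega
      rw [hpe, pow_succ, pow_mul, hcN, one_pow, one_mul]
    refine inGU_of_realisable S (by omega) hH hirr hnH h.absIrred hF₁ (fun s hs => ?_)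
      ⟨Aschbacher.coordGL b, ?_⟩
    · obtain ⟨l, hlN, hl0, hl⟩ := hsim s hs
      exact ⟨l, hroot l hlN, hl0, hl⟩
    rintro _ ⟨s, hs, rfl⟩ i j
    obtain ⟨π, c, hπ, hcN, hsb⟩ := hb s hs
    have hrat : Aschbacher.Rational F₁
        ((Aschbacher.coordGL b * s * (Aschbacher.coordGL b)⁻¹ : GL (Fin n) F) : Matrix (Fin n) (Fin n) F) := by
      refine Aschbacher.rational_of_rationalOn ?_
      intro i k
      rw [hsb, map_smul, Pi.smul_apply, Module.Basis.equivFun_self, smul_eq_mul]
      split_ifs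
      · rw [mul_one]; exact hroot _ (hcN _)
      · rw [mul_zero]; exact zero_mem _
    simpa using hrat i j
  have hm1 : m = 1 := by
    rcases Nat.eq_zero_or_pos m with rfl | h0
    · simp at hf; exact absurd hf (Fintype.one_lt_card.ne')
    · omega
  subst hm1
  rw [mul_one] at hf
  obtain ⟨k, rfl⟩ : ∃ k, e = 2 * k := by
    obtain ⟨k, -, hk⟩ := (Nat.dvd_prime_pow hpp).mp
      (show q ∣ p ^ e by rw [← hf, S.card]; exact dvd_pow_self _ two_ne_zero)
    refine ⟨k, Nat.pow_right_injective hpp.two_le ?_⟩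
    show p ^ e = p ^ (2 * k)
    rw [← hf, S.card, hk, ← pow_mul, mul_comm]
  have hcenter : Nat.card (Subgroup.center R) = N := by
    rw [← hω.card_rootsOfUnity]
    have hscal : ∀ u : rootsOfUnity N F, Units.map (Matrix.scalar (Fin n) : F →+* _).toMonoidHom (u : Fˣ) ∈ R :=
      fun u => h.mem_of_scalar _ ⟨_, rfl⟩ (by rw [← map_pow, (mem_rootsOfUnity N _).mp u.2, map_one])
    refine (Nat.card_eq_of_bijective (fun u : rootsOfUnity N F =>
      (⟨⟨_, hscal u⟩, (h.center_iff ⟨_, hscal u⟩).mpr ⟨_, rfl⟩⟩ : Subgroup.center R)) ⟨fun u u' he' => ?_, fun x => ?_⟩).symm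
    · have h1 := congrArg (fun x : Subgroup.center R => (((x : R) : GL (Fin n) F) : Matrix (Fin n) (Fin n) F) 0 0) he'
      exact Subtype.ext (Units.ext (by simpa using h1))
    · obtain ⟨u, hu⟩ := (h.center_iff (x : R)).mp x.2
      have hmem : u ∈ rootsOfUnity N F := by
        rw [mem_rootsOfUnity]
        refine Units.ext (smul_one_inj (ι := Fin n) ?_)
        have h1 := congrArg Units.val (h.pow _ (x : R).2)
        rw [← hu, ← map_pow] at h1
        simpa [Matrix.smul_one_eq_diagonal, Matrix.diagonal_pow, Pi.pow_def, hN] using h1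
      exact ⟨⟨u, hmem⟩, Subtype.ext (Subtype.ext hu)⟩
  obtain ⟨m, hm1, hmn⟩ := h.exists_pow hn1
  have hcardR := h.card_eq
  rw [hcenter, hmn, ← pow_mul] at hcardR
  refine ⟨_, Or.inl <| Or.inr <| Or.inr <| Or.inr <| Or.inr <| Or.inr <| Or.inr <| Or.inr
    ⟨r, R, p, 2 * k, m, ⟨h.prime, h.isPGroup, ?_, ?_⟩, h.absIrred, ?_, hrp, ?_, ?_, rfl⟩,
    le_inf (fun g hg => Subgroup.mem_normalizer_iff.mpr fun x => ⟨hnH g hg x, fun hx => by
      simpa [mul_assoc] using hnH g⁻¹ (inv_mem hg) _ hx⟩) hH⟩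
  · -- characteristic abelian subgroups are cyclic
    intro A hA hAc
    let M := A.map R.subtype
    have hMR : M ≤ R := Subgroup.map_subtype_le A
    have hMG : NormalIn M G := by
      rintro g hg _ ⟨x, hx, rfl⟩
      let φ : R ≃* R :=
        { toFun := fun y => ⟨g * y * g⁻¹, h.normal g hg y y.2⟩
          invFun := fun y => ⟨g⁻¹ * y * g, by simpa using h.normal g⁻¹ (inv_mem hg) y y.2⟩
          left_inv := fun y => Subtype.ext (by simp [mul_assoc])
          right_inv := fun y => Subtype.ext (by simp [mul_assoc])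
          map_mul' := fun y y' => Subtype.ext (by simp [mul_assoc]) }
      exact ⟨φ x, (Subgroup.characteristic_iff_le_comap.mp hA φ) hx, rfl⟩
    rcases h.minimal M hMR hMG with hMZ | hMZ
    · let ev : A →* F :=
        { toFun := fun a => (((a : R) : GL (Fin n) F) : Matrix (Fin n) (Fin n) F) 0 0
          map_one' := by simp
          map_mul' := fun a a' => by
            obtain ⟨c, hc⟩ := (Geo.mem_scalars_iff _).mp (hMZ ⟨a, a.2, rfl⟩)
            obtain ⟨c', hc'⟩ := (Geo.mem_scalars_iff _).mp (hMZ ⟨a', a'.2, rfl⟩)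
            simp only [Subgroup.coe_subtype] at hc hc'
            simp [hc, hc', mul_comm] }
      refine isCyclic_of_subgroup_isDomain ev fun a a' he' => ?_
      obtain ⟨c, hc⟩ := (Geo.mem_scalars_iff _).mp (hMZ ⟨a, a.2, rfl⟩)
      obtain ⟨c', hc'⟩ := (Geo.mem_scalars_iff _).mp (hMZ ⟨a', a'.2, rfl⟩)
      simp only [Subgroup.coe_subtype] at hc hc'
      simp only [ev, MonoidHom.coe_mk, OneHom.coe_mk, hc, hc', Matrix.smul_apply, Matrix.one_apply_eq, smul_eq_mul,
        mul_one] at he'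
      exact Subtype.ext (Subtype.ext (Units.ext (by rw [hc, hc', he'])))
    · exfalso
      refine Aschbacher.irr_not_le_scalars (irr_iff.mpr h.absIrred.1) hn1 fun x hx =>
        Aschbacher.mem_scalars_of_commute h.absIrred fun y hy => ?_
      obtain ⟨a, ha, z, hz, rfl⟩ := (Subgroup.mem_sup_of_normal_right (ht := Geo.scalars_normal)).mp (hMZ hx)
      obtain ⟨a', ha', z', hz', rfl⟩ := (Subgroup.mem_sup_of_normal_right (ht := Geo.scalars_normal)).mp (hMZ hy)
      obtain ⟨a₀, ha₀, rfl⟩ := ha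
      obtain ⟨a₁, ha₁, rfl⟩ := ha'
      have hcm : Commute (R.subtype a₀) (R.subtype a₁) :=
        congrArg R.subtype (congrArg Subtype.val (hAc.is_comm.comm (⟨a₀, ha₀⟩ : A) ⟨a₁, ha₁⟩))
      have hzc : ∀ g, Commute g z := fun g => Aschbacher.scalars_central hz g
      have hzc' : ∀ g, Commute g z' := fun g => Aschbacher.scalars_central hz' g
      exact ((hcm.mul_right (hzc' _)).mul_left (((hzc _).symm).mul_right (hzc' z))).eq
  · -- the exponent
    refine Nat.dvd_antisymm (Monoid.exponent_dvd_of_forall_pow_eq_one fun x => Subtype.ext (h.pow x x.2)) ?_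
    have hx : Units.map (Matrix.scalar (Fin n) : F →+* _).toMonoidHom (Units.mk0 ω (hω.ne_zero hNpos.ne')) ∈ R :=
      h.mem_of_scalar _ ⟨_, rfl⟩ (by
        rw [← map_pow, show (Units.mk0 ω (hω.ne_zero hNpos.ne')) ^ N = 1 from Units.ext (by simpa using hω.pow_eq_one),
          map_one])
    have h1 := congrArg (fun x : R => ((x : GL (Fin n) F) : Matrix (Fin n) (Fin n) F) 0 0)
      (Monoid.pow_exponent_eq_one (⟨_, hx⟩ : R))
    rw [← hN]
    refine hω.dvd_of_pow_eq_one _ ?_
    simpa [Matrix.diagonal_pow] using h1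
  · intro x hx
    obtain ⟨l, -, hl0, hl⟩ := hsim x hx
    refine ⟨Units.mk0 l hl0, fun u v => ?_⟩
    have hg := S.isGram.comp (x : Matrix (Fin n) (Fin n) F) u v
    simp only at hg
    rw [hg, mul_one, hl, Units.val_mk0, S.isGram u v, Matrix.one_mulVec, Matrix.smul_mulVec, Matrix.one_mulVec,
      dotProduct_smul, smul_eq_mul]
  · rw [hcenter]; exact ⟨hpp, hp, hf, hed, hmin⟩
  · rcases hN' with ⟨h2, h4⟩ | ⟨hodd, hNr⟩
    · refine Or.inr ⟨h2, ?_, by rw [hcenter, h4], ?_⟩
      · by_contra hne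
        have hp2 : p % 2 = 1 := (hpp.eq_two_or_odd).resolve_left fun e' => hrp (h2.trans e'.symm)
        refine hmin 2 two_pos (by omega) ?_
        rw [h4]
        obtain ⟨a, ha⟩ : ∃ a, p = 2 * a + 1 := ⟨p / 2, by omega⟩
        rw [ha, show (2 * a + 1) ^ 2 - 1 = 4 * (a * (a + 1)) from by
          rw [show (2 * a + 1) ^ 2 = 4 * (a * (a + 1)) + 1 by ring]; omega]
        exact dvd_mul_right _ _
      · rw [hcardR, h4, h2, pow_add, mul_comm m 2, mul_comm]
        norm_num
    · refine Or.inl ⟨hodd, by rw [hcenter, hNr], hm1, ?_⟩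
      rw [hcardR, hNr, pow_add, pow_one, mul_comm m 2, mul_comm]

/-- The residual alternative for a core. -/
theorem inGU_or_residual (S : UField F q) (hn : 3 ≤ n) (hH : H ≤ GU n F q) (hirr : Irr H)
    {P : Subgroup (GL (Fin n) F)} (h : Core H P) : InGU q H ∨ Geo.InUnitaryResidualClass H := by
  classical
  haveI : Nonempty (Fin n) := ⟨⟨0, by omega⟩⟩
  have hPI : P ≤ GU n F q := h.le.trans hH
  by_cases hreal : ∃ F₀ : Subfield F, F₀ ≠ ⊤ ∧ Geo.RealisableOver F₀ (Geo.matrixSet P)
  · obtain ⟨F₀, hF₀, hr⟩ := hreal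
    refine Or.inl (inGU_of_realisable S (by omega) hH hirr h.normal h.absIrred hF₀ (fun s hs => ?_) hr)
    have hg := S.gram_of_mem (hPI hs)
    rw [mul_one] at hg
    exact ⟨1, one_mem _, one_ne_zero, by rw [hg, one_smul]⟩
  push Not at hreal
  have key : ∀ f : (Fin n → F) → (Fin n → F) → F, Geo.IsBilinearForm f → Geo.IsNondegenerateForm f →
      Geo.FixesForm (Geo.matrixSet P) f → False := by
    intro f hb hnd hfix
    have hg := Aschbacher.exists_gram (RingHom.id F) f hb.add_left hb.smul_left hb.add_right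
      (fun c v x => hb.smul_right c v x)
    obtain ⟨J, hJ⟩ := Aschbacher.gram_isUnit hg hnd
    obtain ⟨F₀, hF₀, hr⟩ := realisable_of_two_forms S.ne_id S.invol h.absIrred (J := J) (G := 1)
      (fun s hs => by
        have h1 := (Aschbacher.preserves_iff_gram hg _).mp (hfix _ ⟨s, hs, rfl⟩)
        rw [hJ]
        rwa [show (s : Matrix (Fin n) (Fin n) F).map (RingHom.id F) = (s : Matrix _ _ F) from
          Matrix.ext fun _ _ => rfl] at h1)
      (fun s hs => S.gram_of_mem (hPI hs))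
    exact hreal F₀ hF₀ hr
  refine Or.inr ⟨P, h.toResidual hreal, ?_, ?_⟩
  · rintro ⟨Q, hQ, hfix⟩
    refine key _ hQ.polar_bilinear hQ.nondegenerate fun s hs' u v => ?_
    simp only [QuadraticMap.polar, ← Matrix.mulVec_add, hfix s hs']
  · rintro ⟨f, hf, hfix⟩
    exact key f hf.bilinear hf.nondegenerate hfix

/-- The subgroup structure theorem. -/
theorem unitary_structure (S : UField F q) (hn : 3 ≤ n) (hH : H ≤ GU n F q) :
    InGU q H ∨ Geo.InUnitaryResidualClass H := by
  classical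
  haveI : Nonempty (Fin n) := ⟨⟨0, by omega⟩⟩
  by_cases hirr : Irr H
  swap
  · exact Or.inl (inGU_reducible S hH hirr)
  set Z := Geo.scalars (Fin n) F with hZ
  set G := H ⊔ Z with hG
  have hn1 : 1 < Fintype.card (Fin n) := by simp; omega
  have hGirr : Irr G := fun W hW => hirr W fun g hg => hW g (Subgroup.mem_sup_left hg)
  by_cases hall : ∃ L : Subgroup (GL (Fin n) F), L ≤ G ∧ NormalIn L G ∧ ¬ L ≤ Z ∧
      ¬ Geo.ActsAbsolutelyIrreducibly (Geo.matrixSet L)
  · obtain ⟨L, hLG, hL, hLs, hLa⟩ := hall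
    exact Or.inl (inGU_clifford S (by omega) hH hirr hLG hL hLs hLa)
  push Not at hall
  have hGn : NormalIn G G := fun g hg x hx => mul_mem (mul_mem hg hx) (inv_mem hg)
  obtain ⟨L, ⟨hLG, hL, hLZ, hLne⟩, hLmin⟩ := exists_minimal_of_wellFoundedLT
    (fun L : Subgroup (GL (Fin n) F) => L ≤ G ∧ NormalIn L G ∧ Z ≤ L ∧ L ≠ Z)
    ⟨G, le_rfl, hGn, le_sup_right, fun e => Aschbacher.irr_not_le_scalars hGirr hn1 e.le⟩
  have hLs : ¬ L ≤ Z := fun e => hLne (le_antisymm e hLZ)
  have habs := hall L hLG hL hLs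
  have hmin : ∀ M ≤ L, NormalIn M G → Z ≤ M → M = Z ∨ M = L := fun M hM hMG hZM =>
    or_iff_not_imp_left.mpr fun hne => le_antisymm hM (hLmin ⟨hM.trans hLG, hMG, hZM, hne⟩ hM)
  by_cases h2 : ⁅L, L⁆ ≤ Z
  · obtain ⟨r, R, hRL, hR⟩ := exists_typeTwo_le hn1 hL hLZ habs hmin h2
    exact Or.inl (inGU_typeTwo S hn hH hirr (hRL.trans hLG) hR)
  rcases nonabelian hLG hL hLZ habs hmin h2 with ⟨P, hP, hPL⟩ | ⟨d, t, e, P, φ, M₀, g, hw⟩
  · have hPH : P ≤ H := hPL.trans ((Subgroup.commutator_mono hLG hLG).trans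
      ((commutator_sup_scalars H).trans (Aschbacher.commutator_le_self H)))
    exact inGU_or_residual S hn hH hirr
      ⟨hPH, fun x hx => hP.normal x (Subgroup.mem_sup_left hx), hP.perfect, hP.simple, hP.nonabelian,
        fun x hx => hP.centralizer_scalar x (Subgroup.mem_sup_left hx), hP.absIrred⟩
  · exact Or.inl (inGU_wreath S (by omega) hH hirr hw)

end Cfsg.Agent.MaxSub.Asch
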